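import Cfsg.Agent.LocalEven48.S3Amalgam.Setup

/-!
Amalgams with both residues the symmetric group of degree 3 in which `Ω₁(Z(B))` is central in
exactly one of the two groups: facts at one vertex of the coset graph.
-/

set_option autoImplicit false
set_option linter.style.haveILetI false
set_option linter.unusedSectionVars false

namespace CfsgLib.LocalEven49.Goldschmidt

open Cfsg CfsgLib.LocalEven CfsgLib.LocalEven48.Amalgam
open CfsgLib.LocalEven48.S3Amalgam (conj_mem_stab conj_mem_Q conj_mem_pCoreOf)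

variable {G : Type*} [Group G] {P₁ P₂ : Subgroup G}

/-- A vertex whose `Z` is not central in its stabiliser (a coset of the first group). -/
abbrev IsA (v : CosetVertex P₁ P₂) : Prop := v.isLeft = true

/-- The standing hypothesis, stated at all vertices. -/
structure Hyp (P₁ P₂ : Subgroup G) : Prop where
  pair : IsCharPAmalgamPair 2 P₁ P₂
  card_stab : ∀ v : CosetVertex P₁ P₂,
    Nat.card (MulAction.stabilizer G v) = 6 * Nat.card (vertexQ 2 v)
  cent : ∀ v : CosetVertex P₁ P₂, IsA v → ∀ g ∈ MulAction.stabilizer G v,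
    (∀ z ∈ vertexZ 2 v, g * z = z * g) → g ∈ vertexQ 2 v
  central : ∀ v : CosetVertex P₁ P₂, ¬ IsA v → ∀ g ∈ MulAction.stabilizer G v,
    ∀ z ∈ vertexZ 2 v, g * z = z * g

theorem adj_isA {v w : CosetVertex P₁ P₂} (hn : (cosetGraph P₁ P₂).Adj v w) :
    IsA v ↔ ¬ IsA w := by
  obtain ⟨x, ⟨rfl, rfl⟩ | ⟨rfl, rfl⟩⟩ := adj_iff.mp hn <;> simp [IsA]

theorem smul_isA (g : G) (v : CosetVertex P₁ P₂) : IsA (g • v) ↔ IsA v := by
  obtain ⟨x, rfl | rfl⟩ := vertex_cases v <;> simp [smul_inl_coe, smul_inr_coe]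

theorem exists_smul_vertex {v w : CosetVertex P₁ P₂} (hvw : IsA v ↔ IsA w) :
    ∃ g : G, g • v = w := by
  obtain ⟨x, rfl | rfl⟩ := vertex_cases v <;> obtain ⟨y, rfl | rfl⟩ := vertex_cases w
  · exact ⟨y * x⁻¹, by rw [smul_inl_coe, inv_mul_cancel_right]⟩
  · simp at hvw
  · simp at hvw
  · exact ⟨y * x⁻¹, by rw [smul_inr_coe, inv_mul_cancel_right]⟩

theorem exists_adj (v : CosetVertex P₁ P₂) : ∃ w, (cosetGraph P₁ P₂).Adj v w := by
  obtain ⟨x, rfl | rfl⟩ := vertex_cases v
  · exact ⟨_, adj_inl_inr x⟩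
  · exact ⟨_, (adj_inl_inr x).symm⟩

namespace Hyp

variable (h : Hyp P₁ P₂) {u v n m : CosetVertex P₁ P₂}
include h

theorem finite_stab (v : CosetVertex P₁ P₂) : Finite (MulAction.stabilizer G v) :=
  finite_stabilizer h.pair v

theorem conj_mem_Z (g : G) {x : G} (hx : x ∈ vertexZ 2 v) :
    g * x * g⁻¹ ∈ vertexZ 2 (g • v) := by
  haveI := h.finite_stab v
  show _ ∈ sylowCenterClosure 2 _
  rw [stabilizer_smul_eq]
  exact map_sylowCenterClosure_le g _ ⟨x, hx, rfl⟩

theorem Q_le_stab (v : CosetVertex P₁ P₂) : vertexQ 2 v ≤ MulAction.stabilizer G v :=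
  pCoreOf_le _

theorem Q_fix {x : G} (hx : x ∈ vertexQ 2 v) (hn : (cosetGraph P₁ P₂).Adj v n) :
    x ∈ MulAction.stabilizer G n :=
  neighbourKernel_le_stabilizer_of_adj hn (vertexQ_le_neighbourKernel h.pair v hx)

theorem Q_le_edge (hn : (cosetGraph P₁ P₂).Adj v n) : vertexQ 2 v ≤ edgeStabilizer v n :=
  fun _ hx => ⟨h.Q_le_stab v hx, h.Q_fix hx hn⟩

theorem Z_le_Q (v : CosetVertex P₁ P₂) : vertexZ 2 v ≤ vertexQ 2 v := vertexZ_le_vertexQ h.pair v

theorem Z_le_stab (v : CosetVertex P₁ P₂) : vertexZ 2 v ≤ MulAction.stabilizer G v :=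
  (h.Z_le_Q v).trans (h.Q_le_stab v)

theorem conj_mem_Z_self {g : G} (hg : g ∈ MulAction.stabilizer G v) {x : G}
    (hx : x ∈ vertexZ 2 v) : g * x * g⁻¹ ∈ vertexZ 2 v := by
  have := h.conj_mem_Z g hx
  rwa [MulAction.mem_stabilizer_iff.1 hg] at this

theorem Q_comm_Z {q z : G} (hq : q ∈ vertexQ 2 v) (hz : z ∈ vertexZ 2 v) : q * z = z * q := by
  haveI := h.finite_stab v
  have hle : vertexZ 2 v ≤ Subgroup.centralizer (vertexQ 2 v : Set G) := by
    refine iSup_le fun S => (omegaOne_le _).trans ?_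
    rintro x ⟨-, hc⟩
    exact Subgroup.mem_centralizer_iff.2 fun y hy => Subgroup.mem_centralizer_iff.1 hc y
      (pCoreOf_le_of_card _ _ (Subgroup.map_subtype_le _) (sylow_map_card _ S) hy)
  exact Subgroup.mem_centralizer_iff.1 (hle hz) q hq

theorem Z_comm {z z' : G} (hz : z ∈ vertexZ 2 v) (hz' : z' ∈ vertexZ 2 v) : z * z' = z' * z :=
  h.Q_comm_Z (h.Z_le_Q v hz) hz'

theorem Z_sq {z : G} (hz : z ∈ vertexZ 2 v) : z * z = 1 := by
  suffices vertexZ 2 v ≤ Subgroup.closure {x : G | x ∈ vertexZ 2 v ∧ x * x = 1} by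
    have hz' := this hz
    suffices z ∈ vertexZ 2 v ∧ z * z = 1 from this.2
    refine Subgroup.closure_induction (p := fun x _ => x ∈ vertexZ 2 v ∧ x * x = 1)
      (fun x hx => hx) ⟨one_mem _, one_mul 1⟩ (fun x y _ _ hx hy => ⟨mul_mem hx.1 hy.1, ?_⟩)
      (fun x _ hx => ⟨inv_mem hx.1, by rw [← mul_inv_rev, hx.2, inv_one]⟩) hz'
    rw [mul_assoc, ← mul_assoc y, h.Z_comm hy.1 hx.1, mul_assoc x y, hy.2, mul_one, hx.2]
  refine iSup_le fun S => ?_
  rw [omegaOne]
  refine (Subgroup.closure_le _).2 fun x hx => Subgroup.subset_closure ⟨?_, by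
    have := hx.2; rwa [pow_two] at this⟩
  exact le_iSup (fun S : Sylow 2 (MulAction.stabilizer G v) =>
    omegaOne 2 (((S : Subgroup _).map (MulAction.stabilizer G v).subtype) ⊓
      Subgroup.centralizer (((S : Subgroup _).map (MulAction.stabilizer G v).subtype :
        Subgroup G) : Set G))) S (Subgroup.subset_closure hx)

theorem Z_inv {z : G} (hz : z ∈ vertexZ 2 v) : z⁻¹ = z :=
  inv_eq_of_mul_eq_one_right (h.Z_sq hz)

theorem isPGroup_Q (v : CosetVertex P₁ P₂) : IsPGroup 2 (vertexQ 2 v) := by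
  haveI := h.finite_stab v
  exact ((default : Sylow 2 (MulAction.stabilizer G v)).2.to_le (pCore_le_sylow _)).map _

theorem card_edge (hn : (cosetGraph P₁ P₂).Adj v n) :
    Nat.card (edgeStabilizer v n) = 2 * Nat.card (vertexQ 2 v) := by
  haveI := h.finite_stab v
  haveI : Finite (edgeStabilizer v n) :=
    Finite.of_injective _ (Subgroup.inclusion_injective inf_le_left)
  haveI : Finite (vertexQ 2 v) :=
    Finite.of_injective _ (Subgroup.inclusion_injective (h.Q_le_stab v))
  have hdvd : Nat.card (edgeStabilizer v n) ∣ 6 * Nat.card (vertexQ 2 v) := by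
    rw [← h.card_stab v]; exact Subgroup.card_dvd_of_le inf_le_left
  obtain ⟨c, hc⟩ := Subgroup.card_dvd_of_le (h.Q_le_edge hn)
  have hpos : 0 < Nat.card (vertexQ 2 v) := Nat.card_pos
  rw [hc, mul_comm 6] at hdvd
  have hc6 : c ∣ 6 := Nat.dvd_of_mul_dvd_mul_left hpos hdvd
  obtain ⟨k, hk⟩ := (h.isPGroup_Q v).exists_card_eq
  have hfac : ∀ j : ℕ, (6 * 2 ^ j).factorization 2 = j + 1 := by
    intro j
    rw [show 6 * 2 ^ j = 2 ^ (j + 1) * 3 by ring,
      Nat.factorization_mul (by positivity) (by norm_num), Finsupp.add_apply,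
      Nat.Prime.factorization_pow Nat.prime_two, Finsupp.single_eq_same,
      Nat.factorization_eq_zero_of_not_dvd (by norm_num : ¬ 2 ∣ 3)]
  have e := edge_factorization h.pair hn
  have hc0 : c ≠ 0 := fun h0 => absurd (Nat.eq_zero_of_zero_dvd (h0 ▸ hc6)) (by norm_num)
  rw [h.card_stab v, hc, hk, hfac, Nat.factorization_mul (by positivity) hc0, Finsupp.add_apply,
    Nat.Prime.factorization_pow Nat.prime_two, Finsupp.single_eq_same] at e
  have hc2 : c = 2 ∨ c = 6 := by
    have h1 : 2 ∣ c := by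
      by_contra hno
      rw [Nat.factorization_eq_zero_of_not_dvd hno] at e
      omega
    have := Nat.le_of_dvd (by norm_num) hc6
    interval_cases c <;> first | omega | norm_num at hc6 h1 ⊢
  rcases hc2 with rfl | rfl
  · rw [hc, mul_comm]
  · exfalso
    -- the whole vertex group would fix an edge
    have heq : edgeStabilizer v n = MulAction.stabilizer G v :=
      Subgroup.eq_of_le_of_card_ge inf_le_left (by rw [h.card_stab v, hc, mul_comm])
    obtain ⟨T, hT, hTc, hTc'⟩ := exists_sylow_edge h.pair hn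
    haveI := h.finite_stab n
    haveI : Finite (vertexQ 2 n) :=
      Finite.of_injective _ (Subgroup.inclusion_injective (h.Q_le_stab n))
    have hle : Nat.card (MulAction.stabilizer G v) ∣ Nat.card (MulAction.stabilizer G n) :=
      heq ▸ Subgroup.card_dvd_of_le inf_le_right
    rw [hTc] at hTc'
    have hfv : ∀ w : CosetVertex P₁ P₂, ∀ j, Nat.card (vertexQ 2 w) = 2 ^ j →
        (Nat.card (MulAction.stabilizer G w)).factorization 2 = j + 1 := by
      intro w j hj
      rw [h.card_stab w, hj, hfac]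
    obtain ⟨j, hj⟩ := (h.isPGroup_Q n).exists_card_eq
    rw [hfv v k hk, hfv n j hj] at hTc'
    have hjk : j = k := by
      have := Nat.pow_right_injective (le_refl 2) hTc'
      omega
    have heq' : edgeStabilizer v n = MulAction.stabilizer G n :=
      Subgroup.eq_of_le_of_card_ge inf_le_right
        (by rw [h.card_stab n, hj, hjk, hc, hk, mul_comm])
    have hbot : edgeStabilizer v n = ⊥ := by
      refine eq_bot_of_normalizer_transitive h.pair.1.1 h.pair.1.2.2.2 hn le_rfl
        (fun a a' ha ha' => ?_) (fun a a' ha ha' => ?_)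
      · obtain ⟨g, hg, hga⟩ := exists_smul_neighbour ha ha'
        exact ⟨g, Subgroup.le_normalizer (heq ▸ hg), hg, hga⟩
      · obtain ⟨g, hg, hga⟩ := exists_smul_neighbour ha ha'
        exact ⟨g, Subgroup.le_normalizer (heq' ▸ hg), hg, hga⟩
    have hc1 := congrArg (fun H : Subgroup G => Nat.card H) hbot
    simp only [Subgroup.card_bot] at hc1
    rw [hc, hk] at hc1
    have := Nat.eq_one_of_mul_eq_one_left hc1
    omega

theorem mul_mem_Q (hn : (cosetGraph P₁ P₂).Adj v n) {a b : G} (ha : a ∈ edgeStabilizer v n)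
    (hb : b ∈ edgeStabilizer v n) (ha' : a ∉ vertexQ 2 v) (hb' : b ∉ vertexQ 2 v) :
    a * b ∈ vertexQ 2 v := by
  have hidx : ((vertexQ 2 v).subgroupOf (edgeStabilizer v n)).index = 2 := by
    haveI := h.finite_stab v
    haveI : Finite (vertexQ 2 v) :=
      Finite.of_injective _ (Subgroup.inclusion_injective (h.Q_le_stab v))
    have := ((vertexQ 2 v).subgroupOf (edgeStabilizer v n)).index_mul_card
    rw [Nat.card_congr (Subgroup.subgroupOfEquivOfLe (h.Q_le_edge hn)).toEquiv,
      h.card_edge hn] at this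
    exact Nat.eq_of_mul_eq_mul_right Nat.card_pos this
  have := Subgroup.mul_mem_iff_of_index_two hidx (a := ⟨a, ha⟩) (b := ⟨b, hb⟩)
  simp only [Subgroup.mem_subgroupOf, Subgroup.coe_mul] at this
  exact this.2 ⟨fun hh => absurd hh ha', fun hh => absurd hh hb'⟩

/-- The edge group is maximal in the vertex group. -/
theorem stab_le_of (hn : (cosetGraph P₁ P₂).Adj v n) {C : Subgroup G} (hC : edgeStabilizer v n ≤ C)
    {s : G} (hs : s ∈ MulAction.stabilizer G v) (hsn : s • n ≠ n) (hsC : s ∈ C) :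
    MulAction.stabilizer G v ≤ C := by
  haveI := h.finite_stab v
  set K := C ⊓ MulAction.stabilizer G v
  haveI : Finite K := Finite.of_injective _ (Subgroup.inclusion_injective inf_le_right)
  have h1 : edgeStabilizer v n ≤ K := le_inf hC inf_le_left
  obtain ⟨c, hc⟩ := Subgroup.card_dvd_of_le h1
  have h2 : Nat.card K ∣ Nat.card (MulAction.stabilizer G v) :=
    Subgroup.card_dvd_of_le inf_le_right
  rw [h.card_stab v, hc, h.card_edge hn,
    show 6 * Nat.card (vertexQ 2 v) = 2 * Nat.card (vertexQ 2 v) * 3 by ring] at h2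
  haveI : Finite (vertexQ 2 v) :=
    Finite.of_injective _ (Subgroup.inclusion_injective (h.Q_le_stab v))
  have hpos : 0 < Nat.card (vertexQ 2 v) := Nat.card_pos
  rcases (Nat.dvd_prime Nat.prime_three).1
    (Nat.dvd_of_mul_dvd_mul_left (by omega) h2) with rfl | rfl
  · exfalso
    have := Subgroup.eq_of_le_of_card_ge h1 (by rw [hc, mul_one])
    exact hsn ((this ▸ (⟨hsC, hs⟩ : s ∈ K) : s ∈ edgeStabilizer v n)).2
  · have := Subgroup.eq_of_le_of_card_ge (inf_le_right : K ≤ MulAction.stabilizer G v)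
      (by rw [hc, h.card_edge hn, h.card_stab v]; omega)
    exact this ▸ inf_le_left

/-- An element outside `Q_v` fixes at most one neighbour of `v`. -/
theorem mem_Q_of_fix_two (hn : (cosetGraph P₁ P₂).Adj v n) (hm : (cosetGraph P₁ P₂).Adj v m)
    (hnm : n ≠ m) {s : G} (hs : s ∈ MulAction.stabilizer G v) (hsn : s • n = n) (hsm : s • m = m) :
    s ∈ vertexQ 2 v := by
  haveI := h.finite_stab v
  by_contra hsQ
  have hnle : edgeStabilizer v n ≤ edgeStabilizer v m := by
    intro a ha
    by_cases haQ : a ∈ vertexQ 2 v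
    · exact h.Q_le_edge hm haQ
    · have h1 := h.Q_le_edge hm (h.mul_mem_Q hn (inv_mem (⟨hs, hsn⟩ : s ∈ edgeStabilizer v n)) ha
        (fun hh => hsQ (inv_inv s ▸ inv_mem hh)) haQ)
      simpa using mul_mem (⟨hs, hsm⟩ : s ∈ edgeStabilizer v m) h1
  haveI : Finite (edgeStabilizer v m) :=
    Finite.of_injective _ (Subgroup.inclusion_injective inf_le_left)
  have heq := Subgroup.eq_of_le_of_card_ge hnle (by rw [h.card_edge hn, h.card_edge hm])
  obtain ⟨g, hg, hgm⟩ := exists_smul_neighbour hn hm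
  have hnorm : g ∈ Subgroup.normalizer (edgeStabilizer v n : Set G) := by
    refine Subgroup.mem_normalizer_iff_map_conj_eq.2 ?_
    haveI : Finite (edgeStabilizer v n) :=
      Finite.of_injective _ (Subgroup.inclusion_injective inf_le_left)
    refine Subgroup.eq_of_le_of_card_ge ?_ (by
      rw [Subgroup.card_map_of_injective (MulAut.conj g).injective])
    rintro _ ⟨a, ha, rfl⟩
    have e1 := conj_mem_stab g ha.1
    have e2 := conj_mem_stab g ha.2
    rw [MulAction.mem_stabilizer_iff.1 hg] at e1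
    rw [hgm] at e2
    show g * a * g⁻¹ ∈ edgeStabilizer v n
    rw [heq]
    exact ⟨e1, e2⟩
  have hall := h.stab_le_of hn Subgroup.le_normalizer hg (by rw [hgm]; exact Ne.symm hnm) hnorm
  haveI : Finite (edgeStabilizer v n) :=
    Finite.of_injective _ (Subgroup.inclusion_injective inf_le_left)
  have hnormal : ((edgeStabilizer v n).subgroupOf (MulAction.stabilizer G v)).Normal :=
    (Subgroup.normal_subgroupOf_iff_le_normalizer inf_le_left).2 hall
  have hp : IsPGroup 2 ((edgeStabilizer v n).subgroupOf (MulAction.stabilizer G v)) := by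
    haveI : Finite (vertexQ 2 v) :=
      Finite.of_injective _ (Subgroup.inclusion_injective (h.Q_le_stab v))
    obtain ⟨k, hk⟩ := (h.isPGroup_Q v).exists_card_eq
    exact IsPGroup.of_card (n := k + 1) (by
      rw [Nat.card_congr (Subgroup.subgroupOfEquivOfLe
        (inf_le_left : edgeStabilizer v n ≤ MulAction.stabilizer G v)).toEquiv, h.card_edge hn, hk]
      ring)
  have hcore : (edgeStabilizer v n).subgroupOf (MulAction.stabilizer G v) ≤
      pCore 2 (MulAction.stabilizer G v) := le_sSup ⟨hnormal, hp⟩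
  exact hsQ ⟨⟨s, hs⟩, hcore (Subgroup.mem_subgroupOf.2
    (show s ∈ edgeStabilizer v n from ⟨hs, hsn⟩)), rfl⟩

theorem moves (hn : (cosetGraph P₁ P₂).Adj v n) (hm : (cosetGraph P₁ P₂).Adj v m) (hnm : n ≠ m)
    {s : G} (hs : s ∈ edgeStabilizer v n) (hsQ : s ∉ vertexQ 2 v) : s • m ≠ m :=
  fun hh => hsQ (h.mem_Q_of_fix_two hn hm hnm hs.1 hs.2 hh)

/-- A vertex has exactly three neighbours. -/
theorem neighbour_cases {x : CosetVertex P₁ P₂} (hn : (cosetGraph P₁ P₂).Adj v n)
    (hm : (cosetGraph P₁ P₂).Adj v m) (hnm : n ≠ m)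
    {s : G} (hs : s ∈ edgeStabilizer v n) (hsQ : s ∉ vertexQ 2 v)
    (hx : (cosetGraph P₁ P₂).Adj v x) : x = n ∨ x = m ∨ x = s • m := by
  classical
  haveI := h.finite_stab v
  set H := MulAction.stabilizer G v
  have horb : MulAction.orbit H n = {y | (cosetGraph P₁ P₂).Adj v y} := by
    ext y
    constructor
    · rintro ⟨g, rfl⟩
      have := adj_smul (g : G) hn
      rwa [MulAction.mem_stabilizer_iff.1 g.2] at this
    · intro hy
      obtain ⟨g, hg, hgy⟩ := exists_smul_neighbour hn hy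
      exact ⟨⟨g, hg⟩, hgy⟩
  have hcard : (MulAction.orbit H n).ncard = 3 := by
    refine (MulAction.index_stabilizer H n).symm.trans ?_
    have hsub : MulAction.stabilizer H n = (edgeStabilizer v n).subgroupOf H := by
      ext g
      exact ⟨fun hh => Subgroup.mem_subgroupOf.2 ⟨g.2, hh⟩,
        fun hh => (Subgroup.mem_subgroupOf.1 hh).2⟩
    have := (MulAction.stabilizer H n).index_mul_card
    rw [hsub, Nat.card_congr (Subgroup.subgroupOfEquivOfLe
      (inf_le_left : edgeStabilizer v n ≤ H)).toEquiv, h.card_edge hn, h.card_stab v] at this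
    rw [hsub]
    haveI : Finite (vertexQ 2 v) :=
      Finite.of_injective _ (Subgroup.inclusion_injective (h.Q_le_stab v))
    have hpos : 0 < Nat.card (vertexQ 2 v) := Nat.card_pos
    nlinarith
  rw [horb] at hcard
  have hsm : (cosetGraph P₁ P₂).Adj v (s • m) := by
    have := adj_smul s hm
    rwa [MulAction.mem_stabilizer_iff.1 hs.1] at this
  have h1 := h.moves hn hm hnm hs hsQ
  have h2 : s • m ≠ n := fun hh => hnm (by
    rw [← MulAction.mem_stabilizer_iff.1 hs.2] at hh
    exact (MulAction.injective s hh).symm)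
  by_contra hne
  push Not at hne
  have hsub : ({x, n, m, s • m} : Set (CosetVertex P₁ P₂)) ⊆ {y | (cosetGraph P₁ P₂).Adj v y} := by
    intro y hy
    simp only [Set.mem_insert_iff, Set.mem_singleton_iff] at hy
    rcases hy with rfl | rfl | rfl | rfl <;> assumption
  have hle := Set.ncard_le_ncard hsub (Set.finite_of_ncard_pos (by rw [hcard]; norm_num))
  rw [hcard, Set.ncard_insert_of_notMem (by
      simp only [Set.mem_insert_iff, Set.mem_singleton_iff, not_or]
      exact ⟨hne.1, hne.2.1, hne.2.2⟩) (Set.toFinite _),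
    Set.ncard_insert_of_notMem (by
      simp only [Set.mem_insert_iff, Set.mem_singleton_iff, not_or]
      exact ⟨hnm, Ne.symm h2⟩) (Set.toFinite _),
    Set.ncard_pair (Ne.symm h1)] at hle
  omega

/-- The cores of the two ends of an edge differ. -/
theorem exists_Q_diff (hn : (cosetGraph P₁ P₂).Adj v n) :
    ∃ q ∈ vertexQ 2 v, q ∉ vertexQ 2 n := by
  by_contra hcon
  push Not at hcon
  haveI := h.finite_stab n
  haveI : Finite (vertexQ 2 n) :=
    Finite.of_injective _ (Subgroup.inclusion_injective (h.Q_le_stab n))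
  haveI := h.finite_stab v
  haveI : Finite (vertexQ 2 v) :=
    Finite.of_injective _ (Subgroup.inclusion_injective (h.Q_le_stab v))
  have hcard : Nat.card (edgeStabilizer n v) = Nat.card (edgeStabilizer v n) := by
    rw [edgeStabilizer, edgeStabilizer, inf_comm]
  rw [h.card_edge hn.symm, h.card_edge hn] at hcard
  have heq : vertexQ 2 v = vertexQ 2 n := Subgroup.eq_of_le_of_card_ge hcon (by omega)
  have hnorm : ∀ w : CosetVertex P₁ P₂,
      MulAction.stabilizer G w ≤ Subgroup.normalizer (vertexQ 2 w : Set G) := by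
    intro w g hg
    have key : ∀ g ∈ MulAction.stabilizer G w, ∀ y ∈ vertexQ 2 w, g * y * g⁻¹ ∈ vertexQ 2 w :=
      fun g hg y hy => by
        have := conj_mem_Q g hy
        rwa [MulAction.mem_stabilizer_iff.1 hg] at this
    refine Subgroup.mem_normalizer_iff.2 fun y => ⟨key g hg y, fun hy => ?_⟩
    have := key g⁻¹ (inv_mem hg) _ hy
    rwa [show g⁻¹ * (g * y * g⁻¹) * g⁻¹⁻¹ = y by group] at this
  have hbot : vertexQ 2 v = ⊥ := by
    refine eq_bot_of_normalizer_transitive h.pair.1.1 h.pair.1.2.2.2 hn (h.Q_le_edge hn)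
      (fun a a' ha ha' => ?_) (fun a a' ha ha' => ?_)
    · obtain ⟨g, hg, hga⟩ := exists_smul_neighbour ha ha'
      exact ⟨g, hnorm v hg, hg, hga⟩
    · obtain ⟨g, hg, hga⟩ := exists_smul_neighbour ha ha'
      exact ⟨g, heq ▸ hnorm n hg, hg, hga⟩
  have hle : MulAction.stabilizer G v ≤ ⊥ := fun g hg => by
    refine hbot ▸ vertex_charP h.pair v ⟨hg, Subgroup.mem_centralizer_iff.2 fun y hy => ?_⟩
    have : y = 1 := Subgroup.mem_bot.1 (hbot ▸ hy)
    rw [this, mul_one, one_mul]
  have := Subgroup.card_bot (G := G)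
  rw [← le_bot_iff.1 hle, h.card_stab v] at this
  omega

theorem adj_smul_self {g : G} (hg : g ∈ MulAction.stabilizer G v)
    (hn : (cosetGraph P₁ P₂).Adj v n) : (cosetGraph P₁ P₂).Adj v (g • n) := by
  have := adj_smul g hn
  rwa [MulAction.mem_stabilizer_iff.1 hg] at this

theorem exists_other (hn : (cosetGraph P₁ P₂).Adj v n) :
    ∃ m, (cosetGraph P₁ P₂).Adj v m ∧ m ≠ n := by
  by_contra hcon
  push Not at hcon
  haveI := h.finite_stab v
  haveI : Finite (vertexQ 2 v) :=
    Finite.of_injective _ (Subgroup.inclusion_injective (h.Q_le_stab v))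
  have hle : MulAction.stabilizer G v ≤ edgeStabilizer v n :=
    fun g hg => ⟨hg, hcon _ (h.adj_smul_self hg hn)⟩
  haveI : Finite (edgeStabilizer v n) :=
    Finite.of_injective _ (Subgroup.inclusion_injective inf_le_left)
  have := Nat.le_of_dvd Nat.card_pos (Subgroup.card_dvd_of_le hle)
  rw [h.card_stab v, h.card_edge hn] at this
  have : 0 < Nat.card (vertexQ 2 v) := Nat.card_pos
  omega

theorem two_transitive {x y x' y' : CosetVertex P₁ P₂} (hx : (cosetGraph P₁ P₂).Adj v x)
    (hy : (cosetGraph P₁ P₂).Adj v y) (hxy : x ≠ y) (hx' : (cosetGraph P₁ P₂).Adj v x')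
    (hy' : (cosetGraph P₁ P₂).Adj v y') (hxy' : x' ≠ y') :
    ∃ g ∈ MulAction.stabilizer G v, g • x = x' ∧ g • y = y' := by
  obtain ⟨g, hg, hgx⟩ := exists_smul_neighbour hx hx'
  obtain ⟨s, hs, hs'⟩ := h.exists_Q_diff hx'.symm
  have hse : s ∈ edgeStabilizer v x' := ⟨h.Q_fix hs hx'.symm, h.Q_le_stab _ hs⟩
  rcases h.neighbour_cases hx' hy' hxy' hse hs' (h.adj_smul_self hg hy) with e | e | e
  · exact absurd (MulAction.injective g (e.trans hgx.symm)) (Ne.symm hxy)
  · exact ⟨g, hg, hgx, e⟩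
  · refine ⟨s⁻¹ * g, mul_mem (inv_mem hse.1) hg, ?_, ?_⟩
    · rw [mul_smul, hgx, inv_smul_eq_iff]
      exact hse.2.symm
    · rw [mul_smul, e, inv_smul_smul]


end Hyp

end CfsgLib.LocalEven49.Goldschmidt
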