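import Cfsg.Agent.LocalEven49.Goldschmidt.Walks

/-!
Facts used in several cases: transport along the action, and the case `|Z_n| = 2`.
-/

set_option autoImplicit false
set_option linter.style.haveILetI false
set_option linter.unusedSectionVars false

namespace CfsgLib.LocalEven49.Goldschmidt

open Cfsg CfsgLib.LocalEven CfsgLib.LocalEven48.Amalgam
open CfsgLib.LocalEven48.S3Amalgam (conj_mem_stab conj_mem_Q)

variable {G : Type*} [Group G] {P₁ P₂ : Subgroup G}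

/-- At every edge, `Z_a` is at most two cosets of `Z_n`. -/
def Small (P₁ P₂ : Subgroup G) : Prop :=
  ∀ a n : CosetVertex P₁ P₂, IsA a → (cosetGraph P₁ P₂).Adj a n → ∀ z ∈ vertexZ 2 a,
    ∀ z' ∈ vertexZ 2 a, z ∉ vertexZ 2 n → z' ∉ vertexZ 2 n → z * z' ∈ vertexZ 2 n

/-- The part of `Q_n` centralising `V_n`. -/
def Kc (n : CosetVertex P₁ P₂) : Subgroup G :=
  vertexQ 2 n ⊓ Subgroup.centralizer (V n : Set G)

theorem mem_Kc {n : CosetVertex P₁ P₂} {x : G} :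
    x ∈ Kc n ↔ x ∈ vertexQ 2 n ∧ ∀ y ∈ V n, x * y = y * x := by
  rw [Kc, Subgroup.mem_inf, Subgroup.mem_centralizer_iff]
  exact ⟨fun hh => ⟨hh.1, fun y hy => (hh.2 y hy).symm⟩,
    fun hh => ⟨hh.1, fun y hy => (hh.2 y hy).symm⟩⟩

namespace Hyp

variable (h : Hyp P₁ P₂) {v a n m : CosetVertex P₁ P₂} {k : ℕ}
include h

theorem edge_transitive (hA : IsA a) (hn : (cosetGraph P₁ P₂).Adj a n) {a' n' : CosetVertex P₁ P₂}
    (hA' : IsA a') (hn' : (cosetGraph P₁ P₂).Adj a' n') : ∃ g : G, g • a = a' ∧ g • n = n' := by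
  obtain ⟨g, hg⟩ := exists_smul_vertex (iff_of_true hA hA')
  have h1 : (cosetGraph P₁ P₂).Adj a' (g • n) := hg ▸ adj_smul g hn
  obtain ⟨f, hf, hfn⟩ := exists_smul_neighbour h1 hn'
  exact ⟨f * g, by rw [mul_smul, hg, MulAction.mem_stabilizer_iff.1 hf],
    by rw [mul_smul, hfn]⟩

theorem pair_transitive (hn : ¬ IsA n) {a b : CosetVertex P₁ P₂}
    (ha : (cosetGraph P₁ P₂).Adj n a) (hb : (cosetGraph P₁ P₂).Adj n b) (hab : a ≠ b)
    {n' a' b' : CosetVertex P₁ P₂} (hn' : ¬ IsA n') (ha' : (cosetGraph P₁ P₂).Adj n' a')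
    (hb' : (cosetGraph P₁ P₂).Adj n' b') (hab' : a' ≠ b') :
    ∃ g : G, g • n = n' ∧ g • a = a' ∧ g • b = b' := by
  obtain ⟨g, hg⟩ := exists_smul_vertex (iff_of_false hn hn')
  have h1 : (cosetGraph P₁ P₂).Adj n' (g • a) := hg ▸ adj_smul g ha
  have h2 : (cosetGraph P₁ P₂).Adj n' (g • b) := hg ▸ adj_smul g hb
  obtain ⟨f, hf, hfa, hfb⟩ := h.two_transitive h1 h2
    (fun e => hab (MulAction.injective g e)) ha' hb' hab'
  exact ⟨f * g, by rw [mul_smul, hg, MulAction.mem_stabilizer_iff.1 hf],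
    by rw [mul_smul, hfa], by rw [mul_smul, hfb]⟩

theorem small_of_one (hA : IsA a) (hn : (cosetGraph P₁ P₂).Adj a n)
    (hs : ∀ z ∈ vertexZ 2 a, ∀ z' ∈ vertexZ 2 a, z ∉ vertexZ 2 n → z' ∉ vertexZ 2 n →
      z * z' ∈ vertexZ 2 n) : Small P₁ P₂ := by
  intro a' n' hA' hn' z hz z' hz' hzn hzn'
  obtain ⟨g, hga, hgn⟩ := h.edge_transitive hA hn hA' hn'
  have back : ∀ {x : G} {u u' : CosetVertex P₁ P₂}, g • u = u' → x ∈ vertexZ 2 u' →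
      g⁻¹ * x * g⁻¹⁻¹ ∈ vertexZ 2 u := fun {x u u'} e hx => by
    have := h.conj_mem_Z g⁻¹ hx
    rwa [← e, inv_smul_smul] at this
  have out : ∀ {x : G}, x ∉ vertexZ 2 n' → g⁻¹ * x * g⁻¹⁻¹ ∉ vertexZ 2 n := fun {x} hx hh => hx (by
    have := h.conj_mem_Z g hh
    rwa [hgn, show g * (g⁻¹ * x * g⁻¹⁻¹) * g⁻¹ = x by group] at this)
  have := h.conj_mem_Z g (hs _ (back hga hz) _ (back hga hz') (out hzn) (out hzn'))
  rwa [hgn, show g * (g⁻¹ * z * g⁻¹⁻¹ * (g⁻¹ * z' * g⁻¹⁻¹)) * g⁻¹ = z * z' by group] at this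

theorem ZB_unique (hs : Small P₁ P₂) (hn : ¬ IsA n) {r r' : G} (hr : r ∈ vertexZ 2 n)
    (hr' : r' ∈ vertexZ 2 n) (h1 : r ≠ 1) (h1' : r' ≠ 1) : r = r' := by
  obtain ⟨a, ha⟩ := exists_adj n
  have hA := h.isA_of_adj hn ha
  obtain ⟨m, hm, hmn⟩ := h.exists_other ha.symm
  obtain ⟨k3, g, c⟩ := h.exists_cyc ha.symm hm hmn.symm
  have h2 : ∀ {x : G}, x ∈ vertexZ 2 n → g * x * g⁻¹ ∈ vertexZ 2 m := fun {x} hx => by
    have := h.conj_mem_Z g hx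
    rwa [c.map₁] at this
  have h3 : ∀ {x : G}, x ∈ vertexZ 2 n → x ≠ 1 → g * x * g⁻¹ ∉ vertexZ 2 n := fun {x} hx hx1 hh =>
    hx1 (conj_eq_one_iff.1 (h.ZB_inter hA ha.symm hm hmn.symm hh (h2 hx)))
  have h4 := hs a n hA ha.symm _ (h.ZB_le hA hm (h2 hr)) _ (h.ZB_le hA hm (h2 hr'))
    (h3 hr h1) (h3 hr' h1')
  have h5 := h.ZB_inter hA ha.symm hm hmn.symm h4 (mul_mem (h2 hr) (h2 hr'))
  rw [show g * r * g⁻¹ * (g * r' * g⁻¹) = g * (r * r') * g⁻¹ by group] at h5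
  rw [eq_inv_of_mul_eq_one_left (conj_eq_one_iff.1 h5), h.Z_inv hr']

theorem exists_ZB (n : CosetVertex P₁ P₂) : ∃ r ∈ vertexZ 2 n, r ≠ 1 :=
  (vertexZ 2 n).bot_or_exists_ne_one.resolve_left (h.Z_ne_bot n)

theorem comm_ne_one (hn : (cosetGraph P₁ P₂).Adj a n) {z s : G} (hz : z ∈ vertexZ 2 a)
    (hzn : z ∉ vertexZ 2 n) (hs : s ∈ edgeStabilizer a n) (hsQ : s ∉ vertexQ 2 a) :
    z * (s * z * s⁻¹) ≠ 1 := fun e => hzn (by
  refine h.mem_ZB_of_comm_swap hn hz hs hsQ (mul_inv_eq_iff_eq_mul.1 ?_)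
  rw [eq_inv_of_mul_eq_one_right e, h.Z_inv hz])

/-- Only three neighbours. -/
theorem nbr_three {b c x : CosetVertex P₁ P₂} (ha : (cosetGraph P₁ P₂).Adj v a)
    (hb : (cosetGraph P₁ P₂).Adj v b) (hc : (cosetGraph P₁ P₂).Adj v c) (hab : a ≠ b)
    (hac : a ≠ c) (hbc : b ≠ c) (hx : (cosetGraph P₁ P₂).Adj v x) : x = a ∨ x = b ∨ x = c := by
  obtain ⟨s, hs, hsQ⟩ := h.exists_swap ha
  rcases h.neighbour_cases ha hb hab hs hsQ hx with e | e | e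
  · exact Or.inl e
  · exact Or.inr (Or.inl e)
  · exact Or.inr (Or.inr (e.trans (h.swap_eq ha hb hc hab hac hbc hs hsQ)))

theorem third (ha : (cosetGraph P₁ P₂).Adj v a) (hm : (cosetGraph P₁ P₂).Adj v m) (ham : a ≠ m) :
    ∃ c, (cosetGraph P₁ P₂).Adj v c ∧ a ≠ c ∧ m ≠ c := by
  obtain ⟨c, g, hc⟩ := h.exists_cyc ha hm ham
  exact ⟨c, hc.adj₃, hc.ne₁₃, hc.ne₂₃⟩

theorem Kc_normal (n : CosetVertex P₁ P₂) :
    MulAction.stabilizer G n ≤ Subgroup.normalizer (Kc n : Set G) := fun g hg => by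
  haveI := h.finite_Q n
  haveI : Finite (Kc n) :=
    Finite.of_injective _ (Subgroup.inclusion_injective (inf_le_left : Kc n ≤ vertexQ 2 n))
  refine mem_normalizer_of_conj fun x hx => mem_Kc.2 ⟨h.normalizer_Q n hg (mem_Kc.1 hx).1,
    fun y hy => ?_⟩
  have hy' := h.conj_mem_V_self (inv_mem hg) hy
  have e := (mem_Kc.1 hx).2 _ hy'
  calc g * x * g⁻¹ * y = g * (x * (g⁻¹ * y * g⁻¹⁻¹)) * g⁻¹ := by group
    _ = g * (g⁻¹ * y * g⁻¹⁻¹ * x) * g⁻¹ := by rw [e]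
    _ = y * (g * x * g⁻¹) := by group

theorem Q_inter_le_Kc {b c : CosetVertex P₁ P₂} (ha : (cosetGraph P₁ P₂).Adj n a)
    (hb : (cosetGraph P₁ P₂).Adj n b) (hc : (cosetGraph P₁ P₂).Adj n c) (hab : a ≠ b)
    (hac : a ≠ c) (hbc : b ≠ c) :
    vertexQ 2 n ⊓ vertexQ 2 a ⊓ vertexQ 2 b ⊓ vertexQ 2 c ≤ Kc n := by
  rintro x ⟨⟨⟨hn, ha'⟩, hb'⟩, hc'⟩
  refine mem_Kc.2 ⟨hn, fun y hy => h.comm_V (fun w hw z hz => ?_) hy⟩
  rcases h.nbr_three ha hb hc hab hac hbc hw with e | e | e <;> rw [e] at hz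
  · exact h.Q_comm_Z ha' hz
  · exact h.Q_comm_Z hb' hz
  · exact h.Q_comm_Z hc' hz

theorem card_edge_eq_base (hA : IsA a) (hn : (cosetGraph P₁ P₂).Adj a n) :
    Nat.card (edgeStabilizer a n) = Nat.card ↥(P₁ ⊓ P₂) := by
  have e0 : edgeStabilizer (Sum.inl ((1 : G) : G ⧸ P₁) : CosetVertex P₁ P₂)
      (Sum.inr ((1 : G) : G ⧸ P₂)) = P₁ ⊓ P₂ := by
    rw [edgeStabilizer, stabilizer_inl_one, stabilizer_inr_one]
  obtain ⟨g, hga, -⟩ := h.edge_transitive hA hn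
    (a' := Sum.inl ((1 : G) : G ⧸ P₁)) rfl (adj_inl_inr 1)
  rw [← e0, h.edge_card_eq hn, h.edge_card_eq (adj_inl_inr 1), ← hga, stabilizer_smul_eq,
    Subgroup.card_map_of_injective (MulAut.conj g).injective]

end Hyp

end CfsgLib.LocalEven49.Goldschmidt
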