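import Cfsg.Agent.LocalEven49.Goldschmidt.Tools

/-!
An even critical distance is at most 2.
-/

set_option autoImplicit false
set_option linter.style.haveILetI false
set_option linter.unusedSectionVars false

namespace CfsgLib.LocalEven49.Goldschmidt

open Cfsg CfsgLib.LocalEven CfsgLib.LocalEven48.Amalgam
open CfsgLib.LocalEven48.S3Amalgam (conj_mem_stab conj_mem_Q)

variable {G : Type*} [Group G] {P₁ P₂ : Subgroup G}

namespace Hyp

variable (h : Hyp P₁ P₂) {p : ℕ → CosetVertex P₁ P₂} {k : ℕ}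
include h

theorem even_isA (hc : Crit k p) (heven : Even k) : IsA (p k) :=
  (walk_isA hc.adj k le_rfl).2 (iff_of_true hc.isA heven)

theorem even_mutual (hk : 1 ≤ k) (hmin : MinDist P₁ P₂ k) (hc : Crit k p) (heven : Even k) :
    ¬ vertexZ 2 (p k) ≤ vertexQ 2 (p 0) := by
  intro hle
  have hd := h.dist_walk hc.adj (Nat.zero_le k) le_rfl
  refine hc.ne_le fun z hz => h.cent _ (h.even_isA hc heven) z
    (h.Z_le_stab_of_dist hk hmin hc.isA (by omega) hz) fun u hu => ?_
  exact (h.Q_comm_Z (hle hu) hz).symm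

theorem even_Z_le (hk : 4 ≤ k) (hmin : MinDist P₁ P₂ k) (hc : Crit k p) (heven : Even k) :
    vertexZ 2 (p 1) ≤ vertexZ 2 (p (k - 1)) := by
  have hA := h.even_isA hc heven
  obtain ⟨t, ht, htQ⟩ := SetLike.not_le_iff_exists.1 (h.even_mutual (by omega) hmin hc heven)
  have d1 := h.dist_walk' hc.adj (Nat.zero_le k) le_rfl
  have d2 := h.dist_walk' hc.adj (show 1 ≤ k by omega) le_rfl
  have hte : t ∈ edgeStabilizer (p 0) (p 1) :=
    ⟨h.Z_le_stab_of_dist (by omega) hmin hA (by omega) ht,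
      h.Z_le_stab_of_dist (by omega) hmin hA (by omega) ht⟩
  intro r hr
  obtain ⟨z, hz, rfl⟩ := h.ZB_surj hc.isA (hc.adj 0 (by omega)) hr hte htQ
  have hadj : (cosetGraph P₁ P₂).Adj (p k) (p (k - 1)) := by
    have := hc.adj (k - 1) (by omega)
    rw [show k - 1 + 1 = k by omega] at this
    exact this.symm
  have d3 := h.dist_walk hc.adj (Nat.zero_le k) le_rfl
  have d4 := h.dist_walk hc.adj (Nat.zero_le (k - 1)) (by omega)
  have := inv_mem (h.comm_mem_ZB hadj ht (s := z)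
    ⟨h.Z_le_stab_of_dist (by omega) hmin hc.isA (by omega) hz,
      h.Z_le_stab_of_dist (by omega) hmin hc.isA (by omega) hz⟩)
  rwa [h.Z_inv hz, show (t * (z * t * z))⁻¹ = z⁻¹ * t⁻¹ * z⁻¹ * t⁻¹ by group, h.Z_inv hz,
    show z * t⁻¹ * z * t⁻¹ = z * (t⁻¹ * z * t⁻¹) by group,
    show t⁻¹ * z * t⁻¹ = t * z * t⁻¹ by rw [h.Z_inv ht]] at this

theorem even_false (hk : 4 ≤ k) (hmin : MinDist P₁ P₂ k) (hc : Crit k p) (heven : Even k) :
    False := by
  have hwalk := h.crit_nb hmin hc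
  have hA := hc.isA
  have hAk := h.even_isA hc heven
  have h01 := hc.adj 0 (by omega)
  have hB1 : ¬ IsA (p 1) := (adj_isA h01).1 hA
  have hstep := h.even_Z_le hk hmin hc heven
  have hparity : ∀ i ≤ k, (IsA (p i) ↔ Even i) := fun i hi => by
    have := walk_isA hc.adj i hi
    tauto
  have hA2 : IsA (p (k - 2)) := (hparity _ (by omega)).2 (by
    rw [Nat.even_sub (by omega)]; exact iff_of_true heven even_two)
  have hadj1 : (cosetGraph P₁ P₂).Adj (p (k - 1)) (p k) := by
    have := hc.adj (k - 1) (by omega)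
    rwa [show k - 1 + 1 = k by omega] at this
  have hadj2 : (cosetGraph P₁ P₂).Adj (p (k - 2)) (p (k - 1)) := by
    have := hc.adj (k - 2) (by omega)
    rwa [show k - 2 + 1 = k - 1 by omega] at this
  have hadj3 : (cosetGraph P₁ P₂).Adj (p (k - 3)) (p (k - 2)) := by
    have := hc.adj (k - 3) (by omega)
    rwa [show k - 3 + 1 = k - 2 by omega] at this
  -- `Z_λ ≤ Z_{k-3}` is impossible
  have fin : ∀ l, (cosetGraph P₁ P₂).Adj (p 0) l → l ≠ p 1 →
      vertexZ 2 l ≤ vertexZ 2 (p (k - 3)) → False := by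
    intro l hl hl1 hle
    have h1 : vertexZ 2 (p 0) ≤ vertexZ 2 (p (k - 2)) :=
      (h.Z_le_sup hA hl h01 hl1).trans (sup_le (hle.trans (h.ZB_le hA2 hadj3.symm))
        (hstep.trans (h.ZB_le hA2 hadj2)))
    have d := h.dist_walk hc.adj (show k - 2 ≤ k by omega) le_rfl
    exact hc.ne_le (h1.trans (hmin _ _ hA2 (by omega)))
  obtain ⟨l, hl, hl1⟩ := h.exists_other h01
  have hBl : ¬ IsA l := (adj_isA hl).1 hA
  by_cases hshift : V l ≤ vertexQ 2 (p (k - 2))
  swap
  · have : ∃ l', (cosetGraph P₁ P₂).Adj l l' ∧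
        ¬ vertexZ 2 l' ≤ vertexQ 2 (p (k - 2)) := by
      by_contra hh
      push Not at hh
      exact hshift (V_le hh)
    obtain ⟨l', hl', hno⟩ := this
    have hc' := h.crit_cons hmin hc (by omega) hl hl' hno
    have := h.even_Z_le hk hmin hc' heven
    obtain ⟨j, rfl⟩ : ∃ j, k = j + 3 := ⟨k - 3, by omega⟩
    simp only [show j + 3 - 1 = j + 1 + 1 by omega, cons_succ, cons_zero] at this
    exact fin l hl hl1 (by simpa using this)
  have hdl : ∀ i ≤ k, (cosetGraph P₁ P₂).dist l (p i) ≤ i + 1 := fun i hi => by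
    have h1 := h.dist_step' (w := p i) hl.symm
    have h2 := h.dist_walk hc.adj (Nat.zero_le i) hi
    omega
  have hfix2 : ∀ x ∈ V l, x ∈ MulAction.stabilizer G (p (k - 1)) := fun x hx =>
    h.Q_fix (hshift hx) hadj2
  by_cases hQ1 : V l ≤ vertexQ 2 (p (k - 1))
  · obtain ⟨t, ht, htQ⟩ := SetLike.not_le_iff_exists.1 (h.even_mutual (by omega) hmin hc heven)
    have d1 := h.dist_walk' hc.adj (Nat.zero_le k) le_rfl
    have d2 := h.dist_walk' hc.adj (show 1 ≤ k by omega) le_rfl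
    have hte : t ∈ edgeStabilizer (p 0) (p 1) :=
      ⟨h.Z_le_stab_of_dist (by omega) hmin hAk (by omega) ht,
        h.Z_le_stab_of_dist (by omega) hmin hAk (by omega) ht⟩
    have hback : vertexZ 2 (p (k - 1)) ≤ vertexZ 2 (p 1) := by
      have := h.even_Z_le hk hmin
        (h.crit_rev hc hAk (h.even_mutual (by omega) hmin hc heven)) heven
      simpa [rev, show k - (k - 1) = 1 by omega] using this
    refine h.V_not_le (by omega) hmin hA hl hte.1
      (h.moves h01 hl hl1.symm hte htQ) fun x hx => ?_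
    have hxe : x⁻¹ ∈ edgeStabilizer (p k) (p (k - 1)) :=
      ⟨h.Q_fix ((vertexQ 2 _).inv_mem (hQ1 hx)) hadj1, (MulAction.stabilizer G _).inv_mem (hfix2 x hx)⟩
    have h1 : t * (x⁻¹ * t * x⁻¹⁻¹) ∈ V l :=
      Z_le_V hl.symm (h.ZB_le hA h01 (hback (h.comm_mem_ZB hadj1.symm ht hxe)))
    have h2 : x⁻¹ * t * x⁻¹⁻¹ * t = t * (x⁻¹ * t * x⁻¹⁻¹) :=
      h.Z_comm (h.conj_mem_Z_self hxe.1 ht) ht
    have := mul_mem hx (h2 ▸ h1)
    rwa [inv_inv, show x * (x⁻¹ * t * x * t) = t * x * t by group,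
      show t * x * t = t * x * t⁻¹ by rw [h.Z_inv ht]] at this
  obtain ⟨v, hv, hvQ⟩ := SetLike.not_le_iff_exists.1 hQ1
  have hw : IsWalk k (cons l p) := by
    have := (hwalk.prefix (show k - 1 ≤ k by omega)).cons hl.symm fun _ => hl1
    rwa [show k - 1 + 1 = k by omega] at this
  have hek : cons l p k = p (k - 1) := by
    obtain ⟨j, rfl⟩ : ∃ j, k = j + 1 := ⟨k - 1, by omega⟩
    simp
  have hmB : HasMover k (cons l p) := by
    refine ⟨v, fun i hi => ?_, hek ▸ hvQ⟩
    cases i with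
    | zero => exact MulAction.mem_stabilizer_iff.1 (h.Q_le_stab l (h.V_le_Q (by omega) hmin hBl hv))
    | succ i =>
      rw [cons_succ]
      rcases Nat.lt_or_ge i (k - 1) with hi' | hi'
      · refine MulAction.mem_stabilizer_iff.1 (h.V_le_stab_of_dist (by omega) hmin hBl ?_ hv)
        have := hdl i (by omega)
        omega
      · rw [show i = k - 1 by omega]
        exact MulAction.mem_stabilizer_iff.1 (hfix2 v hv)
  have htrans := h.transitive_of_movers hwalk hAk (h.crit_mover (by omega) hmin hc) hw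
    (hek ▸ (adj_isA hadj2).1 hA2) hmB (k - 2) (by omega)
  obtain ⟨g, hg⟩ := htrans (fun i => p (1 + i)) (cons l p) (hwalk.shift (by omega))
    (hw.prefix (by omega)) (iff_of_false (by simpa using hB1) (by simpa using hBl))
  refine fin l hl hl1 fun r hr => ?_
  have e0 : g • p 1 = l := by simpa using hg 0 (Nat.zero_le _)
  have e1 : g • p (k - 1) = p (k - 3) := by
    have := hg (k - 2) le_rfl
    obtain ⟨j, rfl⟩ : ∃ j, k = j + 3 := ⟨k - 3, by omega⟩
    simp only [show j + 3 - 2 = j + 1 by omega, cons_succ] at this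
    simpa [show j + 3 - 1 = 1 + (j + 1) by omega] using this
  have h1 := h.conj_mem_Z g⁻¹ hr
  rw [← e0, inv_smul_smul] at h1
  have h2 := h.conj_mem_Z g (hstep h1)
  rwa [e1, show g * (g⁻¹ * r * g⁻¹⁻¹) * g⁻¹ = r by group] at h2

end Hyp

end CfsgLib.LocalEven49.Goldschmidt
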