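import Cfsg.Agent.LocalEven49.Goldschmidt.OddKey

/-!
The critical distance is not 5.
-/

set_option autoImplicit false
set_option linter.style.haveILetI false
set_option linter.unusedSectionVars false

namespace CfsgLib.LocalEven49.Goldschmidt

open Cfsg CfsgLib.LocalEven CfsgLib.LocalEven48.Amalgam
open CfsgLib.LocalEven48.S3Amalgam (conj_mem_stab conj_mem_Q)

variable {G : Type*} [Group G] {P₁ P₂ : Subgroup G}

theorem comm_triple {u x y z e₁ e₂ e₃ : G} (h₁ : u * x = e₁ * x * u) (h₂ : u * y = e₂ * y * u)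
    (h₃ : u * z = e₃ * z * u) (hx₂ : x * e₂ = e₂ * x) (hx₃ : x * e₃ = e₃ * x)
    (hy₃ : y * e₃ = e₃ * y) (he : e₁ * e₂ * e₃ = 1) : u * (x * y * z) = x * y * z * u := by
  calc u * (x * y * z) = u * x * y * z := by group
    _ = e₁ * x * (u * y) * z := by rw [h₁]; group
    _ = e₁ * (x * e₂) * y * (u * z) := by rw [h₂]; group
    _ = e₁ * e₂ * x * (y * e₃) * z * u := by rw [hx₂, h₃]; group
    _ = e₁ * e₂ * (x * e₃) * y * z * u := by rw [hy₃]; group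
    _ = e₁ * e₂ * e₃ * x * y * z * u := by rw [hx₃]; group
    _ = x * y * z * u := by rw [he, one_mul]

namespace Hyp

variable (h : Hyp P₁ P₂) {p : ℕ → CosetVertex P₁ P₂}
include h

section five

variable (hmin : MinDist P₁ P₂ 5)
include hmin

theorem five_exists_V {a n : CosetVertex P₁ P₂} (ha : IsA a)
    (hn : (cosetGraph P₁ P₂).Adj a n) : ∃ x ∈ V n, x ∉ vertexZ 2 a := by
  have hB := (adj_isA hn).1 ha
  obtain ⟨b, hb, hba⟩ := h.exists_other hn.symm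
  obtain ⟨z, hz, hzn⟩ := h.exists_ZA hB hb
  exact ⟨z, Z_le_V hb hz, fun e => hzn (h.Z_inter (by omega) hmin hB hb hn.symm hba hz e)⟩

theorem five_base (hc : Crit 5 p) {l : CosetVertex P₁ P₂}
    (hl : (cosetGraph P₁ P₂).Adj (p 0) l) (hl1 : l ≠ p 1) {v w : G} (hv : v ∈ V l)
    (hv0 : v ∉ vertexZ 2 (p 0)) (hw : w ∈ V (p 3)) (hw2 : w ∉ vertexZ 2 (p 2)) :
    v * w * v⁻¹ * w⁻¹ ∈ vertexZ 2 (p 1) ∧ v * w * v⁻¹ * w⁻¹ ≠ 1 := by
  have hodd : ¬ Even 5 := by decide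
  have hA := hc.isA
  have hBl : ¬ IsA l := (adj_isA hl).1 hA
  have T : ¬ IsA (p 3) ∧ (cosetGraph P₁ P₂).Adj (p 3) (p 4) ∧
      (cosetGraph P₁ P₂).Adj (p 3) (p 2) ∧ IsA (p 2) ∧ p 2 ≠ p 4 := by
    obtain ⟨h1, -, h3, h4, h5, h6⟩ := h.odd_tail le_rfl hmin hodd hc
    exact ⟨h1, h4, h5, h3, h6⟩
  obtain ⟨hB3, a34, a32, hA2, n24⟩ := T
  have hrel := h.odd_rel le_rfl hmin hodd hc
  obtain ⟨l', hl', hq⟩ := h.odd_shift le_rfl hmin hodd hc hl hl1
  have hl'0 : l' ≠ p 0 := by simpa using (h.crit_nb hmin hq).nb 0 (by omega)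
  have hd3 : (cosetGraph P₁ P₂).dist (p 0) (p 3) ≤ 3 := h.dist_walk hc.adj (by omega) (by omega)
  have hnormal : ∀ {n a b : CosetVertex P₁ P₂}, ¬ IsA n → (cosetGraph P₁ P₂).Adj n a →
      (cosetGraph P₁ P₂).Adj n b → vertexZ 2 b ≤ Subgroup.normalizer (vertexZ 2 a : Set G) :=
    fun {n a b} hn ha hb e he => Subgroup.centralizer_le_normalizer _
      (Subgroup.mem_centralizer_iff.2 fun f hf => h.V_comm (by omega) hmin hn (Z_le_V ha hf) (Z_le_V hb he))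
  have hvQ : v ∉ vertexQ 2 (p 3) := by
    intro e
    obtain ⟨α, hα, β, hβ, rfl⟩ := exists_mul_of_mem_sup (hnormal hBl hl' hl.symm)
      (h.rel_V_sup hrel hBl hl' hl.symm hl'0 hv)
    have hβQ := hmin _ (p 3) hA (by omega) hβ
    have hαl := h.odd_Z0_inter le_rfl hmin hodd hq (z := α) hα
      (by rw [cons_two _ _ _ (by omega)]; exact ((vertexQ 2 (p 3)).mul_mem_cancel_right hβQ).1 e)
    exact hv0 (mul_mem (h.ZB_le hA hl (by simpa using hαl)) hβ)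
  obtain ⟨z, hz, β, hβ, rfl⟩ := exists_mul_of_mem_sup (hnormal hB3 a34 a32)
    (h.rel_V_sup hrel hB3 a34 a32 n24.symm hw)
  have hz3 : z ∉ vertexZ 2 (p 3) := fun e => hw2 (mul_mem (h.ZB_le hA2 a32.symm e) hβ)
  have hvβ : β * v = v * β := h.V_comm_Z hmin hA2 (by
    have h1 := h.side_dist le_rfl hmin hodd hc hl (show 2 ≤ 5 by omega)
    rw [SimpleGraph.dist_comm]
    omega) hβ hv
  rw [show v * (z * β) * v⁻¹ * (z * β)⁻¹ = v * z * v⁻¹ * (v * β * v⁻¹) * β⁻¹ * z⁻¹ by group,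
    ← hvβ, mul_inv_cancel_right, mul_inv_cancel_right]
  exact h.odd_key le_rfl hmin hodd hc hl hl1 hv hvQ hz hz3

theorem five_comm (hc : Crit 5 p) {n a b la mu : CosetVertex P₁ P₂} (hn : ¬ IsA n)
    (ha : (cosetGraph P₁ P₂).Adj n a) (hb : (cosetGraph P₁ P₂).Adj n b) (hab : a ≠ b)
    (hla : (cosetGraph P₁ P₂).Adj a la) (hlan : la ≠ n)
    (hmu : (cosetGraph P₁ P₂).Adj b mu) (hmun : mu ≠ n) {v w r : G}
    (hv : v ∈ V la) (hva : v ∉ vertexZ 2 a) (hw : w ∈ V mu) (hwb : w ∉ vertexZ 2 b)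
    (hr : r ∈ vertexZ 2 n) (hr1 : r ≠ 1) : v * w = r * w * v := by
  have hodd : ¬ Even 5 := by decide
  have h01 : (cosetGraph P₁ P₂).Adj (p 0) (p 1) := hc.adj 0 (by omega)
  have h12 : (cosetGraph P₁ P₂).Adj (p 1) (p 2) := hc.adj 1 (by omega)
  have h23 : (cosetGraph P₁ P₂).Adj (p 2) (p 3) := hc.adj 2 (by omega)
  have hwalk := h.crit_nb hmin hc
  have hB1 := h.odd_start le_rfl hmin hodd hc
  obtain ⟨g, gn, ga, gb⟩ := h.pair_transitive hB1 h01.symm h12 (hwalk.nb 0 (by omega)) hn ha hb hab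
  have back : ∀ {x y : CosetVertex P₁ P₂}, g • x = y → g⁻¹ • y = x := fun e => by
    rw [← e, inv_smul_smul]
  have hl : (cosetGraph P₁ P₂).Adj (p 0) (g⁻¹ • la) := back ga ▸ adj_smul g⁻¹ hla
  have hl1 : g⁻¹ • la ≠ p 1 := fun e => hlan (MulAction.injective g⁻¹ (e.trans (back gn).symm))
  have hm : (cosetGraph P₁ P₂).Adj (p 2) (g⁻¹ • mu) := back gb ▸ adj_smul g⁻¹ hmu
  have hm1 : g⁻¹ • mu ≠ p 1 := fun e => hmun (MulAction.injective g⁻¹ (e.trans (back gn).symm))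
  obtain ⟨p', hc', e0, e1, e2, e3⟩ : ∃ p' : ℕ → CosetVertex P₁ P₂,
      Crit 5 p' ∧ p' 0 = p 0 ∧ p' 1 = p 1 ∧ p' 2 = p 2 ∧ p' 3 = g⁻¹ • mu := by
    by_cases e : p 3 = g⁻¹ • mu
    · exact ⟨p, hc, rfl, rfl, rfl, e⟩
    obtain ⟨q, hq, hq0, hq2⟩ := h.exists_Q_inter (by omega) hmin hB1 h01.symm h12
      (hwalk.nb 0 (by omega))
    refine ⟨_, h.crit_smul hc q, MulAction.mem_stabilizer_iff.1 (h.Q_le_stab _ hq0),
      MulAction.mem_stabilizer_iff.1 (h.Q_le_stab _ hq),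
      MulAction.mem_stabilizer_iff.1 (h.Q_fix hq h12), ?_⟩
    exact h.swap_eq h12.symm h23 hm (hwalk.nb 1 (by omega)) hm1.symm e
      ⟨h.Q_fix hq h12, h.Q_le_stab _ hq⟩ hq2
  obtain ⟨hy, hy1⟩ := h.five_base hmin hc' (l := g⁻¹ • la) (v := g⁻¹ * v * g⁻¹⁻¹)
    (w := g⁻¹ * w * g⁻¹⁻¹) (e0 ▸ hl) (e1 ▸ hl1) (h.conj_mem_V g⁻¹ hv)
    (fun hh => hva (by
      have := h.conj_mem_Z g hh
      rwa [e0, ga, show g * (g⁻¹ * v * g⁻¹⁻¹) * g⁻¹ = v by group] at this))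
    (e3 ▸ h.conj_mem_V g⁻¹ hw)
    (fun hh => hwb (by
      have := h.conj_mem_Z g hh
      rwa [e2, gb, show g * (g⁻¹ * w * g⁻¹⁻¹) * g⁻¹ = w by group] at this))
  rw [e1, show g⁻¹ * v * g⁻¹⁻¹ * (g⁻¹ * w * g⁻¹⁻¹) * (g⁻¹ * v * g⁻¹⁻¹)⁻¹ *
    (g⁻¹ * w * g⁻¹⁻¹)⁻¹ = g⁻¹ * (v * w * v⁻¹ * w⁻¹) * g⁻¹⁻¹ by group] at hy
  rw [show g⁻¹ * v * g⁻¹⁻¹ * (g⁻¹ * w * g⁻¹⁻¹) * (g⁻¹ * v * g⁻¹⁻¹)⁻¹ *
    (g⁻¹ * w * g⁻¹⁻¹)⁻¹ = g⁻¹ * (v * w * v⁻¹ * w⁻¹) * g⁻¹⁻¹ by group] at hy1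
  have hy' := h.conj_mem_Z g hy
  rw [gn, show g * (g⁻¹ * (v * w * v⁻¹ * w⁻¹) * g⁻¹⁻¹) * g⁻¹ = v * w * v⁻¹ * w⁻¹ by group] at hy'
  rw [h.ZB_unique (h.odd_small le_rfl hmin hodd hc) hn hr hy' hr1
    (fun e => hy1 (by rw [e]; group))]
  group

theorem five_false (hc : Crit 5 p) : False := by
  have hodd : ¬ Even 5 := by decide
  have hA := hc.isA
  have hs := h.odd_small le_rfl hmin hodd hc
  have hrel := h.odd_rel le_rfl hmin hodd hc
  have hwalk := h.crit_nb hmin hc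
  have hev : ∀ i ≤ 5, Even i → IsA (p i) := fun i hi e =>
    (h.odd_isA le_rfl hmin hodd hc hi).2 e
  have hA2 : IsA (p 2) := hev 2 (by omega) (by decide)
  have hA4 : IsA (p 4) := hev 4 (by omega) (by decide)
  have h01 : (cosetGraph P₁ P₂).Adj (p 0) (p 1) := hc.adj 0 (by omega)
  have h12 : (cosetGraph P₁ P₂).Adj (p 1) (p 2) := hc.adj 1 (by omega)
  have h23 : (cosetGraph P₁ P₂).Adj (p 2) (p 3) := hc.adj 2 (by omega)
  have h34 : (cosetGraph P₁ P₂).Adj (p 3) (p 4) := hc.adj 3 (by omega)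
  have h45 : (cosetGraph P₁ P₂).Adj (p 4) (p 5) := hc.adj 4 (by omega)
  have h02 := hwalk.nb 0 (by omega)
  have h13 := hwalk.nb 1 (by omega)
  have h24 := hwalk.nb 2 (by omega)
  have hB1 := h.odd_start le_rfl hmin hodd hc
  have hB3 : ¬ IsA (p 3) := (adj_isA h23).1 hA2
  obtain ⟨l, hl, hl1⟩ := h.exists_other h01
  have hBl : ¬ IsA l := (adj_isA hl).1 hA
  obtain ⟨l', hl', hl'0⟩ := h.exists_other hl.symm
  obtain ⟨c, hcl, hc0, hc'⟩ := h.third hl.symm hl' hl'0.symm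
  have hA' := h.isA_of_adj hBl hl'
  have hAc := h.isA_of_adj hBl hcl
  obtain ⟨ν', hν', hν'l⟩ := h.exists_other hl'.symm
  obtain ⟨ν'', hν'', hν''l⟩ := h.exists_other hcl.symm
  obtain ⟨x0, hx0, hx0n⟩ := h.five_exists_V hmin hA h01
  obtain ⟨x1, hx1, hx1n⟩ := h.five_exists_V hmin hA' hν'
  obtain ⟨x2, hx2, hx2n⟩ := h.five_exists_V hmin hAc hν''
  obtain ⟨r, hr, hr1⟩ := h.exists_ZB l
  have VQ : ∀ {n a : CosetVertex P₁ P₂}, IsA a → (cosetGraph P₁ P₂).Adj a n →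
      V n ≤ vertexQ 2 a := fun {n a} ha hn =>
    h.V_le_Q_of_dist hmin ((adj_isA hn).1 ha) (by rw [h.dist_adj hn.symm]; omega)
  have cr : ∀ {n a : CosetVertex P₁ P₂} {x : G}, IsA a → (cosetGraph P₁ P₂).Adj a n →
      (cosetGraph P₁ P₂).Adj a l → x ∈ V n → x * r = r * x := fun {n a x} ha hn hal hx =>
    h.central l hBl x (h.Q_fix (VQ ha hn hx) hal) r hr
  have c0 := cr hA h01 hl hx0
  have c1 := cr hA' hν' hl'.symm hx1
  have c2 := cr hAc hν'' hcl.symm hx2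
  have rel10 := h.five_comm hmin hc hBl hl' hl.symm hl'0 hν' hν'l h01 hl1.symm hx1 hx1n hx0 hx0n hr hr1
  have rel20 := h.five_comm hmin hc hBl hcl hl.symm hc0.symm hν'' hν''l h01 hl1.symm hx2 hx2n hx0 hx0n
    hr hr1
  have rel21 := h.five_comm hmin hc hBl hcl hl' hc'.symm hν'' hν''l hν' hν'l hx2 hx2n hx1 hx1n hr hr1
  obtain ⟨hww, -, -, -⟩ := triple_facts (h.V_sq (by omega) hmin hB1 hx0)
    (h.V_sq (by omega) hmin ((adj_isA hν').1 hA') hx1)
    (h.V_sq (by omega) hmin ((adj_isA hν'').1 hAc) hx2) (h.Z_sq hr) c0 c1 c2 rel10 rel20 rel21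
  set w := x0 * x1 * x2 with hw
  -- `w` centralises every `V` at distance 2 from `l`
  have near : ∀ {n a : CosetVertex P₁ P₂} {x u : G}, IsA a → (cosetGraph P₁ P₂).Adj a n →
      (cosetGraph P₁ P₂).Adj a l → x ∈ V n → u ∈ V l → u * x = x * u :=
    fun {n a x u} ha hn hal hx hu => h.V_comm_V hmin hBl (by
      have := h.dist_step (u := l) hn
      rw [h.dist_adj hal.symm] at this
      omega) hu hx
  have hcomm : ∀ {a ν : CosetVertex P₁ P₂} {u : G}, (cosetGraph P₁ P₂).Adj l a →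
      (cosetGraph P₁ P₂).Adj a ν → u ∈ V ν → u * w = w * u := by
    intro a ν u ha hν hu
    by_cases hul : u ∈ V l
    · have e0 := near hA h01 hl hx0 hul
      have e1 := near hA' hν' hl'.symm hx1 hul
      have e2 := near hAc hν'' hcl.symm hx2 hul
      exact comm_triple (e₁ := 1) (e₂ := 1) (e₃ := 1) (by rw [one_mul]; exact e0)
        (by rw [one_mul]; exact e1) (by rw [one_mul]; exact e2) (by group) (by group) (by group)
        (by group)
    have hνl : ν ≠ l := fun e => hul (e ▸ hu)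
    have hua : u ∉ vertexZ 2 a := fun e => hul (Z_le_V ha e)
    have same : ∀ {n : CosetVertex P₁ P₂} {x : G}, (cosetGraph P₁ P₂).Adj a n → x ∈ V n →
        u * x = 1 * x * u := fun {n x} hn hx => by
      rw [one_mul]
      exact h.U_abelian le_rfl hmin hodd (h.isA_of_adj hBl ha) (V_le_U hν hu) (V_le_U hn hx)
    have diff : ∀ {b n : CosetVertex P₁ P₂} {x : G}, a ≠ b → (cosetGraph P₁ P₂).Adj l b →
        (cosetGraph P₁ P₂).Adj b n → n ≠ l → x ∈ V n → x ∉ vertexZ 2 b → u * x = r * x * u :=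
      fun {b n x} hab hb hn hnl hx hxb =>
        h.five_comm hmin hc hBl ha hb hab hν hνl hn hnl hu hua hx hxb hr hr1
    have one_comm : ∀ x : G, x * 1 = 1 * x := fun x => by group
    rcases h.nbr_three hl.symm hl' hcl hl'0.symm hc0 hc' ha with e | e | e
    · exact comm_triple (same (e ▸ h01) hx0) (diff (e ▸ hl'0.symm) hl' hν' hν'l hx1 hx1n)
        (diff (e ▸ hc0) hcl hν'' hν''l hx2 hx2n) c0 c0 c1 (by rw [one_mul]; exact h.Z_sq hr)
    · exact comm_triple (diff (e ▸ hl'0) hl.symm h01 hl1.symm hx0 hx0n) (same (e ▸ hν') hx1)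
        (diff (e ▸ hc') hcl hν'' hν''l hx2 hx2n) (one_comm _) c0 c1
        (by rw [mul_one]; exact h.Z_sq hr)
    · exact comm_triple (diff (e ▸ hc0.symm) hl.symm h01 hl1.symm hx0 hx0n)
        (diff (e ▸ hc'.symm) hl' hν' hν'l hx1 hx1n) (same (e ▸ hν'') hx2) c0 (one_comm _)
        (one_comm _) (by rw [mul_one]; exact h.Z_sq hr)
  have hw0 : w ∈ vertexQ 2 (p 0) := by
    have far : ∀ {n a : CosetVertex P₁ P₂}, (cosetGraph P₁ P₂).Adj a n →
        (cosetGraph P₁ P₂).Adj a l → IsA a → V n ≤ vertexQ 2 (p 0) := fun {n a} hn hal ha =>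
      h.V_le_Q_of_dist hmin ((adj_isA hn).1 ha) (by
        have h1 := h.dist_step' (w := p 0) hn.symm
        have h2 := h.dist_step' (w := p 0) hal
        rw [h.dist_adj hl.symm] at h2
        omega)
    exact mul_mem (mul_mem (far h01 hl hA hx0) (far hν' hl'.symm hA' hx1))
      (far hν'' hcl.symm hAc hx2)
  have hwV1 : ∀ {u : G}, u ∈ V (p 1) → u * w = w * u := fun hu => hcomm hl.symm h01 hu
  have hw1 : w ∈ vertexQ 2 (p 1) :=
    h.mem_Q_of_comm_V h01.symm (h.Q_fix hw0 h01) fun u hu => (hwV1 hu).symm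
  have hw3 : w ∈ MulAction.stabilizer G (p 3) :=
    h.Q_fix (h.cent _ hA2 w (h.Q_fix hw1 h12) fun u hu => (hwV1 (Z_le_V h12 hu)).symm) h23
  -- the commutator with `Z p₄`
  obtain ⟨z, hz, hz3⟩ := h.exists_ZA hB3 h34
  have hzl : z ∈ MulAction.stabilizer G l := h.Z_le_stab_of_dist (by omega) hmin hA4 (by
    have := h.side_dist le_rfl hmin hodd hc hl (show 4 ≤ 5 by omega)
    rw [SimpleGraph.dist_comm]
    omega) hz
  set s := w * z * w⁻¹ * z⁻¹ with hsdef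
  have hs2 : s ∈ vertexZ 2 (p 2) := by
    rw [hsdef, h.Z_inv hz]
    by_cases e : w • p 4 = p 4
    · have h1 := h.comm_mem_ZB h34.symm hz ⟨e, hw3⟩
      rw [show z * (w * z * w⁻¹) = (w * z * w⁻¹ * z⁻¹)⁻¹⁻¹ by
        rw [inv_inv, h.Z_inv hz]
        exact h.Z_comm hz (h.conj_mem_Z_self e hz)] at h1
      rw [inv_inv, h.Z_inv hz] at h1
      exact h.ZB_le hA2 h23 h1
    · refine hrel _ (w • p 4) (p 4) (p 2) hB3 (h.adj_smul_self hw3 h34) h34 h23.symm e ?_ h24.symm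
        _ (h.conj_mem_Z w hz) z hz (fun hh => hz3 ?_) hz3
      · intro e'
        have := h.cent _ hA2 w (h.Q_fix hw1 h12) fun u hu => (hwV1 (Z_le_V h12 hu)).symm
        exact h24 (MulAction.injective w
          ((MulAction.mem_stabilizer_iff.1 (h.Q_le_stab _ this)).trans e'.symm))
      · have := h.conj_mem_Z_self (inv_mem hw3) hh
        rwa [show w⁻¹ * (w * z * w⁻¹) * w⁻¹⁻¹ = z by group] at this
  have hscomm : ∀ {a ν : CosetVertex P₁ P₂} {u : G}, (cosetGraph P₁ P₂).Adj l a →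
      (cosetGraph P₁ P₂).Adj a ν → u ∈ V ν → u * s = s * u := by
    intro a ν u ha hν hu
    have e1 : Commute u w := hcomm ha hν hu
    have e2 : Commute u (z * w⁻¹ * z⁻¹) := by
      have h1 : Commute (z⁻¹ * u * z⁻¹⁻¹) w :=
        hcomm (h.adj_smul_self (inv_mem hzl) ha) (adj_smul z⁻¹ hν) (h.conj_mem_V z⁻¹ hu)
      have h2 := h1.inv_right
      have e := h2.eq
      show u * (z * w⁻¹ * z⁻¹) = z * w⁻¹ * z⁻¹ * u
      calc u * (z * w⁻¹ * z⁻¹) = z * (z⁻¹ * u * z⁻¹⁻¹ * w⁻¹) * z⁻¹ := by group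
        _ = z * (w⁻¹ * (z⁻¹ * u * z⁻¹⁻¹)) * z⁻¹ := by rw [e]
        _ = z * w⁻¹ * z⁻¹ * u := by group
    have e3 := (e1.mul_right e2).eq
    rwa [show w * (z * w⁻¹ * z⁻¹) = s by rw [hsdef]; group] at e3
  have hs1 : s ∈ vertexZ 2 (p 1) := by
    by_cases e : s ∈ vertexZ 2 (p 0)
    · exact h.Z_inter (by omega) hmin hB1 h01.symm h12 h02 e hs2
    exfalso
    have e1 := h.five_comm hmin hc hBl hl.symm hl' hl'0.symm h01 hl1.symm hν' hν'l
      (Z_le_V h12 hs2) e hx1 hx1n hr hr1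
    rw [← hscomm hl' hν' hx1, mul_assoc] at e1
    exact hr1 (mul_eq_right.1 e1.symm)
  -- an element centralising `Z p₄` whose square is the element of `Z l`
  obtain ⟨a, ha3, haw, haa, haz⟩ : ∃ a : G, a ∈ MulAction.stabilizer G (p 3) ∧ a * w = w * a ∧
      a * a = 1 ∧ a * z = s * z * a := by
    by_cases e : s = 1
    · exact ⟨1, one_mem _, by group, one_mul 1, by rw [e]; group⟩
    obtain ⟨a, ha, hal⟩ := h.exists_ZA hBl hl'
    refine ⟨a, h.Z_le_stab_of_dist (by omega) hmin hA' ?_ ha, hcomm hl' hl'.symm (Z_le_V hl' ha),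
      h.Z_sq ha, ?_⟩
    · have h1 := h.side_dist le_rfl hmin hodd hc hl (show 3 ≤ 5 by omega)
      have h2 := h.dist_step' (w := p 3) hl'.symm
      omega
    exact h.five_comm hmin hc hB1 h01.symm h12 h02 hl hl1 h23 h13.symm (Z_le_V hl' ha)
      (fun e => hal (h.Z_inter (by omega) hmin hBl hl' hl.symm hl'0 ha e)) (Z_le_V h34 hz)
      (fun e => hz3 (h.Z_inter (by omega) hmin hB3 h34 h23.symm h24.symm hz e)) hs1 e
  have hss : s * s = 1 := h.Z_sq hs1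
  have hws : w * s = s * w := (hwV1 (h.ZB_le_V hB1 hs1)).symm
  have hwz : w * z = s * z * w := by rw [hsdef]; group
  set P := w * a with hP
  have hPz : P * z = z * P := by
    calc P * z = w * (a * z) := by rw [hP, mul_assoc]
      _ = w * s * (z * a) := by rw [haz]; group
      _ = s * (w * z) * a := by rw [hws]; group
      _ = (s * s) * z * P := by rw [hwz, hP]; group
      _ = z * P := by rw [hss, one_mul]
  have hP3 : P ∈ MulAction.stabilizer G (p 3) := mul_mem hw3 ha3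
  have hP4 : P ∈ MulAction.stabilizer G (p 4) := by
    by_contra e
    refine hz3 (h.Z_inter (by omega) hmin hB3 h34 (h.adj_smul_self hP3 h34) (Ne.symm e) hz ?_)
    have := h.conj_mem_Z P hz
    rwa [hPz, mul_inv_cancel_right] at this
  have hP4Q : P ∈ vertexQ 2 (p 4) := by
    refine h.cent _ hA4 P hP4 fun z' hz' => ?_
    have hcen := h.central _ hB3 P hP3
    by_cases e : z' ∈ vertexZ 2 (p 3)
    · exact hcen _ e
    have e1 : Commute P (z' * z) := hcen _ (hs _ _ hA4 h34.symm z' hz' z hz e hz3)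
    have e2 := (e1.mul_right (show Commute P z from hPz)).eq
    rwa [show z' * z * z = z' by rw [mul_assoc, h.Z_sq hz, mul_one]] at e2
  have hPP : P * P = r := by
    calc P * P = w * (a * w) * a := by rw [hP]; group
      _ = (w * w) * (a * a) := by rw [haw, hP]; group
      _ = r := by rw [hww, haa, mul_one]
  have hr5 : r ∈ vertexQ 2 (p 5) :=
    hPP ▸ h.sq_mem_Q h45.symm ⟨h.Q_fix hP4Q h45, hP4⟩
  have hl5 : vertexZ 2 l ≤ vertexQ 2 (p 5) := fun x hx => by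
    by_cases e : x = 1
    · rw [e]; exact one_mem _
    · rwa [h.ZB_unique hs hBl hx hr e hr1]
  have d2 := h.dist_walk hc.adj (show 2 ≤ 5 by omega) le_rfl
  exact hc.ne_le ((h.Z_le_sup hA h01 hl hl1.symm).trans (sup_le
    ((h.ZB_le hA2 h12.symm).trans (hmin _ _ hA2 (by omega))) hl5))

end five

end Hyp

end CfsgLib.LocalEven49.Goldschmidt
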