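import Cfsg.Agent.LocalEven49.Goldschmidt.Base

/-!
Fixed points of three-cycles, and the structure of `Z` at a vertex.
-/

set_option autoImplicit false
set_option linter.style.haveILetI false
set_option linter.unusedSectionVars false

namespace CfsgLib.LocalEven49.Goldschmidt

open Cfsg CfsgLib.LocalEven CfsgLib.LocalEven48.Amalgam
open CfsgLib.LocalEven48.S3Amalgam (conj_mem_stab conj_mem_Q)

variable {G : Type*} [Group G]

theorem mem_normalizer_of_conj {C : Subgroup G} [Finite C] {g : G}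
    (hc : ∀ x ∈ C, g * x * g⁻¹ ∈ C) : g ∈ Subgroup.normalizer (C : Set G) := by
  refine Subgroup.mem_normalizer_iff_map_conj_eq.2 ?_
  refine Subgroup.eq_of_le_of_card_ge ?_ (by
    rw [Subgroup.card_map_of_injective (MulAut.conj g).injective])
  rintro _ ⟨a, ha, rfl⟩
  exact hc a ha

theorem conj_mem_of_mem_normalizer {C : Subgroup G} {g x : G}
    (hg : g ∈ Subgroup.normalizer (C : Set G)) (hx : x ∈ C) : g * x * g⁻¹ ∈ C :=
  (Subgroup.mem_normalizer_iff.1 hg x).1 hx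

/-- Counting with a subgroup of index at most two. -/
theorem card_le_two_mul (H A : Subgroup G) [Finite H]
    (hprod : ∀ x ∈ H, ∀ y ∈ H, x ∉ A → y ∉ A → x * y ∈ A) :
    Nat.card H ≤ 2 * Nat.card ↥(H ⊓ A) := by
  classical
  haveI : Finite ↥(H ⊓ A) := Finite.of_injective _ (Subgroup.inclusion_injective inf_le_left)
  by_cases hH : H ≤ A
  · rw [inf_eq_left.2 hH]; omega
  obtain ⟨x₀, hx₀, hx₀A⟩ := SetLike.not_le_iff_exists.1 hH
  let f : H → Bool × ↥(H ⊓ A) := fun y =>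
    if hy : (y : G) ∈ A then (false, ⟨y, y.2, hy⟩)
    else (true, ⟨x₀ * y, mul_mem hx₀ y.2, hprod _ hx₀ _ y.2 hx₀A hy⟩)
  have hf : Function.Injective f := by
    intro a b hab
    simp only [f] at hab
    split_ifs at hab with ha hb hb
    · exact Subtype.ext (congrArg (fun p => ((p.2 : ↥(H ⊓ A)) : G)) hab)
    · exact absurd (congrArg Prod.fst hab) (by simp)
    · exact absurd (congrArg Prod.fst hab) (by simp)
    · exact Subtype.ext (mul_left_cancel (congrArg (fun p => ((p.2 : ↥(H ⊓ A)) : G)) hab))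
  refine le_of_le_of_eq (Nat.card_le_card_of_injective f hf) ?_
  rw [Nat.card_prod, Nat.card_eq_fintype_card (α := Bool), Fintype.card_bool]

variable {P₁ P₂ : Subgroup G}

/-- A three-cycle on the neighbours of `v`. -/
structure IsCyc (v n m k : CosetVertex P₁ P₂) (g : G) : Prop where
  mem : g ∈ MulAction.stabilizer G v
  adj₁ : (cosetGraph P₁ P₂).Adj v n
  adj₂ : (cosetGraph P₁ P₂).Adj v m
  adj₃ : (cosetGraph P₁ P₂).Adj v k
  ne₁₂ : n ≠ m
  ne₂₃ : m ≠ k
  ne₁₃ : n ≠ k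
  map₁ : g • n = m
  map₂ : g • m = k
  map₃ : g • k = n

theorem IsCyc.rot {v n m k : CosetVertex P₁ P₂} {g : G} (c : IsCyc v n m k g) :
    IsCyc v m k n g :=
  ⟨c.mem, c.adj₂, c.adj₃, c.adj₁, c.ne₂₃, c.ne₁₃.symm, c.ne₁₂.symm, c.map₂, c.map₃, c.map₁⟩

namespace Hyp

variable (h : Hyp P₁ P₂) {u v a n m k : CosetVertex P₁ P₂} {g : G}
include h

theorem finite_Q (v : CosetVertex P₁ P₂) : Finite (vertexQ 2 v) := by
  haveI := h.finite_stab v
  exact Finite.of_injective _ (Subgroup.inclusion_injective (h.Q_le_stab v))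

theorem finite_edge (v n : CosetVertex P₁ P₂) : Finite (edgeStabilizer v n) := by
  haveI := h.finite_stab v
  exact Finite.of_injective _ (Subgroup.inclusion_injective inf_le_left)

theorem finite_le_edge {C : Subgroup G} (hC : C ≤ edgeStabilizer v n) : Finite C := by
  haveI := h.finite_edge v n
  exact Finite.of_injective _ (Subgroup.inclusion_injective hC)

omit h in
theorem edge_comm (v n : CosetVertex P₁ P₂) : edgeStabilizer v n = edgeStabilizer n v :=
  inf_comm _ _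

theorem edge_card_eq (hn : (cosetGraph P₁ P₂).Adj v n) :
    Nat.card (edgeStabilizer v n) =
      2 ^ (Nat.card (MulAction.stabilizer G v)).factorization 2 := by
  haveI : Fact (Nat.Prime 2) := ⟨Nat.prime_two⟩
  haveI := h.finite_Q v
  obtain ⟨j, hj⟩ := (h.isPGroup_Q v).exists_card_eq
  have e := edge_factorization h.pair hn
  rw [h.card_edge hn, hj, show 2 * 2 ^ j = 2 ^ (j + 1) by ring,
    Nat.Prime.factorization_pow Nat.prime_two, Finsupp.single_eq_same] at e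
  rw [← e, h.card_edge hn, hj]
  ring

theorem isPGroup_edge (hn : (cosetGraph P₁ P₂).Adj v n) : IsPGroup 2 (edgeStabilizer v n) :=
  IsPGroup.of_card (h.edge_card_eq hn)

theorem inv_notMem_Q {s : G} (hs : s ∉ vertexQ 2 v) : s⁻¹ ∉ vertexQ 2 v :=
  fun hh => hs (inv_mem_iff.1 hh)

theorem sq_mem_Q (hn : (cosetGraph P₁ P₂).Adj v n) {s : G} (hs : s ∈ edgeStabilizer v n) :
    s * s ∈ vertexQ 2 v := by
  by_cases hQ : s ∈ vertexQ 2 v
  · exact mul_mem hQ hQ
  · exact h.mul_mem_Q hn hs hs hQ hQ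

theorem edge_le_of (hn : (cosetGraph P₁ P₂).Adj v n) {C : Subgroup G} (hC : vertexQ 2 v ≤ C)
    {s : G} (hs : s ∈ edgeStabilizer v n) (hsQ : s ∉ vertexQ 2 v) (hsC : s ∈ C) :
    edgeStabilizer v n ≤ C := fun e he => by
  by_cases heQ : e ∈ vertexQ 2 v
  · exact hC heQ
  · have h1 := hC (h.mul_mem_Q hn he hs heQ hsQ)
    exact (C.mul_mem_cancel_right hsC).1 h1

theorem stab_le_of_two (hn : (cosetGraph P₁ P₂).Adj v n) (hm : (cosetGraph P₁ P₂).Adj v m)
    (hnm : n ≠ m) {C : Subgroup G} (hC : vertexQ 2 v ≤ C) {s t : G}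
    (hs : s ∈ edgeStabilizer v n) (hsQ : s ∉ vertexQ 2 v) (hsC : s ∈ C)
    (ht : t ∈ edgeStabilizer v m) (htQ : t ∉ vertexQ 2 v) (htC : t ∈ C) :
    MulAction.stabilizer G v ≤ C :=
  h.stab_le_of hn (h.edge_le_of hn hC hs hsQ hsC) ht.1 (h.moves hm hn hnm.symm ht htQ) htC

theorem exists_swap (hn : (cosetGraph P₁ P₂).Adj v n) :
    ∃ s ∈ edgeStabilizer v n, s ∉ vertexQ 2 v := by
  obtain ⟨q, hq, hq'⟩ := h.exists_Q_diff hn.symm
  exact ⟨q, ⟨h.Q_fix hq hn.symm, h.Q_le_stab _ hq⟩, hq'⟩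

theorem normalizer_Q (v : CosetVertex P₁ P₂) {g : G} (hg : g ∈ MulAction.stabilizer G v)
    {x : G} (hx : x ∈ vertexQ 2 v) : g * x * g⁻¹ ∈ vertexQ 2 v := by
  have := conj_mem_Q g hx
  rwa [MulAction.mem_stabilizer_iff.1 hg] at this

/-- Nothing nontrivial in an edge group is normalised by both end groups. -/
theorem eq_bot_of_norm (hn : (cosetGraph P₁ P₂).Adj v n) {T : Subgroup G}
    (hT : T ≤ edgeStabilizer v n)
    (hv : MulAction.stabilizer G v ≤ Subgroup.normalizer (T : Set G))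
    (hn' : MulAction.stabilizer G n ≤ Subgroup.normalizer (T : Set G)) : T = ⊥ := by
  refine eq_bot_of_normalizer_transitive h.pair.1.1 h.pair.1.2.2.2 hn hT
    (fun a a' ha ha' => ?_) (fun a a' ha ha' => ?_)
  · obtain ⟨g, hg, hga⟩ := exists_smul_neighbour ha ha'
    exact ⟨g, hv hg, hg, hga⟩
  · obtain ⟨g, hg, hga⟩ := exists_smul_neighbour ha ha'
    exact ⟨g, hn' hg, hg, hga⟩

/-- A nontrivial subgroup of an edge group normalised by it has a central involution of it. -/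
theorem exists_central_involution (hn : (cosetGraph P₁ P₂).Adj v n) {N : Subgroup G}
    (hN : N ≤ edgeStabilizer v n)
    (hnorm : edgeStabilizer v n ≤ Subgroup.normalizer (N : Set G)) (hne : N ≠ ⊥) :
    ∃ y ∈ N, y ≠ 1 ∧ y * y = 1 ∧ ∀ e ∈ edgeStabilizer v n, e * y = y * e := by
  haveI : Fact (Nat.Prime 2) := ⟨Nat.prime_two⟩
  haveI := h.finite_le_edge hN
  haveI := h.finite_edge v n
  letI act : MulAction (edgeStabilizer v n) N :=
    { smul := fun e x => ⟨e * x * (e : G)⁻¹, conj_mem_of_mem_normalizer (hnorm e.2) x.2⟩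
      one_smul := fun x => Subtype.ext (by
        show ((1 : edgeStabilizer v n) : G) * x * ((1 : edgeStabilizer v n) : G)⁻¹ = x; simp)
      mul_smul := fun e f x => Subtype.ext (by
        show ((e * f : edgeStabilizer v n) : G) * x * ((e * f : edgeStabilizer v n) : G)⁻¹ =
          e * (f * x * (f : G)⁻¹) * (e : G)⁻¹
        simp [mul_assoc]) }
  obtain ⟨j, hj⟩ := ((h.isPGroup_edge hn).to_le hN).exists_card_eq
  have hdvd : 2 ∣ Nat.card N := by
    rw [hj]
    refine dvd_pow_self 2 fun e0 => hne ?_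
    rw [e0, pow_zero] at hj
    exact (Subgroup.card_eq_one).1 hj
  have h1 : (1 : N) ∈ MulAction.fixedPoints (edgeStabilizer v n) N := fun e =>
    Subtype.ext (show (e : G) * 1 * (e : G)⁻¹ = 1 by group)
  obtain ⟨y, hy, hy1⟩ :=
    (h.isPGroup_edge hn).exists_fixed_point_of_prime_dvd_card_of_fixed_point N hdvd h1
  have hy1' : (y : G) ≠ 1 := fun e => hy1 (Subtype.ext e.symm)
  obtain ⟨j, hj1, hj2⟩ := exists_pow_prime_order hy1'
    (orderOf_eq_pow_of_mem (h.isPGroup_edge hn) (hN y.2))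
  refine ⟨(y : G) ^ j, pow_mem y.2 j, hj1, by rw [← pow_two]; exact hj2, fun e he => ?_⟩
  have := congrArg Subtype.val (hy ⟨e, he⟩)
  exact (Commute.pow_right (mul_inv_eq_iff_eq_mul.1 this) j).eq

/-! ### `Z` at the two ends of an edge -/

theorem mem_Z_of_comm (hn : (cosetGraph P₁ P₂).Adj v n) {x : G} (hx : x ∈ edgeStabilizer v n)
    (hx2 : x * x = 1) (hc : ∀ e ∈ edgeStabilizer v n, e * x = x * e) : x ∈ vertexZ 2 v := by
  haveI : Fact (Nat.Prime 2) := ⟨Nat.prime_two⟩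
  haveI := h.finite_stab v
  refine omega_center_le_sylowCenterClosure (MulAction.stabilizer G v) (edgeStabilizer v n)
    inf_le_left (h.edge_card_eq hn) (Subgroup.subset_closure ⟨⟨hx, ?_⟩, ?_⟩)
  · exact Subgroup.mem_centralizer_iff.2 hc
  · rw [pow_two, hx2]

theorem mem_ZB_of_comm (hn : (cosetGraph P₁ P₂).Adj a n) {x : G}
    (hx : x ∈ edgeStabilizer a n) (hx2 : x * x = 1)
    (hc : ∀ e ∈ edgeStabilizer a n, e * x = x * e) : x ∈ vertexZ 2 n := by
  refine h.mem_Z_of_comm hn.symm (edge_comm a n ▸ hx) hx2 fun e he => hc e ?_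
  rwa [edge_comm]

theorem ZB_le (ha : IsA a) (hn : (cosetGraph P₁ P₂).Adj a n) :
    vertexZ 2 n ≤ vertexZ 2 a := fun x hx => by
  refine h.mem_Z_of_comm hn ?_ (h.Z_sq hx) fun e he => ?_
  · rw [edge_comm]; exact h.Q_le_edge hn.symm (h.Z_le_Q n hx)
  · exact h.central n ((adj_isA hn).1 ha) e he.2 x hx

theorem Z_ne_bot (v : CosetVertex P₁ P₂) : vertexZ 2 v ≠ ⊥ :=
  haveI : Fact (Nat.Prime 2) := ⟨Nat.prime_two⟩
  vertexZ_ne_bot h.pair v

theorem eq_one_of_central (ha : IsA a) (hn : (cosetGraph P₁ P₂).Adj a n) {x : G}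
    (hx : x ∈ edgeStabilizer a n) (hx2 : x * x = 1)
    (hc : ∀ e ∈ MulAction.stabilizer G a, e * x = x * e) : x = 1 := by
  have hxn : x ∈ vertexZ 2 n := h.mem_ZB_of_comm hn hx hx2 fun e he => hc e he.1
  have hcent : ∀ {g : G}, g * x = x * g → g ∈ Subgroup.normalizer (Subgroup.zpowers x : Set G) := by
    intro g hg
    refine Subgroup.centralizer_le_normalizer _ (Subgroup.mem_centralizer_iff.2 ?_)
    rintro _ ⟨i, rfl⟩
    exact ((Commute.zpow_right hg i).eq).symm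
  exact Subgroup.zpowers_eq_bot.1 (h.eq_bot_of_norm hn
    (Subgroup.zpowers_le.2 hx) (fun g hg => hcent (hc g hg))
    (fun g hg => hcent (h.central n ((adj_isA hn).1 ha) g hg x hxn)))

theorem ZB_inter (ha : IsA a) (hn : (cosetGraph P₁ P₂).Adj a n)
    (hm : (cosetGraph P₁ P₂).Adj a m) (hnm : n ≠ m) {x : G} (hx : x ∈ vertexZ 2 n)
    (hx' : x ∈ vertexZ 2 m) : x = 1 := by
  refine h.eq_one_of_central ha hn ?_ (h.Z_sq hx) fun e he => ?_
  · rw [edge_comm]; exact h.Q_le_edge hn.symm (h.Z_le_Q n hx)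
  obtain ⟨s, hs, hsQ⟩ := h.exists_swap hn
  obtain ⟨t, ht, htQ⟩ := h.exists_swap hm
  refine (Subgroup.mem_centralizer_singleton_iff.1
    (h.stab_le_of_two hn hm hnm (C := Subgroup.centralizer ({x} : Set G)) (fun q hq => ?_) hs hsQ
      ?_ ht htQ ?_ he))
  · exact Subgroup.mem_centralizer_singleton_iff.2
      (h.central n ((adj_isA hn).1 ha) q (h.Q_fix hq hn) x hx)
  · exact Subgroup.mem_centralizer_singleton_iff.2 (h.central n ((adj_isA hn).1 ha) s hs.2 x hx)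
  · exact Subgroup.mem_centralizer_singleton_iff.2 (h.central m ((adj_isA hm).1 ha) t ht.2 x hx')

/-- The value at a vertex of the conjugates of a `Z` does not depend on the element used. -/
theorem carry (hn : ¬ IsA n) {r g g' : G} (hr : r ∈ vertexZ 2 n) (e : g • n = g' • n) :
    g * r * g⁻¹ = g' * r * g'⁻¹ := by
  have hst : g'⁻¹ * g ∈ MulAction.stabilizer G n := by
    rw [MulAction.mem_stabilizer_iff, mul_smul, e, inv_smul_smul]
  have := h.central n hn _ hst r hr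
  calc g * r * g⁻¹ = g' * (g'⁻¹ * g * r) * g⁻¹ := by group
    _ = g' * (r * (g'⁻¹ * g)) * g⁻¹ := by rw [this]
    _ = g' * r * g'⁻¹ := by group

/-! ### Three-cycles -/

theorem exists_cyc (hn : (cosetGraph P₁ P₂).Adj v n) (hm : (cosetGraph P₁ P₂).Adj v m)
    (hnm : n ≠ m) : ∃ k g, IsCyc v n m k g := by
  obtain ⟨s, hs, hsQ⟩ := h.exists_swap hn
  have hk : (cosetGraph P₁ P₂).Adj v (s • m) := h.adj_smul_self hs.1 hm
  have h1 : s • m ≠ m := h.moves hn hm hnm hs hsQ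
  have h2 : s • m ≠ n := fun hh => hnm (by
    rw [← MulAction.mem_stabilizer_iff.1 hs.2] at hh
    exact (MulAction.injective s hh).symm)
  obtain ⟨g, hg, hg1, hg2⟩ := h.two_transitive hn hm hnm hm hk (Ne.symm h1)
  refine ⟨s • m, g, hg, hn, hm, hk, hnm, Ne.symm h1, Ne.symm h2, hg1, hg2, ?_⟩
  rcases h.neighbour_cases hn hm hnm hs hsQ (h.adj_smul_self hg hk) with e | e | e
  · exact e
  · exact absurd (MulAction.injective g (e.trans hg1.symm)) h2
  · exact absurd (MulAction.injective g (e.trans hg2.symm)) h1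

theorem cyc_cube (c : IsCyc v n m k g) : g * g * g ∈ vertexQ 2 v :=
  h.mem_Q_of_fix_two c.adj₁ c.adj₂ c.ne₁₂ (mul_mem (mul_mem c.mem c.mem) c.mem)
    (by rw [mul_smul, mul_smul, c.map₁, c.map₂, c.map₃])
    (by rw [mul_smul, mul_smul, c.map₂, c.map₃, c.map₁])

theorem swap_smul (c : IsCyc v n m k g) {s : G} (hs : s ∈ edgeStabilizer v n)
    (hsQ : s ∉ vertexQ 2 v) : s • m = k ∧ s • k = m := by
  have key : ∀ {x y : CosetVertex P₁ P₂}, (cosetGraph P₁ P₂).Adj v x →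
      (cosetGraph P₁ P₂).Adj v y → n ≠ x → n ≠ y → x ≠ y → s • x = y := by
    intro x y hx hy hnx hny hxy
    rcases h.neighbour_cases c.adj₁ hx hnx hs hsQ hy with e | e | e
    · exact absurd e.symm hny
    · exact absurd e.symm hxy
    · exact e.symm
  exact ⟨key c.adj₂ c.adj₃ c.ne₁₂ c.ne₁₃ c.ne₂₃, key c.adj₃ c.adj₂ c.ne₁₃ c.ne₁₂ c.ne₂₃.symm⟩

theorem cyc_invert (c : IsCyc v n m k g) {s : G} (hs : s ∈ edgeStabilizer v n)
    (hsQ : s ∉ vertexQ 2 v) : s * g * s⁻¹ * g ∈ vertexQ 2 v := by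
  obtain ⟨h1, h2⟩ := h.swap_smul c hs hsQ
  refine h.mem_Q_of_fix_two c.adj₁ c.adj₂ c.ne₁₂
    (mul_mem (mul_mem (mul_mem hs.1 c.mem) (inv_mem hs.1)) c.mem) ?_ ?_
  · rw [mul_smul, mul_smul, mul_smul, c.map₁, inv_smul_eq_iff.2 h2.symm, c.map₃,
      MulAction.mem_stabilizer_iff.1 hs.2]
  · rw [mul_smul, mul_smul, mul_smul, c.map₂, inv_smul_eq_iff.2 h1.symm, c.map₂, h2]

/-- Fixed points of a three-cycle in a normal subgroup of a vertex group of type A. -/
theorem fixed_eq_one (ha : IsA a) (c : IsCyc a n m k g) (N : Subgroup G) (hN : N ≤ vertexQ 2 a)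
    (hnorm : MulAction.stabilizer G a ≤ Subgroup.normalizer (N : Set G))
    (hQ : ∀ q ∈ vertexQ 2 a, ∀ x ∈ N, g * x = x * g →
      g * (q * x * q⁻¹) = q * x * q⁻¹ * g)
    (hinv : ∀ s ∈ edgeStabilizer a n, s ∉ vertexQ 2 a → ∀ x ∈ N, g * x = x * g →
      s * g * s⁻¹ * g * x = x * (s * g * s⁻¹ * g))
    {x : G} (hx : x ∈ N) (hgx : g * x = x * g) : x = 1 := by
  set C := N ⊓ Subgroup.centralizer ({g} : Set G) with hC
  have hCm : ∀ {y : G}, y ∈ C ↔ y ∈ N ∧ g * y = y * g := fun {y} => by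
    rw [hC, Subgroup.mem_inf, Subgroup.mem_centralizer_singleton_iff]
    exact ⟨fun hh => ⟨hh.1, hh.2.symm⟩, fun hh => ⟨hh.1, hh.2.symm⟩⟩
  have hCe : C ≤ edgeStabilizer a n := inf_le_left.trans (hN.trans (h.Q_le_edge c.adj₁))
  haveI := h.finite_le_edge hCe
  have hQC : vertexQ 2 a ≤ Subgroup.normalizer (C : Set G) := fun q hq =>
    mem_normalizer_of_conj fun y hy => hCm.2
      ⟨conj_mem_of_mem_normalizer (hnorm (h.Q_le_stab a hq)) (hCm.1 hy).1,
        hQ q hq y (hCm.1 hy).1 (hCm.1 hy).2⟩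
  obtain ⟨s, hs, hsQ⟩ := h.exists_swap c.adj₁
  have hsC : s⁻¹ ∈ Subgroup.normalizer (C : Set G) := by
    refine mem_normalizer_of_conj fun y hy => hCm.2
      ⟨conj_mem_of_mem_normalizer (hnorm (inv_mem hs.1)) (hCm.1 hy).1, ?_⟩
    obtain ⟨hyN, hyg⟩ := hCm.1 hy
    have e : s * g * s⁻¹ * y = y * (s * g * s⁻¹) := by
      have e1 := hinv s hs hsQ y hyN hyg
      rw [mul_assoc _ g y, hyg, ← mul_assoc, ← mul_assoc y] at e1
      exact mul_right_cancel e1
    calc g * (s⁻¹ * y * s⁻¹⁻¹) = s⁻¹ * (s * g * s⁻¹ * y) * s := by group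
      _ = s⁻¹ * (y * (s * g * s⁻¹)) * s := by rw [e]
      _ = s⁻¹ * y * s⁻¹⁻¹ * g := by group
  have hgC : g ∈ Subgroup.normalizer (C : Set G) :=
    mem_normalizer_of_conj fun y hy => by
      rw [(hCm.1 hy).2, mul_inv_cancel_right]; exact hy
  have hedge : edgeStabilizer a n ≤ Subgroup.normalizer (C : Set G) :=
    h.edge_le_of c.adj₁ hQC hs hsQ (inv_mem_iff.1 hsC)
  by_contra hne
  obtain ⟨y, hy, hy1, hy2, hyc⟩ := h.exists_central_involution c.adj₁ hCe hedge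
    (fun e => hne (Subgroup.mem_bot.1 (e ▸ hCm.2 ⟨hx, hgx⟩)))
  refine hy1 (h.eq_one_of_central ha c.adj₁ (hCe hy) hy2 fun e he => ?_)
  refine Subgroup.mem_centralizer_singleton_iff.1
    (h.stab_le_of c.adj₁ (C := Subgroup.centralizer ({y} : Set G))
      (fun e he => Subgroup.mem_centralizer_singleton_iff.2 (hyc e he))
      c.mem (by rw [c.map₁]; exact c.ne₁₂.symm)
      (Subgroup.mem_centralizer_singleton_iff.2 (hCm.1 hy).2) he)

theorem fixed_eq_one' (ha : IsA a) (c : IsCyc a n m k g) (N : Subgroup G) (hN : N ≤ vertexQ 2 a)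
    (hnorm : MulAction.stabilizer G a ≤ Subgroup.normalizer (N : Set G))
    (hQ : ∀ q ∈ vertexQ 2 a, ∀ x ∈ N, q * x = x * q)
    {x : G} (hx : x ∈ N) (hgx : g * x = x * g) : x = 1 :=
  h.fixed_eq_one ha c N hN hnorm
    (fun q hq y hy hgy => by rw [hQ q hq y hy, mul_inv_cancel_right]; exact hgy)
    (fun _ hs hsQ y hy _ => hQ _ (h.cyc_invert c hs hsQ) y hy) hx hgx

theorem Z_normal (v : CosetVertex P₁ P₂) :
    MulAction.stabilizer G v ≤ Subgroup.normalizer (vertexZ 2 v : Set G) := fun g hg => by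
  haveI := h.finite_Q v
  haveI : Finite (vertexZ 2 v) :=
    Finite.of_injective _ (Subgroup.inclusion_injective (h.Z_le_Q v))
  exact mem_normalizer_of_conj fun x hx => h.conj_mem_Z_self hg hx

/-- The product of the conjugates under a three-cycle of an element of `Z` is trivial. -/
theorem Z_cyc_prod (ha : IsA a) (c : IsCyc a n m k g) {x : G} (hx : x ∈ vertexZ 2 a) :
    x * (g * x * g⁻¹) * (g * g * x * (g * g)⁻¹) = 1 := by
  have h1 : g * x * g⁻¹ ∈ vertexZ 2 a := h.conj_mem_Z_self c.mem hx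
  have h2 : g * g * x * (g * g)⁻¹ ∈ vertexZ 2 a := h.conj_mem_Z_self (mul_mem c.mem c.mem) hx
  refine h.fixed_eq_one' ha c _ (h.Z_le_Q a) (h.Z_normal a) (fun q hq y hy => h.Q_comm_Z hq hy)
    (mul_mem (mul_mem hx h1) h2) ?_
  have h3 : g * (g * g * x * (g * g)⁻¹) * g⁻¹ = x := by
    have := h.Q_comm_Z (h.cyc_cube c) hx
    calc g * (g * g * x * (g * g)⁻¹) * g⁻¹ = g * g * g * x * (g * g * g)⁻¹ := by group
      _ = x := by rw [this, mul_inv_cancel_right]
  calc g * (x * (g * x * g⁻¹) * (g * g * x * (g * g)⁻¹))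
      = g * x * g⁻¹ * (g * g * x * (g * g)⁻¹) *
          (g * (g * g * x * (g * g)⁻¹) * g⁻¹) * g := by group
    _ = g * x * g⁻¹ * (g * g * x * (g * g)⁻¹) * x * g := by rw [h3]
    _ = x * (g * x * g⁻¹) * (g * g * x * (g * g)⁻¹) * g := by
        rw [h.Z_comm (mul_mem h1 h2) hx]; group

/-- An element fixed modulo `Z` by a three-cycle has a translate by `Z` fixed by it. -/
theorem exists_fixed_mul (ha : IsA a) (c : IsCyc a n m k g) {x δ : G} (hδ : δ ∈ vertexZ 2 a)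
    (e : g * x * g⁻¹ = x * δ) : ∃ ζ ∈ vertexZ 2 a, g * (x * ζ) = x * ζ * g := by
  have h1 : g * δ * g⁻¹ ∈ vertexZ 2 a := h.conj_mem_Z_self c.mem hδ
  have h2 : g * g * δ * (g * g)⁻¹ ∈ vertexZ 2 a := h.conj_mem_Z_self (mul_mem c.mem c.mem) hδ
  have e2 : δ * (g * g * δ * (g * g)⁻¹) = g * δ * g⁻¹ := by
    have hp := h.Z_cyc_prod ha c hδ
    rw [h.Z_comm hδ h1, mul_assoc] at hp
    rw [eq_inv_of_mul_eq_one_right hp, h.Z_inv h1]
  refine ⟨g * δ * g⁻¹, h1, ?_⟩
  calc g * (x * (g * δ * g⁻¹)) = g * x * g⁻¹ * (g * g * δ * (g * g)⁻¹) * g := by group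
    _ = x * δ * (g * g * δ * (g * g)⁻¹) * g := by rw [e]
    _ = x * (δ * (g * g * δ * (g * g)⁻¹)) * g := by group
    _ = x * (g * δ * g⁻¹) * g := by rw [e2]

theorem comm_mem_ZB (hn : (cosetGraph P₁ P₂).Adj a n) {z s : G}
    (hz : z ∈ vertexZ 2 a) (hs : s ∈ edgeStabilizer a n) :
    z * (s * z * s⁻¹) ∈ vertexZ 2 n := by
  by_cases hsQ : s ∈ vertexQ 2 a
  · rw [h.Q_comm_Z hsQ hz, mul_inv_cancel_right, h.Z_sq hz]; exact one_mem _
  have h1 : s * z * s⁻¹ ∈ vertexZ 2 a := h.conj_mem_Z_self hs.1 hz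
  have hy : z * (s * z * s⁻¹) ∈ vertexZ 2 a := mul_mem hz h1
  refine h.mem_ZB_of_comm hn (h.Q_le_edge hn (h.Z_le_Q a hy)) (h.Z_sq hy) fun e he => ?_
  refine Subgroup.mem_centralizer_singleton_iff.1
    (h.edge_le_of hn (C := Subgroup.centralizer ({z * (s * z * s⁻¹)} : Set G))
      (fun q hq => Subgroup.mem_centralizer_singleton_iff.2 (h.Q_comm_Z hq hy))
      hs hsQ (Subgroup.mem_centralizer_singleton_iff.2 ?_) he)
  have h2 := h.Q_comm_Z (h.sq_mem_Q hn hs) hz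
  calc s * (z * (s * z * s⁻¹)) = s * z * s⁻¹ * (s * s * z * (s * s)⁻¹) * s := by group
    _ = s * z * s⁻¹ * z * s := by rw [h2, mul_inv_cancel_right]
    _ = z * (s * z * s⁻¹) * s := by rw [h.Z_comm h1 hz]

theorem mem_ZB_of_comm_swap (hn : (cosetGraph P₁ P₂).Adj a n) {z s : G}
    (hz : z ∈ vertexZ 2 a) (hs : s ∈ edgeStabilizer a n) (hsQ : s ∉ vertexQ 2 a)
    (hc : s * z = z * s) : z ∈ vertexZ 2 n := by
  refine h.mem_ZB_of_comm hn (h.Q_le_edge hn (h.Z_le_Q a hz)) (h.Z_sq hz) fun e he => ?_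
  exact Subgroup.mem_centralizer_singleton_iff.1
    (h.edge_le_of hn (C := Subgroup.centralizer ({z} : Set G))
      (fun q hq => Subgroup.mem_centralizer_singleton_iff.2 (h.Q_comm_Z hq hz))
      hs hsQ (Subgroup.mem_centralizer_singleton_iff.2 hc) he)

theorem ZB_surj (ha : IsA a) (hn : (cosetGraph P₁ P₂).Adj a n) {r s : G}
    (hr : r ∈ vertexZ 2 n) (hs : s ∈ edgeStabilizer a n) (hsQ : s ∉ vertexQ 2 a) :
    ∃ z ∈ vertexZ 2 a, z * (s * z * s⁻¹) = r := by
  obtain ⟨m, hm, hmn⟩ := h.exists_other hn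
  obtain ⟨k, g, c⟩ := h.exists_cyc hn hm hmn.symm
  have hra := h.ZB_le ha hn hr
  have h1 : g * r * g⁻¹ ∈ vertexZ 2 a := h.conj_mem_Z_self c.mem hra
  refine ⟨g * r * g⁻¹, h1, ?_⟩
  have h2 : s * (g * r * g⁻¹) * s⁻¹ = g * g * r * (g * g)⁻¹ := by
    rw [← h.carry ((adj_isA hn).1 ha) hr (g := s * g) (g' := g * g)
      (by rw [mul_smul, mul_smul, c.map₁, c.map₂, (h.swap_smul c hs hsQ).1])]
    group
  rw [h2]
  have hp := h.Z_cyc_prod ha c hra
  rw [mul_assoc] at hp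
  rw [eq_inv_of_mul_eq_one_right hp, h.Z_inv hra]

theorem Z_le_sup (ha : IsA a) (hn : (cosetGraph P₁ P₂).Adj a n)
    (hm : (cosetGraph P₁ P₂).Adj a m) (hnm : n ≠ m) :
    vertexZ 2 a ≤ vertexZ 2 n ⊔ vertexZ 2 m := by
  haveI : Fact (Nat.Prime 2) := ⟨Nat.prime_two⟩
  haveI := h.finite_stab a
  obtain ⟨k, g, c⟩ := h.exists_cyc hn hm hnm
  have hB := (adj_isA hn).1 ha
  have hall : ∀ w, (cosetGraph P₁ P₂).Adj a w →
      vertexZ 2 w ≤ vertexZ 2 n ⊔ vertexZ 2 m := by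
    intro w hw x hx
    by_cases hwn : w = n
    · exact Subgroup.mem_sup_left (hwn ▸ hx : x ∈ vertexZ 2 n)
    by_cases hwm : w = m
    · exact Subgroup.mem_sup_right (hwm ▸ hx : x ∈ vertexZ 2 m)
    have hwk : w = k := by
      obtain ⟨s, hs, hsQ⟩ := h.exists_swap hn
      rcases h.neighbour_cases hn hm hnm hs hsQ hw with e | e | e
      · exact absurd e hwn
      · exact absurd e hwm
      · exact e.trans (h.swap_smul c hs hsQ).1
    subst hwk
    have hr := h.conj_mem_Z g hx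
    rw [c.map₃] at hr
    have hrm := h.conj_mem_Z g hr
    rw [c.map₁] at hrm
    have hxa := h.ZB_le ha hw hx
    have hp := h.Z_cyc_prod ha c hxa
    rw [mul_assoc] at hp
    have e : x = (g * x * g⁻¹ * (g * g * x * (g * g)⁻¹))⁻¹ := eq_inv_of_mul_eq_one_left hp
    rw [e]
    refine inv_mem (mul_mem (Subgroup.mem_sup_left hr) (Subgroup.mem_sup_right ?_))
    rwa [show g * g * x * (g * g)⁻¹ = g * (g * x * g⁻¹) * g⁻¹ by group]
  refine iSup_le fun S => ?_
  rw [omegaOne]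
  refine (Subgroup.closure_le _).2 fun x hx => ?_
  obtain ⟨⟨hxS, hxC⟩, hx2⟩ := hx
  obtain ⟨b, hb, hbe⟩ := exists_conj_of_card (MulAction.stabilizer G a) (edgeStabilizer a n)
    ((S : Subgroup _).map (MulAction.stabilizer G a).subtype) inf_le_left
    (Subgroup.map_subtype_le _) (h.edge_card_eq hn) (sylow_map_card _ S)
  obtain ⟨y, hy, hyx⟩ := hbe.ge hxS
  have hyZ : y ∈ vertexZ 2 n := by
    refine h.mem_ZB_of_comm hn hy ?_ fun e he => ?_
    · apply (MulAut.conj b).injective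
      rw [map_mul, map_one, ← pow_two]
      exact (congrArg (· ^ 2) hyx).trans hx2
    · apply (MulAut.conj b).injective
      rw [map_mul, map_mul]
      have := Subgroup.mem_centralizer_iff.1 hxC _ (hbe.le ⟨e, he, rfl⟩)
      rw [← hyx] at this
      exact this
  have := hall _ (h.adj_smul_self hb hn) (h.conj_mem_Z b hyZ)
  have e : b * y * b⁻¹ = x := hyx
  rwa [e] at this

/-- A normal elementary abelian subgroup centralised by the core lies in `Z`. -/
theorem le_Z_of_centralized (ha : IsA a) (N : Subgroup G) (hN : N ≤ vertexQ 2 a)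
    (hnorm : MulAction.stabilizer G a ≤ Subgroup.normalizer (N : Set G))
    (hQ : ∀ q ∈ vertexQ 2 a, ∀ x ∈ N, q * x = x * q) (hsq : ∀ x ∈ N, x * x = 1) :
    N ≤ vertexZ 2 a := by
  intro x hx
  obtain ⟨n, hn⟩ := exists_adj a
  obtain ⟨m, hm, hmn⟩ := h.exists_other hn
  obtain ⟨k, g, c⟩ := h.exists_cyc hn hm hmn.symm
  have hcm : ∀ {p q : G}, p ∈ N → q ∈ N → p * q = q * p := fun hp hq => hQ _ (hN hp) _ hq
  let K : Subgroup G :=
    { carrier := {b | b ∈ MulAction.stabilizer G a ∧ ∀ y ∈ N, y * (b * y * b⁻¹) ∈ vertexZ 2 a}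
      one_mem' := ⟨one_mem _, fun y hy => by
        rw [one_mul, inv_one, mul_one, hsq y hy]; exact one_mem _⟩
      mul_mem' := fun {b₁ b₂} hb₁ hb₂ => ⟨mul_mem hb₁.1 hb₂.1, fun y hy => by
        have hy' := conj_mem_of_mem_normalizer (hnorm hb₂.1) hy
        have := mul_mem (hb₂.2 y hy) (hb₁.2 _ hy')
        rwa [mul_assoc y, ← mul_assoc (b₂ * y * b₂⁻¹), hsq _ hy', one_mul,
          show b₁ * (b₂ * y * b₂⁻¹) * b₁⁻¹ = b₁ * b₂ * y * (b₁ * b₂)⁻¹ by group] at this⟩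
      inv_mem' := fun {b} hb => ⟨inv_mem hb.1, fun y hy => by
        have hy' := conj_mem_of_mem_normalizer (hnorm (inv_mem hb.1)) hy
        have := hb.2 _ hy'
        rw [show b * (b⁻¹ * y * b⁻¹⁻¹) * b⁻¹ = y by group] at this
        rwa [hcm hy hy']⟩ }
  have hswap : ∀ {w}, (cosetGraph P₁ P₂).Adj a w → ∀ s ∈ edgeStabilizer a w, s ∈ K := by
    intro w hw s hs
    refine ⟨hs.1, fun y hy => ?_⟩
    by_cases hsQ : s ∈ vertexQ 2 a
    · rw [hQ s hsQ y hy, mul_inv_cancel_right, hsq y hy]; exact one_mem _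
    have hy' := conj_mem_of_mem_normalizer (hnorm hs.1) hy
    have hp : y * (s * y * s⁻¹) ∈ N := mul_mem hy hy'
    refine h.ZB_le ha hw (h.mem_ZB_of_comm hw (h.Q_le_edge hw (hN hp)) (hsq _ hp) fun e he => ?_)
    refine Subgroup.mem_centralizer_singleton_iff.1
      (h.edge_le_of hw (C := Subgroup.centralizer ({y * (s * y * s⁻¹)} : Set G))
        (fun q hq => Subgroup.mem_centralizer_singleton_iff.2 (hQ q hq _ hp))
        hs hsQ (Subgroup.mem_centralizer_singleton_iff.2 ?_) he)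
    have h2 := hQ _ (h.sq_mem_Q hw hs) y hy
    calc s * (y * (s * y * s⁻¹)) = s * y * s⁻¹ * (s * s * y * (s * s)⁻¹) * s := by group
      _ = s * y * s⁻¹ * y * s := by rw [h2, mul_inv_cancel_right]
      _ = y * (s * y * s⁻¹) * s := by rw [hcm hy' hy]
  obtain ⟨s, hs, hsQ⟩ := h.exists_swap hn
  obtain ⟨t, ht, htQ⟩ := h.exists_swap hm
  have hgK : g ∈ K := h.stab_le_of_two hn hm hmn.symm
    (fun q hq => hswap hn q (h.Q_le_edge hn hq)) hs hsQ (hswap hn s hs) ht htQ (hswap hm t ht) c.mem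
  have hδ := hgK.2 x hx
  obtain ⟨ζ, hζ, hfix⟩ := h.exists_fixed_mul ha c hδ (x := x)
    (by rw [← mul_assoc, hsq x hx, one_mul])
  have hxζ : x * ζ ∈ N ⊔ vertexZ 2 a := mul_mem (Subgroup.mem_sup_left hx) (Subgroup.mem_sup_right hζ)
  have h1 : x * ζ = 1 := by
    refine h.fixed_eq_one' ha c (N ⊔ vertexZ 2 a) (sup_le hN (h.Z_le_Q a)) (fun b hb => ?_)
      (fun q hq y hy => ?_) hxζ hfix
    · haveI : Finite ↥(N ⊔ vertexZ 2 a) :=
        h.finite_le_edge ((sup_le hN (h.Z_le_Q a)).trans (h.Q_le_edge hn))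
      refine mem_normalizer_of_conj fun y hy => ?_
      have hle : N ⊔ vertexZ 2 a ≤ (N ⊔ vertexZ 2 a).comap (MulAut.conj b).toMonoidHom :=
        sup_le (fun z hz => Subgroup.mem_sup_left (conj_mem_of_mem_normalizer (hnorm hb) hz))
          (fun z hz => Subgroup.mem_sup_right (h.conj_mem_Z_self hb hz))
      exact hle hy
    · have hle : N ⊔ vertexZ 2 a ≤ Subgroup.centralizer ({q} : Set G) :=
        sup_le (fun z hz => Subgroup.mem_centralizer_singleton_iff.2 (hQ q hq z hz).symm)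
          (fun z hz => Subgroup.mem_centralizer_singleton_iff.2 (h.Q_comm_Z hq hz).symm)
      exact (Subgroup.mem_centralizer_singleton_iff.1 (hle hy)).symm
  rw [eq_inv_of_mul_eq_one_left h1]
  exact inv_mem hζ

end Hyp

end CfsgLib.LocalEven49.Goldschmidt
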