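import Cfsg.Agent.LocalEven49.Goldschmidt.Two
import Cfsg.Agent.LocalEven49.Goldschmidt.Even
import Cfsg.Agent.LocalEven49.Goldschmidt.Five
import Cfsg.Agent.LocalEven48.S3Amalgam.Main

/-!
The bound on the common Sylow group of an amalgam with both residues the symmetric group of
degree 3.
-/

set_option autoImplicit false
set_option linter.style.haveILetI false
set_option linter.unusedSectionVars false

namespace CfsgLib.LocalEven49.Goldschmidt

open Cfsg CfsgLib.LocalEven CfsgLib.LocalEven48.Amalgam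
open CfsgLib.LocalEven48.S3Amalgam (conj_mem_pCoreOf card_eq_six_mul mem_pCoreOf_of_comm)

variable {G : Type*} [Group G] {P₁ P₂ : Subgroup G}

/-- The conditions on one of the two groups. -/
structure Member (T P : Subgroup G) : Prop where
  finite : Finite P
  le : T ≤ P
  card_sylow : Nat.card T = 2 ^ (Nat.card P).factorization 2
  card : Nat.card P = 6 * Nat.card (pCoreOf 2 P)

namespace Member

variable {T P : Subgroup G} (hP : Member T P)
include hP

theorem finite_T : Finite T :=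
  haveI := hP.finite
  Finite.of_injective _ (Subgroup.inclusion_injective hP.le)

theorem core_le : pCoreOf 2 P ≤ T :=
  haveI := hP.finite
  haveI : Fact (Nat.Prime 2) := ⟨Nat.prime_two⟩
  pCoreOf_le_of_card P T hP.le hP.card_sylow

theorem isPGroup_T : IsPGroup 2 T := IsPGroup.of_card hP.card_sylow

theorem finite_core : Finite (pCoreOf 2 P) :=
  haveI := hP.finite_T
  Finite.of_injective _ (Subgroup.inclusion_injective hP.core_le)

theorem card_T : Nat.card T = 2 * Nat.card (pCoreOf 2 P) := by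
  haveI : Fact (Nat.Prime 2) := ⟨Nat.prime_two⟩
  haveI := hP.finite_core
  obtain ⟨j, hj⟩ := (hP.isPGroup_T.to_le hP.core_le).exists_card_eq
  rw [hP.card_sylow, hP.card, hj, show 6 * 2 ^ j = 2 ^ (j + 1) * 3 by ring,
    Nat.factorization_mul (by positivity) (by norm_num), Finsupp.add_apply,
    Nat.Prime.factorization_pow Nat.prime_two, Finsupp.single_eq_same,
    Nat.factorization_eq_zero_of_not_dvd (by norm_num : ¬ 2 ∣ 3)]
  ring

theorem card' : Nat.card P = 3 * Nat.card T := by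
  have := hP.card
  have := hP.card_T
  omega

theorem mul_mem_core {a b : G} (ha : a ∈ T) (hb : b ∈ T) (ha' : a ∉ pCoreOf 2 P)
    (hb' : b ∉ pCoreOf 2 P) : a * b ∈ pCoreOf 2 P := by
  haveI := hP.finite_core
  have hidx : ((pCoreOf 2 P).subgroupOf T).index = 2 := by
    have := ((pCoreOf 2 P).subgroupOf T).index_mul_card
    rw [Nat.card_congr (Subgroup.subgroupOfEquivOfLe hP.core_le).toEquiv, hP.card_T] at this
    exact Nat.eq_of_mul_eq_mul_right Nat.card_pos this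
  have := Subgroup.mul_mem_iff_of_index_two hidx (a := ⟨a, ha⟩) (b := ⟨b, hb⟩)
  simp only [Subgroup.mem_subgroupOf, Subgroup.coe_mul] at this
  exact this.2 ⟨fun hh => absurd hh ha', fun hh => absurd hh hb'⟩

theorem notMem_of_order {g : G} (hg : orderOf g = 3) : g ∉ T := fun h => by
  haveI : Fact (Nat.Prime 2) := ⟨Nat.prime_two⟩
  obtain ⟨j, hj⟩ := orderOf_eq_pow_of_mem hP.isPGroup_T h
  have := (Nat.prime_dvd_prime_iff_eq Nat.prime_three Nat.prime_two).1
    (Nat.prime_three.dvd_of_dvd_pow (hg ▸ hj ▸ dvd_rfl : 3 ∣ 2 ^ j))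
  omega

theorem le_of_order {g : G} (hg : g ∈ P) (hg3 : orderOf g = 3) {C : Subgroup G} (hT : T ≤ C)
    (hgC : g ∈ C) : P ≤ C := by
  haveI := hP.finite
  haveI := hP.finite_T
  set K := C ⊓ P
  haveI : Finite K := Finite.of_injective _ (Subgroup.inclusion_injective (inf_le_right : K ≤ P))
  have d1 : Nat.card T ∣ Nat.card K := Subgroup.card_dvd_of_le (le_inf hT hP.le)
  have d2 : 3 ∣ Nat.card K := hg3 ▸ Subgroup.orderOf_dvd_natCard K ⟨hgC, hg⟩
  have h3 : Nat.Coprime (Nat.card T) 3 := by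
    rw [hP.card_sylow]; exact Nat.Coprime.pow_left _ (by norm_num)
  have d3 := h3.mul_dvd_of_dvd_of_dvd d1 d2
  have := Subgroup.eq_of_le_of_card_ge (inf_le_right : K ≤ P)
    (by rw [hP.card', mul_comm 3]; exact Nat.le_of_dvd Nat.card_pos d3)
  exact this ▸ inf_le_left

theorem exists_order_three : ∃ g ∈ P, orderOf g = 3 := by
  haveI := hP.finite
  haveI : Fact (Nat.Prime 3) := ⟨Nat.prime_three⟩
  obtain ⟨x, hx⟩ := exists_prime_orderOf_dvd_card' (G := P) 3
    (hP.card' ▸ dvd_mul_right 3 _)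
  exact ⟨x, x.2, by rw [Subgroup.orderOf_coe]; exact hx⟩

/-- The core of a subgroup normalised by `T`. -/
theorem exists_normal_core {g : G} (hg : g ∈ P) (hg3 : orderOf g = 3) {D : Subgroup G}
    (hT : ∀ t ∈ T, ∀ x ∈ D, t * x * t⁻¹ ∈ D) :
    ∀ x ∈ D, g * x * g⁻¹ ∈ D → g * g * x * (g * g)⁻¹ ∈ D → ∀ b ∈ P, b * x * b⁻¹ ∈ D := by
  classical
  intro x h0 h1 h2 b hb
  haveI := hP.finite
  haveI := hP.finite_T
  let f : Fin 3 × T → P := fun q => ⟨q.2 * g ^ (q.1 : ℕ), mul_mem (hP.le q.2.2) (pow_mem hg _)⟩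
  have hinj : Function.Injective f := by
    rintro ⟨i, s⟩ ⟨j, t⟩ e
    have e' : (s : G) * g ^ (i : ℕ) = t * g ^ (j : ℕ) := congrArg Subtype.val e
    have hgT := hP.notMem_of_order hg3
    have hmem : ∀ {a c : ℕ} {s t : T}, a ≤ c → c < 3 → (s : G) * g ^ a = t * g ^ c → a = c := by
      intro a c s t hac hc3 e
      have : g ^ (c - a) ∈ T := by
        rw [show g ^ (c - a) = (t : G)⁻¹ * s by
          rw [← mul_right_inj (t : G), mul_inv_cancel_left, ← mul_left_inj (g ^ a), mul_assoc,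
            ← pow_add, Nat.sub_add_cancel hac, e]]
        exact mul_mem (inv_mem t.2) s.2
      by_contra hne
      rcases (show c - a = 1 ∨ c - a = 2 by omega) with h | h <;> rw [h] at this
      · exact hgT (pow_one g ▸ this)
      · apply hgT
        have h6 : g ^ (2 * 2) = g := by
          rw [show 2 * 2 = 3 + 1 by rfl, pow_succ, ← hg3, pow_orderOf_eq_one, one_mul]
        rw [← h6, pow_mul]
        exact pow_mem this 2
    have hij : (i : ℕ) = j := by
      rcases Nat.le_total (i : ℕ) j with hle | hle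
      · exact hmem hle j.2 e'
      · exact (hmem hle i.2 e'.symm).symm
    have : i = j := Fin.ext hij
    subst this
    exact Prod.ext rfl (Subtype.ext (mul_right_cancel e'))
  have hsurj := (hinj.bijective_of_nat_card_le (by
    rw [Nat.card_prod, Nat.card_fin, hP.card'])).2
  obtain ⟨⟨i, t⟩, e⟩ := hsurj ⟨b, hb⟩
  have e' : (t : G) * g ^ (i : ℕ) = b := congrArg Subtype.val e
  subst e'
  rw [show (t : G) * g ^ (i : ℕ) * x * ((t : G) * g ^ (i : ℕ))⁻¹ =
    t * (g ^ (i : ℕ) * x * (g ^ (i : ℕ))⁻¹) * (t : G)⁻¹ by group]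
  refine hT _ t.2 _ ?_
  fin_cases i
  · simpa using h0
  · simpa using h1
  · simpa [pow_two] using h2

end Member

/-- A member which is not of characteristic 2 bounds `T`. -/
theorem card_le_of_noncharP {T : Subgroup G} (h1 : Member T P₁) (h2 : Member T P₂)
    (hnn : ∀ N : Subgroup G, N ≤ T → P₁ ≤ Subgroup.normalizer (N : Set G) →
      P₂ ≤ Subgroup.normalizer (N : Set G) → N = ⊥)
    (hno : ¬ P₁ ⊓ Subgroup.centralizer (pCoreOf 2 P₁ : Set G) ≤ pCoreOf 2 P₁) :
    Nat.card T ≤ 2 ^ 4 := by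
  haveI : Fact (Nat.Prime 2) := ⟨Nat.prime_two⟩
  haveI : Fact (Nat.Prime 3) := ⟨Nat.prime_three⟩
  haveI := h1.finite
  haveI := h2.finite
  haveI := h1.finite_T
  haveI := h1.finite_core
  haveI := h2.finite_core
  have hnormQ : ∀ {P : Subgroup G} (_ : Member T P) {b : G}, b ∈ P → ∀ x ∈ pCoreOf 2 P,
      b * x * b⁻¹ ∈ pCoreOf 2 P := fun {P} _ {b} hb x hx => by
    have := conj_mem_pCoreOf b hx
    rwa [map_conj_eq_self hb] at this
  set Q₁ := pCoreOf 2 P₁
  set Q₂ := pCoreOf 2 P₂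
  -- an element of order three centralising `Q₁`
  obtain ⟨g, hg, hg3, hgc⟩ : ∃ g ∈ P₁, orderOf g = 3 ∧ ∀ x ∈ Q₁, g * x = x * g := by
    set C := P₁ ⊓ Subgroup.centralizer (Q₁ : Set G) with hC
    haveI : Finite C := Finite.of_injective _ (Subgroup.inclusion_injective (inf_le_left : C ≤ P₁))
    by_cases h3 : 3 ∣ Nat.card C
    · obtain ⟨x, hx⟩ := exists_prime_orderOf_dvd_card' (G := C) 3 h3
      exact ⟨x, x.2.1, by rw [Subgroup.orderOf_coe]; exact hx,
        fun y hy => (Subgroup.mem_centralizer_iff.1 x.2.2 y hy).symm⟩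
    exfalso
    have hd : Nat.card C ∣ 2 ^ (Nat.card P₁).factorization 2 * 3 := by
      rw [← h1.card_sylow, mul_comm, ← h1.card']; exact Subgroup.card_dvd_of_le inf_le_left
    obtain ⟨j, -, hj⟩ := (Nat.dvd_prime_pow Nat.prime_two).1 (Nat.Coprime.dvd_of_dvd_mul_right
      ((Nat.Prime.coprime_iff_not_dvd Nat.prime_three).2 h3).symm hd)
    have hnormal : (C.subgroupOf P₁).Normal := by
      refine ⟨fun a ha b => ?_⟩
      rw [Subgroup.mem_subgroupOf] at ha ⊢
      refine ⟨(b * a * b⁻¹).2, Subgroup.mem_centralizer_iff.2 fun z hz => ?_⟩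
      have e := Subgroup.mem_centralizer_iff.1 ha.2 _ (hnormQ h1 (inv_mem b.2) z hz)
      simp only [Subgroup.coe_mul, Subgroup.coe_inv]
      calc z * ((b : G) * a * (b : G)⁻¹)
          = (b : G) * (((b : G)⁻¹ * z * (b : G)⁻¹⁻¹) * a) * (b : G)⁻¹ := by group
        _ = (b : G) * (a * ((b : G)⁻¹ * z * (b : G)⁻¹⁻¹)) * (b : G)⁻¹ := by rw [e]
        _ = (b : G) * a * (b : G)⁻¹ * z := by group
    have hpC : IsPGroup 2 (C.subgroupOf P₁) := IsPGroup.of_card (n := j) (by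
      rw [Nat.card_congr (Subgroup.subgroupOfEquivOfLe (inf_le_left : C ≤ P₁)).toEquiv, hj])
    have hle : C.subgroupOf P₁ ≤ pCore 2 P₁ := le_sSup ⟨hnormal, hpC⟩
    exact hno fun x hx => ⟨⟨x, hx.1⟩, hle (Subgroup.mem_subgroupOf.2 hx), rfl⟩
  obtain ⟨f, hf, hf3⟩ := h2.exists_order_three
  set D := Q₁ ⊓ Q₂ with hD
  have hTD : ∀ t ∈ T, ∀ x ∈ D, t * x * t⁻¹ ∈ D := fun t ht x hx =>
    ⟨hnormQ h1 (h1.le ht) x hx.1, hnormQ h2 (h2.le ht) x hx.2⟩
  set N := D ⊓ D.comap (MulAut.conj f).toMonoidHom ⊓ D.comap (MulAut.conj (f * f)).toMonoidHom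
    with hN
  have hcore : ∀ x ∈ N, ∀ b ∈ P₂, b * x * b⁻¹ ∈ D := fun x hx =>
    h2.exists_normal_core hf hf3 hTD x hx.1.1 hx.1.2 hx.2
  have hNT : N ≤ T := fun x hx => h1.core_le hx.1.1.1
  haveI : Finite N := Finite.of_injective _ (Subgroup.inclusion_injective hNT)
  have hn2 : P₂ ≤ Subgroup.normalizer (N : Set G) := fun b hb => by
    refine mem_normalizer_of_conj fun x hx => ⟨⟨hcore x hx b hb, ?_⟩, ?_⟩
    · show f * (b * x * b⁻¹) * f⁻¹ ∈ D
      rw [show f * (b * x * b⁻¹) * f⁻¹ = f * b * x * (f * b)⁻¹ by group]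
      exact hcore x hx _ (mul_mem hf hb)
    · show f * f * (b * x * b⁻¹) * (f * f)⁻¹ ∈ D
      rw [show f * f * (b * x * b⁻¹) * (f * f)⁻¹ = f * f * b * x * (f * f * b)⁻¹ by group]
      exact hcore x hx _ (mul_mem (mul_mem hf hf) hb)
  have hn1 : P₁ ≤ Subgroup.normalizer (N : Set G) :=
    h1.le_of_order hg hg3 (fun t ht => hn2 (h2.le ht))
      (Subgroup.centralizer_le_normalizer _ (Subgroup.mem_centralizer_iff.2 fun x hx =>
        (hgc x hx.1.1.1).symm))
  have hbot : N = ⊥ := hnn N hNT hn1 hn2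
  -- three subgroups of index two
  have hD2 : ∀ {b : G}, b ∈ P₂ → ∀ x ∈ Q₂, ∀ y ∈ Q₂, x ∉ D.comap (MulAut.conj b).toMonoidHom →
      y ∉ D.comap (MulAut.conj b).toMonoidHom → x * y ∈ D.comap (MulAut.conj b).toMonoidHom := by
    intro b hb x hx y hy hx' hy'
    have hx2 := hnormQ h2 hb x hx
    have hy2 := hnormQ h2 hb y hy
    show b * (x * y) * b⁻¹ ∈ D
    rw [show b * (x * y) * b⁻¹ = b * x * b⁻¹ * (b * y * b⁻¹) by group]
    exact ⟨h1.mul_mem_core (h2.core_le hx2) (h2.core_le hy2) (fun e => hx' ⟨e, hx2⟩)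
      (fun e => hy' ⟨e, hy2⟩), mul_mem hx2 hy2⟩
  have s1 : Nat.card Q₂ ≤ 2 * Nat.card ↥(Q₂ ⊓ D) :=
    card_le_two_mul Q₂ D fun x hx y hy hx' hy' =>
      ⟨h1.mul_mem_core (h2.core_le hx) (h2.core_le hy) (fun e => hx' ⟨e, hx⟩)
        (fun e => hy' ⟨e, hy⟩), mul_mem hx hy⟩
  haveI : Finite ↥(Q₂ ⊓ D) := Finite.of_injective _ (Subgroup.inclusion_injective inf_le_left)
  have s2 := card_le_two_mul (Q₂ ⊓ D) (D.comap (MulAut.conj f).toMonoidHom)
    fun x hx y hy => hD2 hf x hx.1 y hy.1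
  haveI : Finite ↥(Q₂ ⊓ D ⊓ D.comap (MulAut.conj f).toMonoidHom) :=
    Finite.of_injective _ (Subgroup.inclusion_injective inf_le_left)
  have s3 := card_le_two_mul (Q₂ ⊓ D ⊓ D.comap (MulAut.conj f).toMonoidHom)
    (D.comap (MulAut.conj (f * f)).toMonoidHom) fun x hx y hy => hD2 (mul_mem hf hf) x hx.1.1 y hy.1.1
  have s4 : Q₂ ⊓ D ⊓ D.comap (MulAut.conj f).toMonoidHom ⊓
      D.comap (MulAut.conj (f * f)).toMonoidHom = ⊥ :=
    le_bot_iff.1 fun x hx => hbot ▸ (⟨⟨hx.1.1.2, hx.1.2⟩, hx.2⟩ : x ∈ N)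
  rw [s4, Subgroup.card_bot] at s3
  have : Nat.card T = 2 * Nat.card Q₂ := h2.card_T
  omega

/-- Exactly one of the two `Ω₁(Z(T))` is central. -/
theorem card_le_of_mixed (hpair : IsCharPAmalgamPair 2 P₁ P₂) (h1 : Member (P₁ ⊓ P₂) P₁)
    (h2 : Member (P₁ ⊓ P₂) P₂)
    (hnc : ¬ P₁ ≤ Subgroup.centralizer (omegaOne 2 ((P₁ ⊓ P₂) ⊓
      Subgroup.centralizer ((P₁ ⊓ P₂ : Subgroup G) : Set G)) : Set G))
    (hcen : P₂ ≤ Subgroup.centralizer (omegaOne 2 ((P₁ ⊓ P₂) ⊓
      Subgroup.centralizer ((P₁ ⊓ P₂ : Subgroup G) : Set G)) : Set G)) :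
    Nat.card ↥(P₁ ⊓ P₂) ≤ 2 ^ 7 := by
  haveI : Fact (Nat.Prime 2) := ⟨Nat.prime_two⟩
  haveI := h1.finite
  haveI := h2.finite
  set T := P₁ ⊓ P₂ with hT
  -- the closure at the second group is central
  have hZ2 : ∀ g ∈ P₂, ∀ z ∈ sylowCenterClosure 2 P₂, g * z = z * g := by
    intro g hg
    suffices hle : sylowCenterClosure 2 P₂ ≤ Subgroup.centralizer ({g} : Set G) from
      fun z hz => (Subgroup.mem_centralizer_singleton_iff.1 (hle hz)).symm
    refine iSup_le fun S => ?_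
    rw [omegaOne]
    refine (Subgroup.closure_le _).2 fun x hx => Subgroup.mem_centralizer_singleton_iff.2 ?_
    obtain ⟨⟨hxS, hxC⟩, hx2⟩ := hx
    obtain ⟨b, hb, hbe⟩ := exists_conj_of_card P₂ T
      ((S : Subgroup _).map P₂.subtype) h2.le (Subgroup.map_subtype_le _) h2.card_sylow
      (sylow_map_card _ S)
    obtain ⟨y, hy, hyx⟩ := hbe.ge hxS
    have hyΩ : y ∈ omegaOne 2 (T ⊓ Subgroup.centralizer (T : Set G)) := by
      refine Subgroup.subset_closure ⟨⟨hy, Subgroup.mem_centralizer_iff.2 fun e he => ?_⟩, ?_⟩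
      · apply (MulAut.conj b).injective
        rw [map_mul, map_mul]
        have := Subgroup.mem_centralizer_iff.1 hxC _ (hbe.le ⟨e, he, rfl⟩)
        rw [← hyx] at this
        exact this
      · apply (MulAut.conj b).injective
        rw [map_pow, map_one]
        exact (congrArg (· ^ 2) hyx).trans hx2
    have hcy : ∀ a ∈ P₂, a * y = y * a := fun a ha =>
      (Subgroup.mem_centralizer_iff.1 (hcen ha) y hyΩ).symm
    have hxy : x = y := hyx.symm.trans (mul_inv_eq_iff_eq_mul.2 (hcy b hb))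
    rw [hxy]
    exact (hcy g hg).symm
  have hcore : ∀ (P : Subgroup G) (x : G),
      pCoreOf 2 (P.map (MulAut.conj x).toMonoidHom) =
        (pCoreOf 2 P).map (MulAut.conj x).toMonoidHom := by
    intro P x
    refine le_antisymm (fun y hy => ?_) ?_
    · refine ⟨x⁻¹ * y * x, ?_, by simp [mul_assoc]⟩
      have := conj_mem_pCoreOf x⁻¹ hy
      rwa [inv_inv, Subgroup.map_map, show (MulAut.conj x⁻¹).toMonoidHom.comp
        (MulAut.conj x).toMonoidHom = MonoidHom.id G from MonoidHom.ext fun a => by simp [mul_assoc],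
        Subgroup.map_id] at this
    · rintro _ ⟨z, hz, rfl⟩
      exact conj_mem_pCoreOf x hz
  have h : Hyp P₁ P₂ := by
    refine ⟨hpair, fun v => ?_, fun v hv g hg hcomm => ?_, fun v hv g hg z hz => ?_⟩
    · obtain ⟨x, rfl | rfl⟩ := vertex_cases v
      · rw [vertexQ, stabilizer_inl, hcore,
          Subgroup.card_map_of_injective (MulAut.conj x).injective,
          Subgroup.card_map_of_injective (MulAut.conj x).injective, h1.card]
      · rw [vertexQ, stabilizer_inr, hcore,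
          Subgroup.card_map_of_injective (MulAut.conj x).injective,
          Subgroup.card_map_of_injective (MulAut.conj x).injective, h2.card]
    · obtain ⟨x, rfl | rfl⟩ := vertex_cases v
      swap
      · simp [IsA] at hv
      rw [stabilizer_inl] at hg
      obtain ⟨a, ha, rfl⟩ := hg
      rw [vertexQ, stabilizer_inl, hcore]
      refine ⟨a, mem_pCoreOf_of_comm h1.le h1.card_sylow h1.card hnc ha fun z hz =>
        (MulAut.conj x).injective ?_, rfl⟩
      rw [map_mul, map_mul]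
      refine hcomm _ ?_
      show _ ∈ sylowCenterClosure 2 _
      rw [stabilizer_inl]
      exact map_sylowCenterClosure_le x P₁ ⟨z, hz, rfl⟩
    · obtain ⟨x, rfl | rfl⟩ := vertex_cases v
      · simp [IsA] at hv
      rw [stabilizer_inr] at hg
      obtain ⟨a, ha, rfl⟩ := hg
      have hz' : z ∈ sylowCenterClosure 2 (P₂.map (MulAut.conj x).toMonoidHom) := by
        rwa [vertexZ, stabilizer_inr] at hz
      haveI : Finite ↥(P₂.map (MulAut.conj x).toMonoidHom) :=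
        Finite.of_equiv _ (P₂.equivMapOfInjective _ (MulAut.conj x).injective).toEquiv
      have hb := map_sylowCenterClosure_le x⁻¹ (P₂.map (MulAut.conj x).toMonoidHom) ⟨z, hz', rfl⟩
      rw [Subgroup.map_map, show (MulAut.conj x⁻¹).toMonoidHom.comp
        (MulAut.conj x).toMonoidHom = MonoidHom.id G from MonoidHom.ext fun a => by simp [mul_assoc],
        Subgroup.map_id] at hb
      have e : a * (x⁻¹ * z * x⁻¹⁻¹) = x⁻¹ * z * x⁻¹⁻¹ * a := hZ2 a ha _ hb
      show x * a * x⁻¹ * z = z * (x * a * x⁻¹)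
      calc x * a * x⁻¹ * z = x * (a * (x⁻¹ * z * x⁻¹⁻¹)) * x⁻¹ := by group
        _ = x * (x⁻¹ * z * x⁻¹⁻¹ * a) * x⁻¹ := by rw [e]
        _ = z * (x * a * x⁻¹) := by group
  obtain ⟨k, hmin, p, hc⟩ := h.exists_crit
  have h2k := h.two_le hmin hc
  rcases (show k = 2 ∨ k = 3 ∨ (4 ≤ k ∧ Even k) ∨ (k = 5) ∨ (7 ≤ k ∧ ¬ Even k) by
    by_cases he : Even k
    · obtain ⟨j, rfl⟩ := he
      by_cases j = 1
      · omega
      · exact Or.inr (Or.inr (Or.inl ⟨by omega, ⟨j, rfl⟩⟩))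
    · rcases Nat.lt_or_ge k 7 with h7 | h7
      · interval_cases k <;> first | omega | exact absurd (by decide) he
      · exact Or.inr (Or.inr (Or.inr (Or.inr ⟨h7, he⟩)))) with
    rfl | rfl | ⟨h4, he⟩ | rfl | ⟨h7, he⟩
  · exact h.two_bound hmin hc
  · exact h.three_bound hmin hc
  · exact (h.even_false h4 hmin hc he).elim
  · exact (h.five_false hmin hc).elim
  · exact (h.odd_seven_false (by omega) hmin he h7 hc).elim

theorem bound_of_generated [Finite P₁] [Finite P₂] (hgen : P₁ ⊔ P₂ = ⊤)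
    (h₂ : ∀ P ∈ ({P₁, P₂} : Set (Subgroup G)),
      ∃ S : Sylow 2 ↥P, (S : Subgroup ↥P) = (P₁ ⊓ P₂).subgroupOf P)
    (h₄ : ∀ P ∈ ({P₁, P₂} : Set (Subgroup G)),
      Nonempty (↥P ⧸ pCore 2 ↥P ≃* Equiv.Perm (Fin 3)))
    (hnn : ∀ N : Subgroup G, N ≤ P₁ ⊓ P₂ → P₁ ≤ Subgroup.normalizer (N : Set G) →
      P₂ ≤ Subgroup.normalizer (N : Set G) → N = ⊥) :
    Nat.card ↥(P₁ ⊓ P₂) ≤ 2 ^ 7 := by
  classical
  haveI : Fact (Nat.Prime 2) := ⟨Nat.prime_two⟩
  set T := P₁ ⊓ P₂ with hT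
  have m1 : P₁ ∈ ({P₁, P₂} : Set (Subgroup G)) := Or.inl rfl
  have m2 : P₂ ∈ ({P₁, P₂} : Set (Subgroup G)) := Or.inr rfl
  have mem : ∀ P ∈ ({P₁, P₂} : Set (Subgroup G)), T ≤ P → ∀ [Finite P], Member T P := by
    intro P hP hle _
    refine ⟨inferInstance, hle, ?_, card_eq_six_mul (h₄ P hP)⟩
    obtain ⟨S, hS⟩ := h₂ P hP
    rw [← S.card_eq_multiplicity]
    show Nat.card T = Nat.card (S : Subgroup P)
    rw [hS, Nat.card_congr (Subgroup.subgroupOfEquivOfLe hle).toEquiv]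
  have M1 : Member T P₁ := mem P₁ m1 inf_le_left
  have M2 : Member T P₂ := mem P₂ m2 inf_le_right
  by_cases hchar : (P₁ ⊓ Subgroup.centralizer (pCoreOf 2 P₁ : Set G) ≤ pCoreOf 2 P₁) ∧
      (P₂ ⊓ Subgroup.centralizer (pCoreOf 2 P₂ : Set G) ≤ pCoreOf 2 P₂)
  swap
  · have hle : Nat.card T ≤ 2 ^ 4 := by
      by_cases h1 : P₁ ⊓ Subgroup.centralizer (pCoreOf 2 P₁ : Set G) ≤ pCoreOf 2 P₁
      · exact card_le_of_noncharP M2 M1 (fun N hN a b => hnn N hN b a)
          fun h2 => hchar ⟨h1, h2⟩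
      · exact card_le_of_noncharP M1 M2 hnn h1
    exact hle.trans (by norm_num)
  have h₃ : ∀ N : Subgroup G, N.Normal → N ≤ T → N = ⊥ := fun N hN hle =>
    hnn N hle (fun g _ => by rw [Subgroup.normalizer_eq_top]; trivial)
      (fun g _ => by rw [Subgroup.normalizer_eq_top]; trivial)
  have hne : ∀ P : Subgroup G, Member T P → T ≠ P := fun P hP e => by
    haveI := hP.finite_T
    have := hP.card'
    rw [← e] at this
    have : 0 < Nat.card T := Nat.card_pos
    omega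
  have hne1 : P₁ ≠ ⊤ := fun e => hne P₂ M2 (by rw [hT, e, top_inf_eq])
  have hne2 : P₂ ≠ ⊤ := fun e => hne P₁ M1 (by rw [hT, e, inf_top_eq])
  have hcentr : ∀ P : Subgroup G, P ⊓ Subgroup.centralizer (pCoreOf 2 P : Set G) ≤ pCoreOf 2 P →
      Subgroup.centralizer (pCore 2 P : Set P) ≤ pCore 2 P := by
    intro P hP a ha
    have hmem : (a : G) ∈ pCoreOf 2 P := by
      refine hP ⟨a.2, Subgroup.mem_centralizer_iff.2 ?_⟩
      rintro _ ⟨b, hb, rfl⟩
      exact congrArg Subtype.val (Subgroup.mem_centralizer_iff.1 ha b hb)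
    obtain ⟨b, hb, e⟩ := hmem
    exact (Subtype.ext e : b = a) ▸ hb
  haveI : Finite ↥(P₁ ⊓ P₂) := M1.finite_T
  have hSc : ∀ S : Sylow 2 ↥(P₁ ⊓ P₂), Nat.card S = Nat.card T := fun S => by
    have hStop : (S : Subgroup ↥(P₁ ⊓ P₂)) = ⊤ :=
      S.3 (M1.isPGroup_T.to_subgroup ⊤) le_top |>.symm
    show Nat.card (S : Subgroup ↥(P₁ ⊓ P₂)) = _
    rw [hStop, Subgroup.card_top]
  have hpair : IsCharPAmalgamPair 2 P₁ P₂ :=
    ⟨⟨hgen, hne1, hne2, fun N hN hNn => h₃ N hNn hN⟩, inferInstance, inferInstance,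
      M1.card ▸ dvd_mul_of_dvd_left (by norm_num) _,
      M2.card ▸ dvd_mul_of_dvd_left (by norm_num) _,
      fun S S₁ S₂ => ⟨by rw [hSc, S₁.card_eq_multiplicity]; exact M1.card_sylow,
        by rw [hSc, S₂.card_eq_multiplicity]; exact M2.card_sylow⟩,
      hcentr P₁ hchar.1, hcentr P₂ hchar.2⟩
  set Ω := omegaOne 2 (T ⊓ Subgroup.centralizer (T : Set G)) with hΩ
  by_cases c1 : P₁ ≤ Subgroup.centralizer (Ω : Set G) <;>
    by_cases c2 : P₂ ≤ Subgroup.centralizer (Ω : Set G)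
  · -- a common central element
    exfalso
    have hbot : Ω = ⊥ := hnn Ω ((omegaOne_le _).trans inf_le_left)
      (c1.trans (Subgroup.centralizer_le_normalizer _))
      (c2.trans (Subgroup.centralizer_le_normalizer _))
    have hnt : Nontrivial T := by
      rw [← Finite.one_lt_card_iff_nontrivial, M1.card_T]
      haveI := M1.finite_core
      have : 0 < Nat.card (pCoreOf 2 P₁) := Nat.card_pos
      omega
    haveI := M1.isPGroup_T.center_nontrivial
    obtain ⟨x, hx, hx1⟩ := (Subgroup.center T).bot_or_exists_ne_one.resolve_left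
      ((Subgroup.nontrivial_iff_ne_bot _).1 inferInstance)
    have hx' : (x : G) ≠ 1 := fun e => hx1 (Subtype.ext e)
    obtain ⟨m, hm1, hm2⟩ := exists_pow_prime_order hx' (orderOf_eq_pow_of_mem M1.isPGroup_T x.2)
    refine hm1 (Subgroup.mem_bot.1 (hbot ▸ Subgroup.subset_closure ⟨⟨pow_mem x.2 m, ?_⟩, hm2⟩))
    exact Subgroup.mem_centralizer_iff.2 fun t ht => (Commute.pow_right
      (show Commute t (x : G) from congrArg Subtype.val (Subgroup.mem_center_iff.1 hx ⟨t, ht⟩)) m).eq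
  · have e : P₂ ⊓ P₁ = T := inf_comm _ _
    have hp' : IsCharPAmalgamPair 2 P₂ P₁ := by
      haveI : Finite ↥(P₂ ⊓ P₁) := e ▸ M1.finite_T
      refine ⟨⟨sup_comm P₁ P₂ ▸ hgen, hne2, hne1, fun N hN hNn => h₃ N hNn (e ▸ hN)⟩,
        inferInstance, inferInstance, hpair.2.2.2.2.1, hpair.2.2.2.1, fun S S₂ S₁ => ?_,
        hcentr P₂ hchar.2, hcentr P₁ hchar.1⟩
      have hS : Nat.card S = Nat.card T := by
        have hStop : (S : Subgroup ↥(P₂ ⊓ P₁)) = ⊤ :=
          S.3 ((e ▸ M1.isPGroup_T : IsPGroup 2 ↥(P₂ ⊓ P₁)).to_subgroup ⊤) le_top |>.symm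
        show Nat.card (S : Subgroup ↥(P₂ ⊓ P₁)) = _
        rw [hStop, Subgroup.card_top, e]
      exact ⟨by rw [hS, S₂.card_eq_multiplicity]; exact M2.card_sylow,
        by rw [hS, S₁.card_eq_multiplicity]; exact M1.card_sylow⟩
    have := card_le_of_mixed hp' (by rw [e]; exact M2) (by rw [e]; exact M1)
      (by rw [e]; exact c2) (by rw [e]; exact c1)
    rwa [e] at this
  · exact card_le_of_mixed hpair M1 M2 c1 c2
  · have hcl := CfsgLib.LocalEven48.S3Amalgam.classification hgen T hT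
      (fun P hP => by rcases hP with rfl | rfl; exacts [hchar.1, hchar.2]) h₂ h₃ h₄
      (fun P hP => by rcases hP with rfl | rfl; exacts [c1, c2])
    have hle : Nat.card T ≤ Nat.card P₁ := Nat.le_of_dvd Nat.card_pos (Subgroup.card_dvd_of_le M1.le)
    have hP : Nat.card P₁ ≤ 48 := by
      rcases hcl with ⟨⟨a⟩, -⟩ | ⟨⟨a⟩, -⟩ <;>
        simp [Nat.card_congr a.toEquiv, Nat.card_perm, Fintype.card_perm, Nat.factorial]
    omega

/-- Goldschmidt's bound. -/
theorem order_bound {M₁ M₂ : Subgroup G} [Finite M₁] [Finite M₂]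
    (ha : ∀ M ∈ ({M₁, M₂} : Set (Subgroup G)),
      ∃ P : Sylow 2 M, (P : Subgroup M) = (M₁ ⊓ M₂).subgroupOf M)
    (hb : ∀ M ∈ ({M₁, M₂} : Set (Subgroup G)),
      Nonempty (M ⧸ pCore 2 M ≃* Equiv.Perm (Fin 3)))
    (hc : ∀ N : Subgroup G, N ≤ M₁ ⊓ M₂ → (N.subgroupOf M₁).Normal → (N.subgroupOf M₂).Normal →
      N = ⊥) : Nat.card ↥(M₁ ⊓ M₂) ≤ 2 ^ 7 := by
  set X := M₁ ⊔ M₂
  have l1 : M₁ ≤ X := le_sup_left
  have l2 : M₂ ≤ X := le_sup_right
  haveI : Finite (M₁.subgroupOf X) := Finite.of_equiv _ (Subgroup.subgroupOfEquivOfLe l1).symm.toEquiv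
  haveI : Finite (M₂.subgroupOf X) := Finite.of_equiv _ (Subgroup.subgroupOfEquivOfLe l2).symm.toEquiv
  have e : M₁.subgroupOf X ⊓ M₂.subgroupOf X = (M₁ ⊓ M₂).subgroupOf X := rfl
  have key := bound_of_generated (P₁ := M₁.subgroupOf X) (P₂ := M₂.subgroupOf X)
    (by rw [← Subgroup.subgroupOf_sup l1 l2]; exact Subgroup.subgroupOf_self X) ?_ ?_ ?_
  · rwa [e, Nat.card_congr (Subgroup.subgroupOfEquivOfLe (inf_le_left.trans l1)).toEquiv] at key
  · have main : ∀ M ∈ ({M₁, M₂} : Set (Subgroup G)), ∀ l : M ≤ X,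
        ∃ S : Sylow 2 ↥(M.subgroupOf X), (S : Subgroup ↥(M.subgroupOf X)) =
          (M₁.subgroupOf X ⊓ M₂.subgroupOf X).subgroupOf (M.subgroupOf X) := by
      intro M hM l
      obtain ⟨S, hS⟩ := ha M hM
      refine ⟨S.comapOfInjective (Subgroup.subgroupOfEquivOfLe l).toMonoidHom
        (Subgroup.subgroupOfEquivOfLe l).injective
        (fun x _ => ⟨(Subgroup.subgroupOfEquivOfLe l).symm x, by simp⟩), ?_⟩
      ext y
      change (Subgroup.subgroupOfEquivOfLe l) y ∈ (S : Subgroup M) ↔ _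
      rw [hS]
      rfl
    rintro P (rfl | rfl)
    exacts [main M₁ (Or.inl rfl) l1, main M₂ (Or.inr rfl) l2]
  · have main : ∀ M ∈ ({M₁, M₂} : Set (Subgroup G)), ∀ l : M ≤ X,
        Nonempty (↥(M.subgroupOf X) ⧸ pCore 2 ↥(M.subgroupOf X) ≃* Equiv.Perm (Fin 3)) := by
      intro M hM l
      obtain ⟨a⟩ := hb M hM
      exact ⟨(QuotientGroup.congr _ _ (Subgroup.subgroupOfEquivOfLe l)
        (map_pCore_eq _)).trans a⟩
    rintro P (rfl | rfl)
    exacts [main M₁ (Or.inl rfl) l1, main M₂ (Or.inr rfl) l2]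
  · intro N hN n1 n2
    have hle : N.map X.subtype ≤ M₁ ⊓ M₂ := by
      rintro _ ⟨x, hx, rfl⟩
      exact hN hx
    have hnorm : ∀ {M : Subgroup G}, M ≤ X → N.map X.subtype ≤ M →
        M.subgroupOf X ≤ Subgroup.normalizer (N : Set X) →
          ((N.map X.subtype).subgroupOf M).Normal := by
      intro M l hNM hn
      refine ⟨fun a ha b => ?_⟩
      rw [Subgroup.mem_subgroupOf] at ha ⊢
      obtain ⟨x, hx, hxa⟩ := ha
      refine ⟨⟨b, l b.2⟩ * x * ⟨b, l b.2⟩⁻¹,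
        conj_mem_of_mem_normalizer (hn (Subgroup.mem_subgroupOf.2 b.2)) hx, ?_⟩
      have hxa' : (x : G) = a := hxa
      simp [hxa']
    have := hc _ hle (hnorm l1 (hle.trans inf_le_left) n1) (hnorm l2 (hle.trans inf_le_right) n2)
    exact (Subgroup.map_eq_bot_iff_of_injective _ X.subtype_injective).1 this

end CfsgLib.LocalEven49.Goldschmidt
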