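import Cfsg.Agent.LocalEven49.Goldschmidt.Tools

/-!
An odd critical distance is at most 3, first part: mutual centralisation and shifting.
-/

set_option autoImplicit false
set_option linter.style.haveILetI false
set_option linter.unusedSectionVars false

namespace CfsgLib.LocalEven49.Goldschmidt

open Cfsg CfsgLib.LocalEven CfsgLib.LocalEven48.Amalgam
open CfsgLib.LocalEven48.S3Amalgam (conj_mem_stab conj_mem_Q)

variable {G : Type*} [Group G] {P₁ P₂ : Subgroup G}

namespace Hyp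

variable (h : Hyp P₁ P₂) {p : ℕ → CosetVertex P₁ P₂} {k : ℕ}
include h

section odd

variable (hk : 5 ≤ k) (hmin : MinDist P₁ P₂ k) (hodd : ¬ Even k)
include hk hmin hodd

theorem odd_isA (hc : Crit k p) {i : ℕ} (hi : i ≤ k) : IsA (p i) ↔ Even i := by
  have := walk_isA hc.adj i hi
  have := hc.isA
  tauto

theorem odd_end (hc : Crit k p) : ¬ IsA (p k) := fun e =>
  hodd ((h.odd_isA hk hmin hodd hc le_rfl).1 e)

theorem odd_start (hc : Crit k p) : ¬ IsA (p 1) := (adj_isA (hc.adj 0 (by omega))).1 hc.isA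

theorem odd_V_stab (hc : Crit k p) {i : ℕ} (hi : 1 ≤ i) (hik : i ≤ k) :
    V (p k) ≤ MulAction.stabilizer G (p i) := by
  refine h.V_le_stab_of_dist (by omega) hmin (h.odd_end hk hmin hodd hc) ?_
  have := h.dist_walk' hc.adj hik le_rfl
  omega

theorem odd_V_stab' (hc : Crit k p) {i : ℕ} (hi : 1 ≤ i) (hik : i ≤ k) :
    V (p 1) ≤ MulAction.stabilizer G (p i) := by
  refine h.V_le_stab_of_dist (by omega) hmin (h.odd_start hk hmin hodd hc) ?_
  have := h.dist_walk hc.adj hi hik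
  omega

theorem odd_Z0_stab (hc : Crit k p) {i : ℕ} (hik : i ≤ k) :
    vertexZ 2 (p 0) ≤ MulAction.stabilizer G (p i) := by
  refine h.Z_le_stab_of_dist (by omega) hmin hc.isA ?_
  have := h.dist_walk hc.adj (Nat.zero_le i) hik
  omega

theorem odd_adj_last (hc : Crit k p) : (cosetGraph P₁ P₂).Adj (p (k - 1)) (p k) := by
  have := hc.adj (k - 1) (by omega)
  rwa [show k - 1 + 1 = k by omega] at this

theorem odd_V_Q_pred (hc : Crit k p) : V (p 1) ≤ vertexQ 2 (p (k - 1)) := by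
  refine h.V_le_Q_of_dist hmin (h.odd_start hk hmin hodd hc) ?_
  have := h.dist_walk hc.adj (show 1 ≤ k - 1 by omega) (by omega)
  omega

/-- With movers of both types every critical configuration spreads. -/
theorem odd_spread (hc : Crit k p) {pA r : ℕ → CosetVertex P₁ P₂}
    (hA : IsWalk k pA) (hA' : IsA (pA k)) (mA : HasMover k pA)
    (hr : IsWalk (k - 1) r) (hr0 : ¬ IsA (r 0))
    (hle : vertexZ 2 (r 0) ≤ V (r (k - 1))) : False := by
  have htr := h.transitive_of_movers hA hA' mA (h.crit_nb hmin hc) (h.odd_end hk hmin hodd hc)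
    (h.crit_mover (by omega) hmin hc) (k - 1) (by omega)
  have key : ∀ q : ℕ → CosetVertex P₁ P₂, IsWalk (k - 1) q → ¬ IsA (q 0) →
      vertexZ 2 (q 0) ≤ V (q (k - 1)) := by
    intro q hq hq0 x hx
    obtain ⟨g, hg⟩ := htr r q hr hq (iff_of_false hr0 hq0)
    rw [← hg 0 (Nat.zero_le _)] at hx
    have h1 := h.conj_mem_Z g⁻¹ hx
    rw [inv_smul_smul] at h1
    have h2 := h.conj_mem_V g (hle h1)
    rwa [hg _ le_rfl, show g * (g⁻¹ * x * g⁻¹⁻¹) * g⁻¹ = x by group] at h2
  have hB1 := h.odd_start hk hmin hodd hc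
  have hBk := h.odd_end hk hmin hodd hc
  have h01 := hc.adj 0 (by omega)
  obtain ⟨l, hl, hl1⟩ := h.exists_other h01
  have hBl : ¬ IsA l := (adj_isA hl).1 hc.isA
  have hwalk := h.crit_nb hmin hc
  have e1 := key (fun i => p (1 + i)) (hwalk.shift (by omega)) hB1
  have hw : IsWalk (k - 1) (cons l p) := by
    have := (hwalk.prefix (show k - 2 ≤ k by omega)).cons hl.symm fun _ => hl1
    rwa [show k - 2 + 1 = k - 1 by omega] at this
  have e2 := key (cons l p) hw hBl
  obtain ⟨j, rfl⟩ : ∃ j, k = j + 2 := ⟨k - 2, by omega⟩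
  simp only [show j + 2 - 1 = j + 1 by omega, cons_zero, cons_succ] at e1 e2
  simp only [show 1 + (j + 1) = j + 2 by omega] at e1
  have hBj : ¬ IsA (p j) := fun e => hodd (by
    have := (h.odd_isA hk hmin hodd hc (show j ≤ j + 2 by omega)).1 e
    exact this.add even_two)
  have hd := h.dist_walk hc.adj (show j ≤ j + 2 by omega) le_rfl
  exact hc.ne_le ((h.Z_le_sup hc.isA hl h01 hl1).trans (sup_le
    (e2.trans (h.V_le_Q_of_dist hmin hBj (by omega)))
    (e1.trans (h.V_le_Q (by omega) hmin hBk))))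

theorem odd_not_le (hc : Crit k p) : ¬ V (p k) ≤ vertexQ 2 (p 1) := by
  intro hle
  have hA := hc.isA
  have hB1 := h.odd_start hk hmin hodd hc
  have hBk := h.odd_end hk hmin hodd hc
  have h01 := hc.adj 0 (by omega)
  have hwalk := h.crit_nb hmin hc
  have hlast := h.odd_adj_last hk hmin hodd hc
  obtain ⟨v, hv, hvQ⟩ : ∃ v ∈ V (p k), v ∉ vertexQ 2 (p 0) := by
    by_contra hh
    push Not at hh
    refine hc.ne_le fun t ht => h.mem_Q_of_comm_V hlast.symm
      (h.odd_Z0_stab hk hmin hodd hc le_rfl ht) fun x hx => ?_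
    exact (h.Q_comm_Z (hh x hx) ht).symm
  have hv0 : v ∈ MulAction.stabilizer G (p 0) := h.Q_fix (hle hv) h01.symm
  have hfix : ∀ i ≤ k, v • p i = p i := fun i hi => by
    rcases Nat.eq_zero_or_pos i with rfl | hpos
    · exact MulAction.mem_stabilizer_iff.1 hv0
    · exact MulAction.mem_stabilizer_iff.1 (h.odd_V_stab hk hmin hodd hc hpos hi hv)
  refine h.odd_spread hk hmin hodd hc hwalk.rev (by simpa [rev] using hA)
    ⟨v, fun i hi => hfix _ (by omega), by simpa [rev] using hvQ⟩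
    (r := fun i => p (1 + i)) (hwalk.shift (by omega)) (by simpa using hB1) ?_
  intro r hr
  simp only [show 1 + (k - 1) = k by omega] at hr ⊢
  obtain ⟨z, hz, rfl⟩ := h.ZB_surj hA h01 hr
    ⟨hv0, h.odd_V_stab hk hmin hodd hc le_rfl (by omega) hv⟩ hvQ
  rw [show z * (v * z * v⁻¹) = z * v * z * v⁻¹ by group]
  refine mul_mem ?_ (inv_mem hv)
  have := h.conj_mem_V_self (h.odd_Z0_stab hk hmin hodd hc le_rfl hz) hv
  rwa [h.Z_inv hz] at this

theorem odd_rev_crit (hc : Crit k p) :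
    ∃ q : ℕ → CosetVertex P₁ P₂, Crit k q ∧ q 1 = p k ∧ q k = p 1 := by
  have hno : ∃ l, (cosetGraph P₁ P₂).Adj (p k) l ∧ ¬ vertexZ 2 l ≤ vertexQ 2 (p 1) := by
    by_contra hh
    push Not at hh
    exact h.odd_not_le hk hmin hodd hc (V_le hh)
  obtain ⟨l, hl, hno⟩ := hno
  refine ⟨cons l (rev k p), ⟨fun i hi => ?_, h.isA_of_adj (h.odd_end hk hmin hodd hc) hl, ?_⟩,
    by simp [rev], ?_⟩
  · cases i with
    | zero => simpa [rev] using hl.symm
    | succ i => exact (h.crit_nb hmin hc).rev.adj i (by omega)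
  all_goals obtain ⟨j, rfl⟩ : ∃ j, k = j + 1 := ⟨k - 1, by omega⟩
  · simpa [rev] using hno
  · simp [rev]

theorem odd_central (hc : Crit k p) {v w : G} (hv : v ∈ V (p 1)) (hvQ : v ∈ vertexQ 2 (p k))
    (hw : w ∈ V (p k)) : v * w = w * v := by
  by_contra hne
  have hB1 := h.odd_start hk hmin hodd hc
  have hBk := h.odd_end hk hmin hodd hc
  have hwalk := h.crit_nb hmin hc
  have hlast := h.odd_adj_last hk hmin hodd hc
  obtain ⟨l, hl, hvl⟩ : ∃ l, (cosetGraph P₁ P₂).Adj (p k) l ∧ v ∉ vertexQ 2 l := by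
    by_contra hh
    push Not at hh
    exact hne (h.comm_V (fun a ha z hz => h.Q_comm_Z (hh a ha) hz) hw)
  have hlne : l ≠ p (k - 1) := fun e => hvl (e ▸ h.odd_V_Q_pred hk hmin hodd hc hv)
  have hAl := h.isA_of_adj hBk hl
  have hw1 : IsWalk k (cons l (rev k p)) := by
    have := ((hwalk.rev).prefix (show k - 1 ≤ k by omega)).cons (x := l)
      (by simpa [rev] using hl.symm) (fun _ => by simpa [rev] using hlne)
    rwa [show k - 1 + 1 = k by omega] at this
  have hw2 := hw1.rev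
  have hfix : ∀ i ≤ k, v • rev k (cons l (rev k p)) i = rev k (cons l (rev k p)) i := by
    intro i hi
    show v • cons l (rev k p) (k - i) = cons l (rev k p) (k - i)
    rcases Nat.lt_or_ge i k with hik | hik
    · obtain ⟨j, hj⟩ : ∃ j, k - i = j + 1 := ⟨k - i - 1, by omega⟩
      rw [hj, cons_succ]
      exact MulAction.mem_stabilizer_iff.1 (h.odd_V_stab' hk hmin hodd hc (by omega) (by omega) hv)
    · rw [show k - i = 0 by omega, cons_zero]
      exact MulAction.mem_stabilizer_iff.1 (h.Q_fix hvQ hl)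
  refine h.odd_spread hk hmin hodd hc hw2 (by simpa [rev] using hAl)
    ⟨v, hfix, by simpa [rev] using hvl⟩ ((hwalk.shift (s := 1) (by omega)).rev)
    (by simpa [rev, show 1 + (k - 1) = k by omega] using hBk) ?_
  intro r hr
  simp only [rev, Nat.sub_zero, Nat.sub_self, show 1 + (k - 1) = k by omega, Nat.add_zero] at hr ⊢
  obtain ⟨z, hz, rfl⟩ := h.ZB_surj hAl hl.symm hr
    ⟨h.Q_fix hvQ hl, h.Q_le_stab _ hvQ⟩ hvl
  rw [show z * (v * z * v⁻¹) = z * v * z * v⁻¹ by group]
  refine mul_mem ?_ (inv_mem hv)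
  have := h.conj_mem_V_self (h.odd_V_stab hk hmin hodd hc le_rfl (by omega) (Z_le_V hl hz)) hv
  rwa [h.Z_inv hz] at this

theorem odd_central' (hc : Crit k p) {v w : G} (hv : v ∈ V (p 1)) (hw : w ∈ V (p k))
    (hwQ : w ∈ vertexQ 2 (p 1)) : v * w = w * v := by
  obtain ⟨q, hq, hq1, hqk⟩ := h.odd_rev_crit hk hmin hodd hc
  exact (h.odd_central hk hmin hodd hq (hq1 ▸ hw) (hqk ▸ hwQ) (hqk ▸ hv)).symm

theorem odd_exists_out (hc : Crit k p) :
    ∃ w ∈ V (p k), w ∉ vertexQ 2 (p 1) ∧ w ∈ edgeStabilizer (p 1) (p 2) := by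
  obtain ⟨w, hw, hwQ⟩ := SetLike.not_le_iff_exists.1 (h.odd_not_le hk hmin hodd hc)
  exact ⟨w, hw, hwQ, h.odd_V_stab hk hmin hodd hc le_rfl (by omega) hw,
    h.odd_V_stab hk hmin hodd hc (by omega) (by omega) hw⟩

theorem odd_Z0_inter (hc : Crit k p) {z : G} (hz : z ∈ vertexZ 2 (p 0))
    (hzQ : z ∈ vertexQ 2 (p k)) : z ∈ vertexZ 2 (p 1) := by
  obtain ⟨w, hw, hwQ, hwe⟩ := h.odd_exists_out hk hmin hodd hc
  have h01 := hc.adj 0 (by omega)
  have h12 := hc.adj 1 (by omega)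
  have h02 := (h.crit_nb hmin hc).nb 0 (by omega)
  have hm := h.moves h12 h01.symm h02.symm hwe hwQ
  have e := h.odd_central hk hmin hodd hc (Z_le_V h01.symm hz) hzQ hw
  refine h.Z_inter (by omega) hmin (h.odd_start hk hmin hodd hc) h01.symm
    (h.adj_smul_self hwe.1 h01.symm) hm.symm hz ?_
  have := h.conj_mem_Z w hz
  rwa [← e, mul_inv_cancel_right] at this

theorem odd_small (hc : Crit k p) : Small P₁ P₂ := by
  have h01 := hc.adj 0 (by omega)
  have hlast := h.odd_adj_last hk hmin hodd hc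
  refine h.small_of_one hc.isA h01 fun z hz z' hz' hzn hzn' =>
    h.odd_Z0_inter hk hmin hodd hc (mul_mem hz hz') (h.mul_mem_Q (n := p (k - 1)) hlast.symm
      ⟨h.odd_Z0_stab hk hmin hodd hc le_rfl hz, h.odd_Z0_stab hk hmin hodd hc (by omega) hz⟩
      ⟨h.odd_Z0_stab hk hmin hodd hc le_rfl hz', h.odd_Z0_stab hk hmin hodd hc (by omega) hz'⟩
      (fun e => hzn (h.odd_Z0_inter hk hmin hodd hc hz e))
      (fun e => hzn' (h.odd_Z0_inter hk hmin hodd hc hz' e)))

theorem odd_shift (hc : Crit k p) {l : CosetVertex P₁ P₂}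
    (hl : (cosetGraph P₁ P₂).Adj (p 0) l) (hl1 : l ≠ p 1) :
    ∃ l', (cosetGraph P₁ P₂).Adj l l' ∧ Crit k (cons l' (cons l p)) := by
  suffices hno : ∃ l', (cosetGraph P₁ P₂).Adj l l' ∧ ¬ vertexZ 2 l' ≤ vertexQ 2 (p (k - 2)) by
    obtain ⟨l', hl', hno⟩ := hno
    exact ⟨l', hl', h.crit_cons hmin hc (by omega) hl hl' hno⟩
  by_contra hh
  push Not at hh
  have hshift : V l ≤ vertexQ 2 (p (k - 2)) := V_le hh
  have hA := hc.isA
  have hBl : ¬ IsA l := (adj_isA hl).1 hA
  have hBk := h.odd_end hk hmin hodd hc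
  have hB1 := h.odd_start hk hmin hodd hc
  have h01 := hc.adj 0 (by omega)
  have h12 := hc.adj 1 (by omega)
  have hwalk := h.crit_nb hmin hc
  have hlast := h.odd_adj_last hk hmin hodd hc
  have hadj2 : (cosetGraph P₁ P₂).Adj (p (k - 2)) (p (k - 1)) := by
    have := hc.adj (k - 2) (by omega)
    rwa [show k - 2 + 1 = k - 1 by omega] at this
  -- with a mover of type A the pair would shift
  have no_mover : ∀ q : ℕ → CosetVertex P₁ P₂, IsWalk k q → IsA (q k) → HasMover k q → False := by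
    intro q hq hqA hqm
    have htr := h.transitive_of_movers hq hqA hqm hwalk hBk (h.crit_mover (by omega) hmin hc) k
      (by omega)
    obtain ⟨l', hl', hne⟩ := h.exists_other hl.symm
    have hw : IsWalk k (cons l' (cons l p)) := by
      have := ((hwalk.prefix (show k - 2 ≤ k by omega)).cons hl.symm fun _ => hl1).cons hl'.symm
        fun _ => by simpa using hne
      rwa [show k - 2 + 1 + 1 = k by omega] at this
    obtain ⟨g, hg⟩ := htr p (cons l' (cons l p)) hwalk hw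
      (iff_of_true hA (h.isA_of_adj hBl hl'))
    have := (h.crit_smul hc g).ne_le
    simp only [hg 0 (Nat.zero_le _), hg k le_rfl, cons_zero] at this
    obtain ⟨j, rfl⟩ : ∃ j, k = j + 2 := ⟨k - 2, by omega⟩
    simp only [cons_succ] at this
    exact this (hh l' hl')
  have hdl : ∀ i ≤ k, (cosetGraph P₁ P₂).dist l (p i) ≤ i + 1 := fun i hi => by
    have h1 := h.dist_step' (w := p i) hl.symm
    have h2 := h.dist_walk hc.adj (Nat.zero_le i) hi
    omega
  have hfix : ∀ x ∈ V l, ∀ i ≤ k - 1, x ∈ MulAction.stabilizer G (p i) := by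
    intro x hx i hi
    rcases Nat.lt_or_ge i (k - 1) with hi' | hi'
    · refine h.V_le_stab_of_dist (by omega) hmin hBl ?_ hx
      have := hdl i (by omega)
      omega
    · rw [show i = k - 1 by omega]
      exact h.Q_fix (hshift hx) hadj2
  by_cases hQ1 : V l ≤ vertexQ 2 (p (k - 1))
  swap
  · obtain ⟨v, hv, hvQ⟩ := SetLike.not_le_iff_exists.1 hQ1
    have hw : IsWalk k (cons l p) := by
      have := (hwalk.prefix (show k - 1 ≤ k by omega)).cons hl.symm fun _ => hl1
      rwa [show k - 1 + 1 = k by omega] at this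
    have hek : cons l p k = p (k - 1) := by
      obtain ⟨j, rfl⟩ : ∃ j, k = j + 1 := ⟨k - 1, by omega⟩
      simp
    refine no_mover _ hw (hek ▸ (h.odd_isA hk hmin hodd hc (by omega)).2 ?_)
      ⟨v, fun i hi => ?_, hek ▸ hvQ⟩
    · rw [Nat.even_sub (by omega)]
      exact iff_of_false hodd Nat.not_even_one
    · cases i with
      | zero =>
        exact MulAction.mem_stabilizer_iff.1 (h.Q_le_stab l (h.V_le_Q (by omega) hmin hBl hv))
      | succ i =>
        rw [cons_succ]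
        exact MulAction.mem_stabilizer_iff.1 (hfix v hv i (by omega))
  have hVk : ∀ x ∈ V l, x ∈ edgeStabilizer (p k) (p (k - 1)) := fun x hx =>
    ⟨h.Q_fix (hQ1 hx) hlast, hfix x hx _ le_rfl⟩
  by_cases hcent : ∀ x ∈ V l, x ∈ vertexQ 2 (p k) → ∀ w ∈ V (p k), x * w = w * x
  swap
  · push Not at hcent
    obtain ⟨v, hv, hvk, w, hw, hne⟩ := hcent
    obtain ⟨m, hm, hvm⟩ : ∃ m, (cosetGraph P₁ P₂).Adj (p k) m ∧ v ∉ vertexQ 2 m := by
      by_contra hh'
      push Not at hh'
      exact hne (h.comm_V (fun a ha z hz => h.Q_comm_Z (hh' a ha) hz) hw)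
    have hmne : m ≠ p (k - 1) := fun e => hvm (e ▸ hQ1 hv)
    have hw1 : IsWalk k (cons m (rev k p)) := by
      have := ((hwalk.rev).prefix (show k - 1 ≤ k by omega)).cons (x := m)
        (by simpa [rev] using hm.symm) (fun _ => by simpa [rev] using hmne)
      rwa [show k - 1 + 1 = k by omega] at this
    refine no_mover _ hw1.rev (by simpa [rev] using h.isA_of_adj hBk hm)
      ⟨v, fun i hi => ?_, by simpa [rev] using hvm⟩
    show v • cons m (rev k p) (k - i) = cons m (rev k p) (k - i)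
    rcases Nat.lt_or_ge i k with hik | hik
    · obtain ⟨j, hj⟩ : ∃ j, k - i = j + 1 := ⟨k - i - 1, by omega⟩
      rw [hj, cons_succ]
      rcases Nat.eq_zero_or_pos j with rfl | hj0
      · exact MulAction.mem_stabilizer_iff.1 (hVk v hv).1
      · exact MulAction.mem_stabilizer_iff.1 (hfix v hv _ (by omega))
    · rw [show k - i = 0 by omega, cons_zero]
      exact MulAction.mem_stabilizer_iff.1 (h.Q_fix hvk hm)
  -- now `w` normalises `V_λ V_1`
  set X := V l ⊔ V (p 1) with hX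
  have hlQ : V l ≤ vertexQ 2 (p 0) :=
    h.V_le_Q_of_dist hmin hBl (by rw [h.dist_adj hl.symm]; omega)
  have h1Q : V (p 1) ≤ vertexQ 2 (p 0) :=
    h.V_le_Q_of_dist hmin hB1 (by rw [h.dist_adj h01.symm]; omega)
  have hXe : X ≤ edgeStabilizer (p 0) (p 1) := (sup_le hlQ h1Q).trans (h.Q_le_edge h01)
  haveI := h.finite_le_edge hXe
  have conjX : ∀ {g : G}, (∀ x ∈ V l, g * x * g⁻¹ ∈ X) → (∀ x ∈ V (p 1), g * x * g⁻¹ ∈ X) →
      g ∈ Subgroup.normalizer (X : Set G) := fun {g} a b => by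
    refine mem_normalizer_of_conj fun x hx => ?_
    have hle : X ≤ X.comap (MulAut.conj g).toMonoidHom := sup_le a b
    exact hle hx
  obtain ⟨w, hw, hwQ, hwe⟩ := h.odd_exists_out hk hmin hodd hc
  obtain ⟨t, ht, htQ⟩ := SetLike.not_le_iff_exists.1 hc.ne_le
  have hte : t ∈ edgeStabilizer (p k) (p (k - 1)) :=
    ⟨h.odd_Z0_stab hk hmin hodd hc le_rfl ht, h.odd_Z0_stab hk hmin hodd hc (by omega) ht⟩
  have hw1 : ∀ {x : G}, x ∈ V (p 1) → w * x * w⁻¹ ∈ X := fun hx =>
    Subgroup.mem_sup_right (h.conj_mem_V_self hwe.1 hx)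
  have hwX : w ∈ Subgroup.normalizer (X : Set G) := by
    refine conjX (fun x hx => ?_) fun x hx => hw1 hx
    have hcon : ∀ {y : G}, y ∈ V l → y ∈ vertexQ 2 (p k) → w * y * w⁻¹ ∈ X := fun {y} hy hyQ => by
      rw [← hcent y hy hyQ w hw, mul_inv_cancel_right]
      exact Subgroup.mem_sup_left hy
    by_cases hxQ : x ∈ vertexQ 2 (p k)
    · exact hcon hx hxQ
    have h1 := hcon (mul_mem (Z_le_V hl.symm ht) hx)
      (h.mul_mem_Q hlast.symm hte (hVk x hx) htQ hxQ)
    have h2 := mul_mem (inv_mem (hw1 (Z_le_V h01.symm ht))) h1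
    rwa [show (w * t * w⁻¹)⁻¹ * (w * (t * x) * w⁻¹) = w * x * w⁻¹ by group] at h2
  have hQ0X : vertexQ 2 (p 0) ≤ Subgroup.normalizer (X : Set G) := fun q hq =>
    conjX (fun x hx => Subgroup.mem_sup_left (h.conj_mem_V_self (h.Q_fix hq hl) hx))
      (fun x hx => Subgroup.mem_sup_right (h.conj_mem_V_self (h.Q_fix hq h01) hx))
  -- an element of `Q_1` outside `Q_0`
  have hm := h.moves h12 h01.symm (hwalk.nb 0 (by omega)).symm hwe hwQ
  obtain ⟨q, hq1, hqm, hq0⟩ := h.exists_Q_inter (by omega) hmin hB1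
    (h.adj_smul_self hwe.1 h01.symm) h01.symm hm
  have hqX : q ∈ Subgroup.normalizer (X : Set G) := by
    have := conj_mem_Q w⁻¹ hqm
    rw [inv_smul_smul] at this
    have := mul_mem (mul_mem hwX (hQ0X this)) (inv_mem hwX)
    rwa [show w * (w⁻¹ * q * w⁻¹⁻¹) * w⁻¹ = q by group] at this
  have hqe : q ∈ edgeStabilizer (p 0) (p 1) := ⟨h.Q_fix hq1 h01.symm, h.Q_le_stab _ hq1⟩
  have hedge := h.edge_le_of h01 hQ0X hqe hq0 hqX
  have hN1 : MulAction.stabilizer G (p 1) ≤ Subgroup.normalizer (X : Set G) :=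
    h.stab_le_of h01.symm ((edge_comm _ _).le.trans hedge) hwe.1 hm hwX
  -- `X` is the join of all three `V`'s at `p 0`
  obtain ⟨l2, hl2, hll2, hl12⟩ := h.third h01 hl hl1.symm
  have hq_l : q • l = l2 := h.swap_eq h01 hl hl2 hl1.symm hll2 hl12 hqe hq0
  have hV2 : V l2 ≤ X := fun x hx => by
    have := h.conj_mem_V q⁻¹ hx
    rw [inv_smul_eq_iff.2 hq_l.symm] at this
    have := conj_mem_of_mem_normalizer hqX (Subgroup.mem_sup_left (T := V (p 1)) this)
    rwa [show q * (q⁻¹ * x * q⁻¹⁻¹) * q⁻¹ = x by group] at this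
  have hall : ∀ a, (cosetGraph P₁ P₂).Adj (p 0) a → V a ≤ X := fun a ha => by
    rcases h.nbr_three h01 hl hl2 hl1.symm hll2 hl12 ha with e | e | e <;> subst e
    exacts [le_sup_right, le_sup_left, hV2]
  have hN0 : MulAction.stabilizer G (p 0) ≤ Subgroup.normalizer (X : Set G) := fun g hg =>
    conjX (fun x hx => hall _ (h.adj_smul_self hg hl) (h.conj_mem_V g hx))
      (fun x hx => hall _ (h.adj_smul_self hg h01) (h.conj_mem_V g hx))
  refine h.Z_ne_bot (p 0) (le_bot_iff.1 ?_)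
  rw [← h.eq_bot_of_norm h01 hXe hN0 hN1]
  exact (Z_le_V h01.symm).trans le_sup_right

end odd

end Hyp

end CfsgLib.LocalEven49.Goldschmidt
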