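import Cfsg.Agent.LocalEven49.Goldschmidt.Odd

/-!
An odd critical distance is at most 5: the commutators of the two pairs next to a critical pair.
-/

set_option autoImplicit false
set_option linter.style.haveILetI false
set_option linter.unusedSectionVars false

namespace CfsgLib.LocalEven49.Goldschmidt

open Cfsg CfsgLib.LocalEven CfsgLib.LocalEven48.Amalgam
open CfsgLib.LocalEven48.S3Amalgam (conj_mem_stab conj_mem_Q)

variable {G : Type*} [Group G] {P₁ P₂ : Subgroup G}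

theorem cons_one (x : CosetVertex P₁ P₂) (p : ℕ → CosetVertex P₁ P₂) {k : ℕ} (hk : 1 ≤ k) :
    cons x p k = p (k - 1) := by
  obtain ⟨j, rfl⟩ : ∃ j, k = j + 1 := ⟨k - 1, by omega⟩
  simp

theorem cons_two (x y : CosetVertex P₁ P₂) (p : ℕ → CosetVertex P₁ P₂) {k : ℕ} (hk : 2 ≤ k) :
    cons x (cons y p) k = p (k - 2) := by
  obtain ⟨j, rfl⟩ : ∃ j, k = j + 2 := ⟨k - 2, by omega⟩
  simp

theorem comm_of_mul {q a y : G} (h1 : q * a * y = y * (q * a)) (h2 : a * y = y * a) :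
    q * y = y * q := by
  rw [mul_assoc, h2, ← mul_assoc, ← mul_assoc] at h1
  exact mul_right_cancel h1

/-- The last three vertices of a critical walk of odd length. -/
structure Tail (k : ℕ) (p : ℕ → CosetVertex P₁ P₂) : Prop where
  isB : ¬ IsA (p (k - 2))
  isA₁ : IsA (p (k - 1))
  isA₃ : IsA (p (k - 3))
  adj₁ : (cosetGraph P₁ P₂).Adj (p (k - 2)) (p (k - 1))
  adj₃ : (cosetGraph P₁ P₂).Adj (p (k - 2)) (p (k - 3))
  ne : p (k - 3) ≠ p (k - 1)

namespace Hyp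

variable (h : Hyp P₁ P₂) {p : ℕ → CosetVertex P₁ P₂} {k : ℕ} {l : CosetVertex P₁ P₂}
include h

section odd

variable (hk : 5 ≤ k) (hmin : MinDist P₁ P₂ k) (hodd : ¬ Even k)
include hk hmin hodd

theorem odd_tail (hc : Crit k p) : Tail k p := by
  have hA1 : IsA (p (k - 1)) := by
    refine (h.odd_isA hk hmin hodd hc (Nat.sub_le _ _)).2 ?_
    rw [Nat.even_sub (by omega)]
    exact iff_of_false hodd Nat.not_even_one
  have e1 := hc.adj (k - 2) (by omega)
  rw [show k - 2 + 1 = k - 1 by omega] at e1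
  have e3 := hc.adj (k - 3) (by omega)
  rw [show k - 3 + 1 = k - 2 by omega] at e3
  have hne := (h.crit_nb hmin hc).nb (k - 3) (by omega)
  rw [show k - 3 + 2 = k - 1 by omega] at hne
  have hB : ¬ IsA (p (k - 2)) := (adj_isA e1.symm).1 hA1
  exact ⟨hB, hA1, h.isA_of_adj hB e3.symm, e1, e3.symm, hne⟩

theorem side_dist (hc : Crit k p) (hl : (cosetGraph P₁ P₂).Adj (p 0) l) {i : ℕ} (hi : i ≤ k) :
    (cosetGraph P₁ P₂).dist l (p i) ≤ i + 1 := by
  have h1 := h.dist_step' (w := p i) hl.symm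
  have h2 := h.dist_walk hc.adj (Nat.zero_le i) hi
  omega

theorem side_fix (hc : Crit k p) (hl : (cosetGraph P₁ P₂).Adj (p 0) l) {i : ℕ}
    (hi : i + 2 ≤ k) : V l ≤ MulAction.stabilizer G (p i) := by
  refine h.V_le_stab_of_dist (by omega) hmin ((adj_isA hl).1 hc.isA) ?_
  have := h.side_dist hk hmin hodd hc hl (show i ≤ k by omega)
  omega

theorem side_edge (hc : Crit k p) (hl : (cosetGraph P₁ P₂).Adj (p 0) l) :
    V l ≤ edgeStabilizer (p (k - 2)) (p (k - 3)) := fun _ hx =>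
  ⟨h.side_fix hk hmin hodd hc hl (by omega) hx, h.side_fix hk hmin hodd hc hl (by omega) hx⟩

theorem side_moves (hc : Crit k p) (hl : (cosetGraph P₁ P₂).Adj (p 0) l) {v : G} (hv : v ∈ V l)
    (hvm : v ∉ vertexQ 2 (p (k - 2))) : v • p (k - 1) ≠ p (k - 1) :=
  have T := h.odd_tail hk hmin hodd hc
  h.moves T.adj₃ T.adj₁ T.ne (h.side_edge hk hmin hodd hc hl hv) hvm

theorem side_const (hc : Crit k p) (hl : (cosetGraph P₁ P₂).Adj (p 0) l) (hl1 : l ≠ p 1)
    {v v' z : G} (hv : v ∈ V l) (hv' : v' ∈ V l) (hvm : v ∉ vertexQ 2 (p (k - 2)))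
    (hvm' : v' ∉ vertexQ 2 (p (k - 2))) (hz : z ∈ V (p (k - 2))) :
    v * z * v⁻¹ = v' * z * v'⁻¹ := by
  obtain ⟨l', -, hq⟩ := h.odd_shift hk hmin hodd hc hl hl1
  have T := h.odd_tail hk hmin hodd hc
  have he := h.side_edge hk hmin hodd hc hl
  have hQ := h.mul_mem_Q T.adj₃ (inv_mem (he hv')) (he hv) (h.inv_notMem_Q hvm') hvm
  have e := h.odd_central hk hmin hodd hq (v := v'⁻¹ * v) (by simpa using mul_mem (inv_mem hv') hv)
    (by rwa [cons_two _ _ _ (by omega)]) (w := z) (by rwa [cons_two _ _ _ (by omega)])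
  calc v * z * v⁻¹ = v' * (v'⁻¹ * v * z) * v⁻¹ := by group
    _ = v' * (z * (v'⁻¹ * v)) * v⁻¹ := by rw [e]
    _ = v' * z * v'⁻¹ := by group

theorem side_exists (hc : Crit k p) (hl : (cosetGraph P₁ P₂).Adj (p 0) l) (hl1 : l ≠ p 1) :
    ∃ l' v, (cosetGraph P₁ P₂).Adj l l' ∧ l' ≠ p 0 ∧ v ∈ vertexZ 2 l' ∧ v ∉ vertexZ 2 l ∧
      v ∉ vertexQ 2 (p (k - 2)) := by
  obtain ⟨l', hl', hq⟩ := h.odd_shift hk hmin hodd hc hl hl1
  have hBl : ¬ IsA l := (adj_isA hl).1 hc.isA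
  obtain ⟨v, hv, hvl⟩ := h.exists_ZA hBl hl'
  refine ⟨l', v, hl', ?_, hv, hvl, fun e => hvl ?_⟩
  · simpa using (h.crit_nb hmin hq).nb 0 (by omega)
  · have := h.odd_Z0_inter hk hmin hodd hq (z := v) (by simpa using hv)
      (by rwa [cons_two _ _ _ (by omega)])
    simpa using this

theorem side_comm_ne (hc : Crit k p) (hl : (cosetGraph P₁ P₂).Adj (p 0) l) {v z : G}
    (hv : v ∈ V l) (hvm : v ∉ vertexQ 2 (p (k - 2))) (hz : z ∈ vertexZ 2 (p (k - 1)))
    (hzm : z ∉ vertexZ 2 (p (k - 2))) : v * z ≠ z * v := by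
  intro e
  have T := h.odd_tail hk hmin hodd hc
  refine hzm (h.Z_inter (by omega) hmin T.isB T.adj₁
    (h.adj_smul_self (h.side_edge hk hmin hodd hc hl hv).1 T.adj₁)
    (h.side_moves hk hmin hodd hc hl hv hvm).symm hz ?_)
  have := h.conj_mem_Z v hz
  rwa [e, mul_inv_cancel_right] at this

theorem side_notMem (hc : Crit k p) (hl : (cosetGraph P₁ P₂).Adj (p 0) l) (hl1 : l ≠ p 1)
    {z : G} (hz : z ∈ vertexZ 2 (p (k - 1))) (hzm : z ∉ vertexZ 2 (p (k - 2))) :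
    z ∉ vertexQ 2 l := by
  intro hzl
  obtain ⟨l', v, hl', -, hv, -, hvm⟩ := h.side_exists hk hmin hodd hc hl hl1
  obtain ⟨l₂, hl₂, hq⟩ := h.odd_shift hk hmin hodd hc hl hl1
  have T := h.odd_tail hk hmin hodd hc
  refine h.side_comm_ne hk hmin hodd hc hl (Z_le_V hl' hv) hvm hz hzm ?_
  exact h.odd_central' hk hmin hodd hq (by simpa using Z_le_V hl' hv)
    (by rw [cons_two _ _ _ (by omega)]; exact Z_le_V T.adj₁ hz) (by simpa using hzl)

theorem side_z_fix (hc : Crit k p) (hl : (cosetGraph P₁ P₂).Adj (p 0) l) :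
    vertexZ 2 (p (k - 1)) ≤ MulAction.stabilizer G l := by
  refine h.Z_le_stab_of_dist (by omega) hmin (h.odd_tail hk hmin hodd hc).isA₁ ?_
  have := h.side_dist hk hmin hodd hc hl (show k - 1 ≤ k by omega)
  rw [SimpleGraph.dist_comm] at this
  omega

theorem side_y_mem (hc : Crit k p) (hl : (cosetGraph P₁ P₂).Adj (p 0) l) {v z : G}
    (hv : v ∈ V l) (hz : z ∈ vertexZ 2 (p (k - 1))) :
    v * z * v⁻¹ * z⁻¹ ∈ V l ∧ v * z * v⁻¹ * z⁻¹ ∈ V (p (k - 2)) := by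
  have T := h.odd_tail hk hmin hodd hc
  constructor
  · rw [show v * z * v⁻¹ * z⁻¹ = v * (z * v⁻¹ * z⁻¹) by group]
    exact mul_mem hv (h.conj_mem_V_self (h.side_z_fix hk hmin hodd hc hl hz) (inv_mem hv))
  · exact mul_mem (h.conj_mem_V_self (h.side_edge hk hmin hodd hc hl hv).1 (Z_le_V T.adj₁ hz))
      (inv_mem (Z_le_V T.adj₁ hz))

theorem side_z_Q (hc : Crit k p) {i : ℕ} (hi : i ≤ k - 1) :
    vertexZ 2 (p (k - 1)) ≤ vertexQ 2 (p i) := by
  refine hmin _ _ (h.odd_tail hk hmin hodd hc).isA₁ ?_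
  have := h.dist_walk' hc.adj hi (show k - 1 ≤ k by omega)
  omega

theorem side_reduce (hc : Crit k p) (hl : (cosetGraph P₁ P₂).Adj (p 0) l) (hl1 : l ≠ p 1)
    {q z y : G} (hz : z ∈ vertexZ 2 (p (k - 1))) (hzm : z ∉ vertexZ 2 (p (k - 2)))
    (hy : y ∈ V l) (hyz : z * y = y * z) (hq : q ∈ vertexQ 2 (p 0)) :
    q * y * q⁻¹ * y⁻¹ ∈ vertexZ 2 l := by
  have hBl : ¬ IsA l := (adj_isA hl).1 hc.isA
  have hz0 := h.side_z_Q hk hmin hodd hc (Nat.zero_le _) hz
  by_cases hql : q ∈ vertexQ 2 l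
  · exact h.comm_V_Q hBl hql hy
  have he : ∀ {x : G}, x ∈ vertexQ 2 (p 0) → x ∈ edgeStabilizer l (p 0) := fun {x} hx =>
    ⟨h.Q_fix hx hl, h.Q_le_stab _ hx⟩
  have hQ := h.mul_mem_Q hl.symm (he hq) (he hz0) hql (h.side_notMem hk hmin hodd hc hl hl1 hz hzm)
  have := h.comm_V_Q hBl hQ hy
  rwa [show q * z * y * (q * z)⁻¹ = q * (z * y * z⁻¹) * q⁻¹ by group, hyz,
    mul_inv_cancel_right] at this

theorem U_abelian {v : CosetVertex P₁ P₂} (hv : IsA v) {x y : G} (hx : x ∈ U v) (hy : y ∈ U v) :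
    x * y = y * x := by
  have hle : U v ≤ Subgroup.centralizer (U v : Set G) := by
    refine iSup_le fun n a ha => Subgroup.mem_centralizer_iff.2 fun b hb => ?_
    have hle' : U v ≤ Subgroup.centralizer ({a} : Set G) := iSup_le fun m c hcm =>
      Subgroup.mem_centralizer_singleton_iff.2 (h.V_comm_V hmin ((adj_isA m.2).1 hv) (by
        have h1 := h.dist_step' (w := (n : CosetVertex P₁ P₂)) m.2.symm
        rw [h.dist_adj n.2] at h1
        omega) hcm ha)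
    exact Subgroup.mem_centralizer_singleton_iff.1 (hle' hb)
  exact (Subgroup.mem_centralizer_iff.1 (hle hx) y hy).symm

theorem U_sq {v : CosetVertex P₁ P₂} (hv : IsA v) {x : G} (hx : x ∈ U v) : x * x = 1 := by
  have key : x ∈ U v ∧ x * x = 1 := by
    refine Subgroup.iSup_induction _ (C := fun y => y ∈ U v ∧ y * y = 1) hx
      (fun n y hy => ⟨V_le_U n.2 hy, h.V_sq (by omega) hmin ((adj_isA n.2).1 hv) hy⟩)
      ⟨one_mem _, one_mul 1⟩ (fun y z hy hz => ⟨mul_mem hy.1 hz.1, ?_⟩)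
    rw [mul_assoc, ← mul_assoc z, h.U_abelian hk hmin hodd hv hz.1 hy.1, mul_assoc y z, hz.2,
      mul_one, hy.2]
  exact key.2

theorem mem_Z0_of_central (hc : Crit k p) {y : G} (hy : y ∈ U (p 0))
    (hQ : ∀ q ∈ vertexQ 2 (p 0), q * y = y * q) : y ∈ vertexZ 2 (p 0) := by
  have hm3 : MinDist P₁ P₂ 3 := fun u w hu hd => hmin u w hu (by omega)
  have hA := hc.isA
  have hUQ : U (p 0) ≤ vertexQ 2 (p 0) := iSup_le fun n =>
    h.V_le_Q_of_dist hmin ((adj_isA n.2).1 hA) (by rw [h.dist_adj n.2.symm]; omega)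
  set N := U (p 0) ⊓ Subgroup.centralizer (vertexQ 2 (p 0) : Set G) with hN
  refine h.le_Z_of_centralized hA N (inf_le_left.trans hUQ) (fun g hg => ?_)
    (fun q hq x hx => Subgroup.mem_centralizer_iff.1 hx.2 q hq)
    (fun x hx => h.U_sq hk hmin hodd hA hx.1) ⟨hy, Subgroup.mem_centralizer_iff.2 hQ⟩
  haveI := h.finite_Q (p 0)
  haveI : Finite N := Finite.of_injective _
    (Subgroup.inclusion_injective (inf_le_left.trans hUQ : N ≤ vertexQ 2 (p 0)))
  refine mem_normalizer_of_conj fun x hx =>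
    ⟨conj_mem_of_mem_normalizer (h.three_U_normal hm3 hA hg) hx.1,
      Subgroup.mem_centralizer_iff.2 fun q hq => ?_⟩
  have e := Subgroup.mem_centralizer_iff.1 hx.2 _ (h.normalizer_Q _ (inv_mem hg) hq)
  calc q * (g * x * g⁻¹) = g * (g⁻¹ * q * g⁻¹⁻¹ * x) * g⁻¹ := by group
    _ = g * (x * (g⁻¹ * q * g⁻¹⁻¹)) * g⁻¹ := by rw [e]
    _ = g * x * g⁻¹ * q := by group

theorem side_same (hc : Crit k p) {l'' : CosetVertex P₁ P₂}
    (hl : (cosetGraph P₁ P₂).Adj (p 0) l) (hl1 : l ≠ p 1)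
    (hl'' : (cosetGraph P₁ P₂).Adj (p 0) l'') (hl1'' : l'' ≠ p 1) (hll : l ≠ l'') {v v'' z : G}
    (hv : v ∈ V l) (hv'' : v'' ∈ V l'') (hz : z ∈ vertexZ 2 (p (k - 1)))
    (hzm : z ∉ vertexZ 2 (p (k - 2))) (he : v * z * v⁻¹ = v'' * z * v''⁻¹) :
    v * z * v⁻¹ * z⁻¹ ∈ vertexZ 2 (p 1) := by
  have hA := hc.isA
  have T := h.odd_tail hk hmin hodd hc
  have h01 : (cosetGraph P₁ P₂).Adj (p 0) (p 1) := hc.adj 0 (by omega)
  obtain ⟨hyl, hym⟩ := h.side_y_mem hk hmin hodd hc hl hv hz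
  have hyl'' : v * z * v⁻¹ * z⁻¹ ∈ V l'' := he ▸ (h.side_y_mem hk hmin hodd hc hl'' hv'' hz).1
  set y := v * z * v⁻¹ * z⁻¹
  have hyz : z * y = y * z := h.V_comm (by omega) hmin T.isB (Z_le_V T.adj₁ hz) hym
  obtain ⟨c, g, C⟩ := h.exists_cyc h01 hl hl1.symm
  have hcl : c = l'' := by
    rcases h.nbr_three h01 hl hl'' hl1.symm hl1''.symm hll C.adj₃ with e | e | e
    · exact absurd e C.ne₁₃.symm
    · exact absurd e C.ne₂₃.symm
    · exact e
  subst hcl
  set zl := g * z * g⁻¹ with hzldef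
  have hzl0 : zl ∈ vertexQ 2 (p 0) := h.normalizer_Q _ C.mem (h.side_z_Q hk hmin hodd hc (Nat.zero_le _) hz)
  have hzll : zl ∈ vertexQ 2 l := C.map₁ ▸ conj_mem_Q g (h.side_z_Q hk hmin hodd hc (by omega) hz)
  have hzlc : zl ∉ vertexQ 2 c := fun hh => h.side_notMem hk hmin hodd hc hl hl1 hz hzm (by
    have := conj_mem_Q g⁻¹ hh
    rwa [inv_smul_eq_iff.2 C.map₂.symm, hzldef, show g⁻¹ * (g * z * g⁻¹) * g⁻¹⁻¹ = z by group]
      at this)
  have hzly : zl * y = y * zl := by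
    have h1 := h.conj_mem_V g⁻¹ hyl
    rw [inv_smul_eq_iff.2 C.map₁.symm] at h1
    have e := h.V_comm_Z hmin T.isA₁ (by
      have := h.dist_walk' hc.adj (show 1 ≤ k - 1 by omega) (by omega)
      omega) hz h1
    calc zl * y = g * (z * (g⁻¹ * y * g⁻¹⁻¹)) * g⁻¹ := by rw [hzldef]; group
      _ = g * (g⁻¹ * y * g⁻¹⁻¹ * z) * g⁻¹ := by rw [e]
      _ = y * zl := by rw [hzldef]; group
  have hcore : ∀ q ∈ vertexQ 2 (p 0), q ∈ vertexQ 2 l → q * y = y * q := by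
    have hj : ∀ j : G, j ∈ vertexQ 2 l → j ∈ vertexQ 2 c → j * y = y * j := fun j h1 h2 =>
      mul_inv_eq_iff_eq_mul.1 (mul_inv_eq_one.1 (h.ZB_inter hA hl C.adj₃ hll
        (h.comm_V_Q ((adj_isA hl).1 hA) h1 hyl) (h.comm_V_Q ((adj_isA C.adj₃).1 hA) h2 hyl'')))
    intro q hq hql
    by_cases hqc : q ∈ vertexQ 2 c
    · exact hj q hql hqc
    have he' : ∀ {x : G}, x ∈ vertexQ 2 (p 0) → x ∈ edgeStabilizer c (p 0) := fun {x} hx =>
      ⟨h.Q_fix hx C.adj₃, h.Q_le_stab _ hx⟩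
    have h1 := hj _ (mul_mem hql hzll) (h.mul_mem_Q C.adj₃.symm (he' hq) (he' hzl0) hqc hzlc)
    exact comm_of_mul h1 hzly
  have hQ : ∀ q ∈ vertexQ 2 (p 0), q * y = y * q := by
    intro q hq
    by_cases hql : q ∈ vertexQ 2 l
    · exact hcore q hq hql
    have hz0 := h.side_z_Q hk hmin hodd hc (Nat.zero_le _) hz
    have he' : ∀ {x : G}, x ∈ vertexQ 2 (p 0) → x ∈ edgeStabilizer l (p 0) := fun {x} hx =>
      ⟨h.Q_fix hx hl, h.Q_le_stab _ hx⟩
    have h1 := hcore _ (mul_mem hq hz0) (h.mul_mem_Q hl.symm (he' hq) (he' hz0) hql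
      (h.side_notMem hk hmin hodd hc hl hl1 hz hzm))
    exact comm_of_mul h1 hyz
  refine h.odd_Z0_inter hk hmin hodd hc (h.mem_Z0_of_central hk hmin hodd hc (V_le_U hl hyl) hQ) ?_
  refine h.V_le_Q_of_dist hmin T.isB ?_ hym
  have := h.dist_walk hc.adj (show k - 2 ≤ k by omega) le_rfl
  omega

theorem side_rel (hc : Crit k p) (hrel : Rel P₁ P₂) (hl : (cosetGraph P₁ P₂).Adj (p 0) l)
    (hl1 : l ≠ p 1) {z : G} (hz : z ∈ vertexZ 2 (p (k - 1))) (hzm : z ∉ vertexZ 2 (p (k - 2))) :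
    ∀ v ∈ V l, v ∉ vertexQ 2 (p (k - 2)) → v * z * v⁻¹ * z⁻¹ ∈ vertexZ 2 (p 1) := by
  intro v hv hvm
  obtain ⟨l', w, hl', hl'0, hw, hwl, hwm⟩ := h.side_exists hk hmin hodd hc hl hl1
  have T := h.odd_tail hk hmin hodd hc
  rw [h.side_const hk hmin hodd hc hl hl1 hv (Z_le_V hl' hw) hvm hwm (Z_le_V T.adj₁ hz)]
  refine h.odd_Z0_inter hk hmin hodd hc ?_ ?_
  · have hBl : ¬ IsA l := (adj_isA hl).1 hc.isA
    have hzs := h.side_z_fix hk hmin hodd hc hl hz
    have hz0 := h.side_z_Q hk hmin hodd hc (Nat.zero_le _) hz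
    have hmv : z • l' ≠ l' := h.moves hl.symm hl' hl'0.symm ⟨hzs, h.Q_le_stab _ hz0⟩
      (h.side_notMem hk hmin hodd hc hl hl1 hz hzm)
    have hne0 : z • l' ≠ p 0 := fun e => hl'0 (MulAction.injective z
      (e.trans (MulAction.mem_stabilizer_iff.1 (h.Q_le_stab _ hz0)).symm))
    rw [show w * z * w⁻¹ * z⁻¹ = w * (z * w * z⁻¹) by
      rw [h.Z_inv hw]; group]
    refine hrel l l' (z • l') (p 0) hBl hl' (h.adj_smul_self hzs hl') hl.symm hmv.symm hl'0
      hne0 w hw _ (h.conj_mem_Z z hw) hwl fun hh => hwl ?_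
    have := h.conj_mem_Z_self (inv_mem hzs) hh
    rwa [show z⁻¹ * (z * w * z⁻¹) * z⁻¹⁻¹ = w by group] at this
  · refine h.V_le_Q_of_dist hmin T.isB ?_ (h.side_y_mem hk hmin hodd hc hl (Z_le_V hl' hw) hz).2
    have := h.dist_walk hc.adj (show k - 2 ≤ k by omega) le_rfl
    omega

theorem side_eq (hc : Crit k p) {l'' : CosetVertex P₁ P₂}
    (hl : (cosetGraph P₁ P₂).Adj (p 0) l) (hl1 : l ≠ p 1)
    (hl'' : (cosetGraph P₁ P₂).Adj (p 0) l'') (hl1'' : l'' ≠ p 1) (hll : l ≠ l'') {v v'' z : G}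
    (hv : v ∈ V l) (hvm : v ∉ vertexQ 2 (p (k - 2))) (hv'' : v'' ∈ V l'')
    (hvm'' : v'' ∉ vertexQ 2 (p (k - 2))) (hz : z ∈ vertexZ 2 (p (k - 1)))
    (hzm : z ∉ vertexZ 2 (p (k - 2))) : v * z * v⁻¹ = v'' * z * v''⁻¹ := by
  by_contra hne
  have hA := hc.isA
  have hs := h.odd_small hk hmin hodd hc
  have T := h.odd_tail hk hmin hodd hc
  have h01 : (cosetGraph P₁ P₂).Adj (p 0) (p 1) := hc.adj 0 (by omega)
  have h12 : (cosetGraph P₁ P₂).Adj (p 1) (p 2) := hc.adj 1 (by omega)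
  have hwalk := h.crit_nb hmin hc
  have hB1 := h.odd_start hk hmin hodd hc
  have hm1 := h.side_moves hk hmin hodd hc hl hv hvm
  have hm2 := h.side_moves hk hmin hodd hc hl'' hv'' hvm''
  have hedge := h.side_edge hk hmin hodd hc hl hv
  have hedge'' := h.side_edge hk hmin hodd hc hl'' hv''
  obtain ⟨d, hd, hd3, hd1⟩ := h.third T.adj₃ T.adj₁ T.ne
  have e1 : v • p (k - 1) = d := h.swap_eq T.adj₃ T.adj₁ hd T.ne hd3 hd1 hedge hvm
  have e2 : v'' • p (k - 1) = d := h.swap_eq T.adj₃ T.adj₁ hd T.ne hd3 hd1 hedge'' hvm''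
  have e3 : v • d = p (k - 1) := h.swap_eq T.adj₃ hd T.adj₁ hd3 T.ne hd1.symm hedge hvm
  have outm : ∀ {x : G}, x ∈ MulAction.stabilizer G (p (k - 2)) → x * z * x⁻¹ ∉ vertexZ 2 (p (k - 2)) :=
    fun {x} hx hh => hzm (by
      have := h.conj_mem_Z_self (inv_mem hx) hh
      rwa [show x⁻¹ * (x * z * x⁻¹) * x⁻¹⁻¹ = z by group] at this)
  set r := v * z * v⁻¹ * (v'' * z * v''⁻¹) with hrdef
  have hrm : r ∈ vertexZ 2 (p (k - 2)) :=
    hs d _ (h.isA_of_adj T.isB hd) hd.symm _ (e1 ▸ h.conj_mem_Z v hz) _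
      (e2 ▸ h.conj_mem_Z v'' hz) (outm hedge.1) (outm hedge''.1)
  have hr1 : r ≠ 1 := fun e => hne (by
    rw [eq_inv_of_mul_eq_one_left e, show (v'' * z * v''⁻¹)⁻¹ = v'' * z⁻¹ * v''⁻¹ by group,
      h.Z_inv hz])
  obtain ⟨hyl, hym⟩ := h.side_y_mem hk hmin hodd hc hl hv hz
  obtain ⟨hyl'', hym''⟩ := h.side_y_mem hk hmin hodd hc hl'' hv'' hz
  set y := v * z * v⁻¹ * z⁻¹ with hy
  set y'' := v'' * z * v''⁻¹ * z⁻¹ with hy''
  have hzV := Z_le_V T.adj₁ hz
  have hry : r = y * y'' := by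
    have e : z⁻¹ * y'' = y'' * z⁻¹ := h.V_comm (by omega) hmin T.isB (inv_mem hzV) hym''
    rw [hy, mul_assoc (v * z * v⁻¹), e, hy'', h.Z_inv hz, mul_assoc (v'' * z * v''⁻¹),
      h.Z_sq hz, mul_one]
  have hyz : ∀ {x : G}, x ∈ V (p (k - 2)) → z * x = x * z := fun hx =>
    h.V_comm (by omega) hmin T.isB hzV hx
  have hQr : ∀ q ∈ vertexQ 2 (p 0), q * r * q⁻¹ * r⁻¹ ∈ vertexZ 2 (p 0) := by
    intro q hq
    have d1 := h.ZB_le hA hl (h.side_reduce hk hmin hodd hc hl hl1 hz hzm hyl (hyz hym) hq)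
    have d2 := h.ZB_le hA hl'' (h.side_reduce hk hmin hodd hc hl'' hl1'' hz hzm hyl''
      (hyz hym'') hq)
    have := mul_mem d1 (h.conj_mem_Z_self
      (h.Q_le_stab _ (h.V_le_Q_of_dist hmin ((adj_isA hl).1 hA)
        (by rw [h.dist_adj hl.symm]; omega) hyl)) d2)
    rwa [show q * y * q⁻¹ * y⁻¹ * (y * (q * y'' * q⁻¹ * y''⁻¹) * y⁻¹) =
      q * (y * y'') * q⁻¹ * (y * y'')⁻¹ by group, ← hry] at this
  rcases (show k = 5 ∨ 7 ≤ k by
    rcases Nat.lt_or_ge k 7 with hlt | hge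
    · exact Or.inl (by
        have : k ≠ 6 := fun e => hodd (e ▸ (by decide))
        omega)
    · exact Or.inr hge) with rfl | h7
  · -- the relation holds, and then both commutators are the element of `Z p₁`
    obtain ⟨q, hq, hq1⟩ := h.exists_Q_diff h01
    have hqe : q ∈ edgeStabilizer (p 1) (p 0) := ⟨h.Q_fix hq h01, h.Q_le_stab _ hq⟩
    have h02 := hwalk.nb 0 (by omega)
    have hmv := h.moves h01.symm h12 h02 hqe hq1
    have hr2 : r ∈ vertexZ 2 (p 2) :=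
      h.ZB_le ((h.odd_isA le_rfl hmin hodd hc (by omega)).2 even_two) (hc.adj 2 (by omega)) hrm
    have hrn1 : r ∉ vertexZ 2 (p 1) := fun e => hr1 (h.ZB_inter
      ((h.odd_isA le_rfl hmin hodd hc (by omega)).2 even_two) h12.symm (hc.adj 2 (by omega))
      (hwalk.nb 1 (by omega)) e hrm)
    have hrinv : r⁻¹ = r := h.Z_inv hrm
    have hrel : Rel P₁ P₂ := by
      refine h.rel_of_one hs hB1 (h.adj_smul_self hqe.1 h12) h12 h01.symm hmv ?_ h02.symm
        (x := q * r * q⁻¹) (h.conj_mem_Z q hr2) hr2 (fun hh => hrn1 ?_) hrn1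
        (by simpa only [hrinv] using hQr q hq)
      · exact fun e => h02 (MulAction.injective q
          ((MulAction.mem_stabilizer_iff.1 hqe.2).trans e.symm))
      · have := h.conj_mem_Z_self (inv_mem hqe.1) hh
        rwa [show q⁻¹ * (q * r * q⁻¹) * q⁻¹⁻¹ = r by group] at this
    have a1 := h.side_rel le_rfl hmin hodd hc hrel hl hl1 hz hzm v hv hvm
    have a2 := h.side_rel le_rfl hmin hodd hc hrel hl'' hl1'' hz hzm v'' hv'' hvm''
    refine hne (mul_right_cancel (h.ZB_unique hs hB1 a1 a2 ?_ ?_))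
    · exact fun e => h.side_comm_ne le_rfl hmin hodd hc hl hv hvm hz hzm
        (mul_inv_eq_iff_eq_mul.1 (mul_inv_eq_one.1 e))
    · exact fun e => h.side_comm_ne le_rfl hmin hodd hc hl'' hv'' hvm'' hz hzm
        (mul_inv_eq_iff_eq_mul.1 (mul_inv_eq_one.1 e))
  -- `v * v''` is a mover ending at a vertex of type A
  have hA1 := T.isA₁
  have hw : IsWalk k (cons l p) := by
    have := (hwalk.prefix (show k - 1 ≤ k by omega)).cons hl.symm fun _ => hl1
    rwa [show k - 1 + 1 = k by omega] at this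
  have fix_side : ∀ {a b : CosetVertex P₁ P₂}, (cosetGraph P₁ P₂).Adj (p 0) a →
      (cosetGraph P₁ P₂).Adj (p 0) b → V a ≤ MulAction.stabilizer G b := fun {a b} ha hb => by
    refine h.V_le_stab_of_dist (by omega) hmin ((adj_isA ha).1 hA) ?_
    have := h.dist_step (u := a) hb
    rw [h.dist_adj ha.symm] at this
    omega
  have hfix : ∀ i ≤ k, (v * v'') • cons l p i = cons l p i := by
    intro i hi
    rw [mul_smul]
    cases i with
    | zero =>
      rw [cons_zero, MulAction.mem_stabilizer_iff.1 (fix_side hl'' hl hv''),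
        MulAction.mem_stabilizer_iff.1 (fix_side hl hl hv)]
    | succ i =>
      rw [cons_succ]
      rcases Nat.lt_or_ge (i + 1) k with hik | hik
      · rw [MulAction.mem_stabilizer_iff.1 (h.side_fix hk hmin hodd hc hl'' (by omega) hv''),
          MulAction.mem_stabilizer_iff.1 (h.side_fix hk hmin hodd hc hl (by omega) hv)]
      · rw [show i = k - 1 by omega, e2, e3]
  have hmover : HasMover k (cons l p) := by
    refine ⟨v * v'', hfix, fun hh => hne ?_⟩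
    rw [cons_one _ _ (by omega)] at hh
    have e := h.Q_comm_Z hh hz
    have hvi : v⁻¹ = v := h.V_inv (by omega) hmin ((adj_isA hl).1 hA) hv
    calc v * z * v⁻¹ = v⁻¹ * z * v := by rw [hvi]
      _ = v⁻¹ * (z * (v * v'')) * v''⁻¹ := by group
      _ = v⁻¹ * (v * v'' * z) * v''⁻¹ := by rw [e]
      _ = v'' * z * v''⁻¹ := by group
  have htr := h.transitive_of_movers hw (by rw [cons_one _ _ (by omega)]; exact hA1) hmover hwalk
    (h.odd_end hk hmin hodd hc) (h.crit_mover (by omega) hmin hc)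
  -- bend the end of the walk to the third neighbour of `p (k - 3)`
  have hBm := T.isB
  have e43 := hc.adj (k - 4) (by omega)
  rw [show k - 4 + 1 = k - 3 by omega] at e43
  have h42 := hwalk.nb (k - 4) (by omega)
  rw [show k - 4 + 2 = k - 2 by omega] at h42
  obtain ⟨d', hd', hd'4, hd'2⟩ := h.third e43.symm T.adj₃.symm h42
  let w : ℕ → CosetVertex P₁ P₂ := fun i => if i = k - 1 then d' else cons l p i
  have hww : IsWalk (k - 1) w := by
    refine ⟨fun i hi => ?_, fun i hi => ?_⟩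
    · by_cases e : i + 1 = k - 1
      · simp only [w, if_pos e, show i ≠ k - 1 by omega, if_false]
        rw [cons_one _ _ (by omega), show i - 1 = k - 3 by omega]
        exact hd'
      · simp only [w, if_neg e, show i ≠ k - 1 by omega, if_false]
        exact hw.adj i (by omega)
    · by_cases e : i + 2 = k - 1
      · simp only [w, if_pos e, show i ≠ k - 1 by omega, if_false]
        rw [cons_one _ _ (by omega), show i - 1 = k - 4 by omega]
        exact hd'4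
      · simp only [w, if_neg e, show i ≠ k - 1 by omega, if_false]
        exact hw.nb i (by omega)
  obtain ⟨g, hg⟩ := htr (k - 1) (by omega) (cons l p) w (hw.prefix (by omega)) hww
    (by simp [w, show (0 : ℕ) ≠ k - 1 by omega])
  have g0 : g • l = l := by
    simpa [w, show (0 : ℕ) ≠ k - 1 by omega] using hg 0 (Nat.zero_le _)
  have g1 : g • p 0 = p 0 := by
    simpa [w, show (1 : ℕ) ≠ k - 1 by omega] using hg 1 (by omega)
  have g2 : g • p 1 = p 1 := by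
    simpa [w, show (2 : ℕ) ≠ k - 1 by omega] using hg 2 (by omega)
  have gm : g • p (k - 2) = d' := by
    have := hg (k - 1) le_rfl
    rw [cons_one _ _ (by omega), show k - 1 - 1 = k - 2 by omega] at this
    simpa [w] using this
  have hgQ : g ∈ vertexQ 2 (p 0) := h.mem_Q_of_fix_two hl h01 hl1 g1 g0 g2
  set t := g * r * g⁻¹ * r⁻¹ with ht
  have hgr : g * r * g⁻¹ ∈ vertexZ 2 d' := gm ▸ h.conj_mem_Z g hrm
  have hA3 := T.isA₃
  have ht3 : t ∈ vertexZ 2 (p (k - 3)) :=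
    mul_mem (h.ZB_le hA3 hd' hgr) (inv_mem (h.ZB_le hA3 T.adj₃.symm hrm))
  have htm : t ∉ vertexZ 2 (p (k - 2)) := fun e => hr1 (conj_eq_one_iff.1
    (h.ZB_inter hA3 hd' T.adj₃.symm hd'2.symm hgr (by
      rw [show g * r * g⁻¹ = t * r by rw [ht]; group]; exact mul_mem e hrm)))
  have htd : t ∉ vertexZ 2 d' := fun e => hr1 (h.ZB_inter hA3 T.adj₃.symm hd' hd'2 hrm (by
    rw [show r = (t⁻¹ * (g * r * g⁻¹)) by rw [ht]; group]; exact mul_mem (inv_mem e) hgr))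
  have htri : IsTri (p (k - 3)) (p (k - 4)) (p (k - 2)) d' :=
    ⟨hA3, e43.symm, T.adj₃.symm, hd', h42, hd'4, hd'2⟩
  rcases h.Z_cases' hs htri ht3 with ht4 | hh | hh
  rotate_left
  · exact htm hh
  · exact htd hh
  have ht1' : t ≠ 1 := fun e => htm (e ▸ one_mem _)
  have htp1 : t ∈ vertexZ 2 (p 1) := by
    refine h.odd_Z0_inter hk hmin hodd hc (hQr g hgQ) (hmin _ _ hA3 ?_ ht3)
    have := h.dist_walk hc.adj (show k - 3 ≤ k by omega) le_rfl
    omega
  -- transport `p 1, ..., p (k - 4)` to the two side walks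
  have hB6 : ¬ IsA (p (k - 6)) := fun e => hodd (by
    have := (h.odd_isA hk hmin hodd hc (show k - 6 ≤ k by omega)).1 e
    rw [Nat.even_sub (by omega)] at this
    exact this.2 (by decide))
  have key : ∀ {a : CosetVertex P₁ P₂}, (cosetGraph P₁ P₂).Adj (p 0) a → a ≠ p 1 →
      ∃ s ∈ vertexZ 2 a, s ≠ 1 ∧ s ∈ vertexZ 2 (p (k - 6)) := by
    intro a ha ha1
    have hwa : IsWalk (k - 5) (cons a p) := by
      have := (hwalk.prefix (show k - 6 ≤ k by omega)).cons ha.symm fun _ => ha1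
      rwa [show k - 6 + 1 = k - 5 by omega] at this
    obtain ⟨f, hf⟩ := htr (k - 5) (by omega) (fun i => p (1 + i)) (cons a p)
      (hwalk.shift (by omega)) hwa (iff_of_false hB1 ((adj_isA ha).1 hA))
    refine ⟨f * t * f⁻¹, ?_, fun e => ht1' (conj_eq_one_iff.1 e), ?_⟩
    · have := h.conj_mem_Z f htp1
      rwa [show f • p 1 = a by simpa using hf 0 (Nat.zero_le _)] at this
    · have := h.conj_mem_Z f ht4
      have e := hf (k - 5) le_rfl
      rw [cons_one _ _ (by omega), show k - 5 - 1 = k - 6 by omega,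
        show 1 + (k - 5) = k - 4 by omega] at e
      rwa [e] at this
  obtain ⟨s, hsl, hs1, hs6⟩ := key hl hl1
  obtain ⟨s', hsl', hs1', hs6'⟩ := key hl'' hl1''
  exact hs1 (h.ZB_inter hA hl hl'' hll hsl (h.ZB_unique hs hB6 hs6 hs6' hs1 hs1' ▸ hsl'))

/-- The commutator next to a critical pair is the involution of `Z p₁`. -/
theorem odd_key (hc : Crit k p) (hl : (cosetGraph P₁ P₂).Adj (p 0) l) (hl1 : l ≠ p 1)
    {v z : G} (hv : v ∈ V l) (hvm : v ∉ vertexQ 2 (p (k - 2)))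
    (hz : z ∈ vertexZ 2 (p (k - 1))) (hzm : z ∉ vertexZ 2 (p (k - 2))) :
    v * z * v⁻¹ * z⁻¹ ∈ vertexZ 2 (p 1) ∧ v * z * v⁻¹ * z⁻¹ ≠ 1 := by
  have h01 : (cosetGraph P₁ P₂).Adj (p 0) (p 1) := hc.adj 0 (by omega)
  obtain ⟨l'', hl'', hl'1, hll⟩ := h.third h01 hl hl1.symm
  obtain ⟨b, w, hb, -, hw, -, hwm⟩ := h.side_exists hk hmin hodd hc hl'' hl'1.symm
  refine ⟨h.side_same hk hmin hodd hc hl hl1 hl'' hl'1.symm hll hv (Z_le_V hb hw) hz hzm
    (h.side_eq hk hmin hodd hc hl hl1 hl'' hl'1.symm hll hv hvm (Z_le_V hb hw) hwm hz hzm),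
    fun e => h.side_comm_ne hk hmin hodd hc hl hv hvm hz hzm
      (mul_inv_eq_iff_eq_mul.1 (mul_inv_eq_one.1 e))⟩

theorem odd_rel (hc : Crit k p) : Rel P₁ P₂ := by
  have hA := hc.isA
  have T := h.odd_tail hk hmin hodd hc
  obtain ⟨l, hl, hl1⟩ := h.exists_other (hc.adj 0 (by omega))
  obtain ⟨l', v, hl', hl'0, hv, hvl, hvm⟩ := h.side_exists hk hmin hodd hc hl hl1
  obtain ⟨z, hz, hzm⟩ := h.exists_ZA T.isB T.adj₁
  have hy := (h.odd_key hk hmin hodd hc hl hl1 (Z_le_V hl' hv) hvm hz hzm).1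
  have hzs := h.side_z_fix hk hmin hodd hc hl hz
  have hz0 := h.side_z_Q hk hmin hodd hc (Nat.zero_le _) hz
  refine h.rel_of_one (h.odd_small hk hmin hodd hc) ((adj_isA hl).1 hA) hl'
    (h.adj_smul_self hzs hl') hl.symm
    (h.moves hl.symm hl' hl'0.symm ⟨hzs, h.Q_le_stab _ hz0⟩
      (h.side_notMem hk hmin hodd hc hl hl1 hz hzm)).symm hl'0
    (fun e => hl'0 (MulAction.injective z
      (e.trans (MulAction.mem_stabilizer_iff.1 (h.Q_le_stab _ hz0)).symm)))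
    hv (h.conj_mem_Z z hv) hvl (fun hh => hvl ?_) ?_
  · have := h.conj_mem_Z_self (inv_mem hzs) hh
    rwa [show z⁻¹ * (z * v * z⁻¹) * z⁻¹⁻¹ = v by group] at this
  · have := h.ZB_le hA (hc.adj 0 (by omega)) hy
    rwa [show v * z * v⁻¹ * z⁻¹ = v * (z * v * z⁻¹) by rw [h.Z_inv hv]; group] at this

theorem odd_ZB_le (hc : Crit k p) : vertexZ 2 (p 1) ≤ vertexZ 2 (p (k - 3)) := by
  intro r hr
  by_cases hr1 : r = 1
  · rw [hr1]; exact one_mem _
  have hs := h.odd_small hk hmin hodd hc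
  have T := h.odd_tail hk hmin hodd hc
  obtain ⟨l, hl, hl1⟩ := h.exists_other (hc.adj 0 (by omega))
  obtain ⟨l', v, hl', -, hv, -, hvm⟩ := h.side_exists hk hmin hodd hc hl hl1
  obtain ⟨z, hz, hzm⟩ := h.exists_ZA T.isB T.adj₁
  obtain ⟨hy, hy1⟩ := h.odd_key hk hmin hodd hc hl hl1 (Z_le_V hl' hv) hvm hz hzm
  rw [h.ZB_unique hs (h.odd_start hk hmin hodd hc) hr hy hr1 hy1, h.Z_inv hz]
  have hedge := h.side_edge hk hmin hodd hc hl (Z_le_V hl' hv)
  have hmv := h.side_moves hk hmin hodd hc hl (Z_le_V hl' hv) hvm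
  refine h.odd_rel hk hmin hodd hc _ (v • p (k - 1)) (p (k - 1)) (p (k - 3)) T.isB
    (h.adj_smul_self hedge.1 T.adj₁) T.adj₁ T.adj₃ hmv ?_ T.ne.symm _ (h.conj_mem_Z v hz) z hz
    (fun hh => hzm ?_) hzm
  · exact fun e => T.ne (MulAction.injective v
      ((MulAction.mem_stabilizer_iff.1 hedge.2).trans e.symm))
  · have := h.conj_mem_Z_self (inv_mem hedge.1) hh
    rwa [show v⁻¹ * (v * z * v⁻¹) * v⁻¹⁻¹ = z by group] at this

theorem odd_seven_false (h7 : 7 ≤ k) (hc : Crit k p) : False := by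
  have hA := hc.isA
  have T := h.odd_tail hk hmin hodd hc
  have h01 : (cosetGraph P₁ P₂).Adj (p 0) (p 1) := hc.adj 0 (by omega)
  obtain ⟨l, hl, hl1⟩ := h.exists_other h01
  obtain ⟨l', -, hq⟩ := h.odd_shift hk hmin hodd hc hl hl1
  have e := h.odd_ZB_le hk hmin hodd hq
  simp only [cons_succ, cons_zero] at e
  rw [cons_two _ _ _ (by omega), show k - 3 - 2 = k - 5 by omega] at e
  have hA5 : IsA (p (k - 5)) := by
    refine (h.odd_isA hk hmin hodd hc (Nat.sub_le _ _)).2 ?_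
    rw [Nat.even_sub (by omega)]
    exact iff_of_false hodd (by decide)
  have d5 := h.dist_walk hc.adj (show k - 5 ≤ k by omega) le_rfl
  have d3 := h.dist_walk hc.adj (show k - 3 ≤ k by omega) le_rfl
  exact hc.ne_le ((h.Z_le_sup hA h01 hl hl1.symm).trans (sup_le
    ((h.odd_ZB_le hk hmin hodd hc).trans (hmin _ _ T.isA₃ (by omega)))
    (e.trans (hmin _ _ hA5 (by omega)))))

end odd

end Hyp

end CfsgLib.LocalEven49.Goldschmidt
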