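import Cfsg.Agent.LocalEven49.Goldschmidt.Common

/-!
Critical distance 3: the edge groups have order at most `2 ^ 7`.
-/

set_option autoImplicit false
set_option linter.style.haveILetI false
set_option linter.unusedSectionVars false

namespace CfsgLib.LocalEven49.Goldschmidt

open Cfsg CfsgLib.LocalEven CfsgLib.LocalEven48.Amalgam
open CfsgLib.LocalEven48.S3Amalgam (conj_mem_stab conj_mem_Q)

variable {G : Type*} [Group G] {P₁ P₂ : Subgroup G}

theorem exists_mul_of_mem_sup {A B : Subgroup G}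
    (hB : B ≤ Subgroup.normalizer (A : Set G)) {x : G} (hx : x ∈ A ⊔ B) :
    ∃ y ∈ A, ∃ z ∈ B, x = y * z := by
  let S : Subgroup G :=
    { carrier := {x | ∃ y ∈ A, ∃ z ∈ B, x = y * z}
      one_mem' := ⟨1, one_mem _, 1, one_mem _, (mul_one 1).symm⟩
      mul_mem' := by
        rintro _ _ ⟨y, hy, z, hz, rfl⟩ ⟨y', hy', z', hz', rfl⟩
        exact ⟨y * (z * y' * z⁻¹), mul_mem hy (conj_mem_of_mem_normalizer (hB hz) hy'), z * z',
          mul_mem hz hz', by group⟩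
      inv_mem' := by
        rintro _ ⟨y, hy, z, hz, rfl⟩
        exact ⟨z⁻¹ * y⁻¹ * z⁻¹⁻¹, conj_mem_of_mem_normalizer (hB (inv_mem hz)) (inv_mem hy), z⁻¹,
          inv_mem hz, by group⟩ }
  exact (sup_le (fun y hy => ⟨y, hy, 1, one_mem _, (mul_one y).symm⟩)
    (fun z hz => ⟨1, one_mem _, z, hz, (one_mul z).symm⟩) : A ⊔ B ≤ S) hx

/-- `U_v`: the subgroup generated by the `V` of the neighbours. -/
def U (v : CosetVertex P₁ P₂) : Subgroup G :=
  ⨆ n : {n : CosetVertex P₁ P₂ // (cosetGraph P₁ P₂).Adj v n}, V (n : CosetVertex P₁ P₂)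

theorem V_le_U {v n : CosetVertex P₁ P₂} (hn : (cosetGraph P₁ P₂).Adj v n) : V n ≤ U v :=
  le_iSup (fun n : {n : CosetVertex P₁ P₂ // (cosetGraph P₁ P₂).Adj v n} =>
    V (n : CosetVertex P₁ P₂)) ⟨n, hn⟩

/-- Three distinct neighbours. -/
structure IsTri (v x y z : CosetVertex P₁ P₂) : Prop where
  isA : IsA v
  adjx : (cosetGraph P₁ P₂).Adj v x
  adjy : (cosetGraph P₁ P₂).Adj v y
  adjz : (cosetGraph P₁ P₂).Adj v z
  nxy : x ≠ y
  nxz : x ≠ z
  nyz : y ≠ z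

theorem IsTri.swap₂₃ {v x y z : CosetVertex P₁ P₂} (T : IsTri v x y z) : IsTri v x z y :=
  ⟨T.isA, T.adjx, T.adjz, T.adjy, T.nxz, T.nxy, T.nyz.symm⟩

theorem IsTri.swap₁₂ {v x y z : CosetVertex P₁ P₂} (T : IsTri v x y z) : IsTri v y x z :=
  ⟨T.isA, T.adjy, T.adjx, T.adjz, T.nxy.symm, T.nyz, T.nxz⟩

theorem IsTri.rot {v x y z : CosetVertex P₁ P₂} (T : IsTri v x y z) : IsTri v y z x :=
  T.swap₁₂.swap₂₃

namespace Hyp

variable (h : Hyp P₁ P₂) {p : ℕ → CosetVertex P₁ P₂} {v x y z n : CosetVertex P₁ P₂}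
include h

theorem exists_tri (hA : IsA v) (hx : (cosetGraph P₁ P₂).Adj v x) :
    ∃ y z, IsTri v x y z := by
  obtain ⟨y, hy, hyx⟩ := h.exists_other hx
  obtain ⟨z, hz, hxz, hyz⟩ := h.third hx hy hyx.symm
  exact ⟨y, z, hA, hx, hy, hz, hyx.symm, hxz, hyz⟩

theorem pairA_transitive {a : CosetVertex P₁ P₂} {u w : CosetVertex P₁ P₂} (hA : IsA a)
    (hu : (cosetGraph P₁ P₂).Adj a u) (hw : (cosetGraph P₁ P₂).Adj a w) (huw : u ≠ w)
    {a' u' w' : CosetVertex P₁ P₂} (hA' : IsA a') (hu' : (cosetGraph P₁ P₂).Adj a' u')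
    (hw' : (cosetGraph P₁ P₂).Adj a' w') (huw' : u' ≠ w') :
    ∃ g : G, g • a = a' ∧ g • u = u' ∧ g • w = w' := by
  obtain ⟨g, hg⟩ := exists_smul_vertex (iff_of_true hA hA')
  have h1 : (cosetGraph P₁ P₂).Adj a' (g • u) := hg ▸ adj_smul g hu
  have h2 : (cosetGraph P₁ P₂).Adj a' (g • w) := hg ▸ adj_smul g hw
  obtain ⟨f, hf, hfu, hfw⟩ := h.two_transitive h1 h2
    (fun e => huw (MulAction.injective g e)) hu' hw' huw'
  exact ⟨f * g, by rw [mul_smul, hg, MulAction.mem_stabilizer_iff.1 hf],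
    by rw [mul_smul, hfu], by rw [mul_smul, hfw]⟩

theorem tri_dist (T : IsTri v x y z) : (cosetGraph P₁ P₂).dist x y ≤ 2 := by
  have := h.dist_step (u := x) T.adjy
  rw [h.dist_adj T.adjx.symm] at this
  exact this

section three

variable (hmin : MinDist P₁ P₂ 3) (hc : Crit 3 p)
include hmin

theorem three_V_Q (T : IsTri v x y z) : V x ≤ vertexQ 2 v :=
  h.V_le_Q_of_dist hmin ((adj_isA T.adjx).1 T.isA) (by rw [h.dist_adj T.adjx.symm]; omega)

theorem three_V_stab (T : IsTri v x y z) : V x ≤ MulAction.stabilizer G y :=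
  h.V_le_stab_of_dist (by omega) hmin ((adj_isA T.adjx).1 T.isA) (by have := h.tri_dist T; omega)

theorem three_V_edge (T : IsTri v x y z) : V x ≤ edgeStabilizer v y := fun g hg =>
  ⟨h.Q_le_stab v (h.three_V_Q hmin T hg), h.three_V_stab hmin T hg⟩

theorem three_V_edge' (T : IsTri v x y z) : V x ≤ edgeStabilizer y v :=
  (h.three_V_edge hmin T).trans (edge_comm v y).le

theorem three_Z_Q (T : IsTri v x y z) : vertexZ 2 v ≤ vertexQ 2 x :=
  hmin v x T.isA (by rw [h.dist_adj T.adjx]; omega)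

theorem three_U_normal (hA : IsA v) :
    MulAction.stabilizer G v ≤ Subgroup.normalizer (U v : Set G) := fun g hg => by
  obtain ⟨n, hn⟩ := exists_adj v
  obtain ⟨y, z, T⟩ := h.exists_tri hA hn
  have hUQ : U v ≤ vertexQ 2 v := iSup_le fun m => by
    obtain ⟨y', z', T'⟩ := h.exists_tri hA m.2
    exact h.three_V_Q hmin T'
  haveI := h.finite_le_edge (hUQ.trans (h.Q_le_edge hn))
  refine mem_normalizer_of_conj fun u hu => ?_
  have hle : U v ≤ (U v).comap (MulAut.conj g).toMonoidHom :=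
    iSup_le fun m w hw => V_le_U (h.adj_smul_self hg m.2) (h.conj_mem_V g hw)
  exact hle hu

include hc

theorem three_not_le (T : IsTri v x y z) : ¬ V x ≤ vertexQ 2 y := by
  intro hle
  have h01 := hc.adj 0 (by omega)
  have h12 := hc.adj 1 (by omega)
  have h23 := hc.adj 2 (by omega)
  have hA2 : IsA (p 2) := (walk_isA hc.adj 2 (by omega)).2 (iff_of_true hc.isA even_two)
  obtain ⟨g, -, hgx, hgy⟩ := h.pairA_transitive hA2 h12.symm h23
    ((h.crit_nb hmin hc).nb 1 (le_refl 3)) T.isA T.adjx T.adjy T.nxy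
  refine hc.ne_le fun w hw => ?_
  have := conj_mem_Q g⁻¹ (hle (hgx ▸ h.conj_mem_V g (Z_le_V h01.symm hw)))
  rwa [← hgy, inv_smul_smul, show g⁻¹ * (g * w * g⁻¹) * g⁻¹⁻¹ = w by group] at this

theorem three_I (T : IsTri v x y z) {i : G} (hix : i ∈ V x) (hiy : i ∈ V y) (hiz : i ∈ V z) :
    i ∈ vertexZ 2 v := by
  have hBx := (adj_isA T.adjx).1 T.isA
  have hBy := (adj_isA T.adjy).1 T.isA
  let N : Subgroup G := V x ⊓ V y ⊓ V z
  have hmem : ∀ {g : G}, g ∈ N → ∀ w, (cosetGraph P₁ P₂).Adj v w → g ∈ V w := by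
    rintro g ⟨⟨g1, g2⟩, g3⟩ w hw
    rcases h.nbr_three T.adjx T.adjy T.adjz T.nxy T.nxz T.nyz hw with e | e | e <;> subst e
    exacts [g1, g2, g3]
  have hNQ : N ≤ vertexQ 2 v := (inf_le_left.trans inf_le_left).trans (h.three_V_Q hmin T)
  refine h.le_Z_of_centralized T.isA N hNQ (fun g hg => ?_) (fun q hq u hu => ?_)
    (fun u hu => h.V_sq (le_refl 3) hmin hBx (hmem hu x T.adjx)) ⟨⟨hix, hiy⟩, hiz⟩
  · haveI := h.finite_le_edge (hNQ.trans (h.Q_le_edge T.adjx))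
    refine mem_normalizer_of_conj fun u hu => ?_
    have hw : ∀ w, (cosetGraph P₁ P₂).Adj v w → g * u * g⁻¹ ∈ V w := fun w hw => by
      have := h.conj_mem_V g (hmem hu (g⁻¹ • w) (h.adj_smul_self (inv_mem hg) hw))
      rwa [smul_inv_smul] at this
    exact ⟨⟨hw x T.adjx, hw y T.adjy⟩, hw z T.adjz⟩
  · obtain ⟨a, ha, haQ⟩ := SetLike.not_le_iff_exists.1 (h.three_not_le hmin hc T)
    obtain ⟨b, hb, hbQ⟩ := SetLike.not_le_iff_exists.1 (h.three_not_le hmin hc T.swap₁₂)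
    have hau : a * u = u * a := h.V_comm (le_refl 3) hmin hBx ha (hmem hu x T.adjx)
    have hbu : b * u = u * b := h.V_comm (le_refl 3) hmin hBy hb (hmem hu y T.adjy)
    have base : ∀ j, j ∈ vertexQ 2 x → j ∈ vertexQ 2 y → j * u = u * j := by
      intro j hjx hjy
      have := h.ZB_inter T.isA T.adjx T.adjy T.nxy
        (h.comm_V_Q hBx hjx (hmem hu x T.adjx)) (h.comm_V_Q hBy hjy (hmem hu y T.adjy))
      exact mul_inv_eq_iff_eq_mul.1 (mul_inv_eq_one.1 this)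
    have step : ∀ j, j ∈ vertexQ 2 v → j ∈ vertexQ 2 x → j * u = u * j := by
      intro j hjv hjx
      by_cases hjy : j ∈ vertexQ 2 y
      · exact base j hjx hjy
      have h1 := base (j * a) (mul_mem hjx (h.V_le_Q (by omega) hmin hBx ha))
        (h.mul_mem_Q T.adjy.symm ((edge_comm v y).le (h.Q_le_edge T.adjy hjv))
          (h.three_V_edge' hmin T ha) hjy haQ)
      rw [mul_assoc, hau, ← mul_assoc, ← mul_assoc] at h1
      exact mul_right_cancel h1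
    by_cases hqx : q ∈ vertexQ 2 x
    · exact step q hq hqx
    have h1 := step (q * b) (mul_mem hq (h.three_V_Q hmin T.swap₁₂ hb))
      (h.mul_mem_Q T.adjx.symm ((edge_comm v x).le (h.Q_le_edge T.adjx hq))
        (h.three_V_edge' hmin T.swap₁₂ hb) hqx hbQ)
    rw [mul_assoc, hbu, ← mul_assoc, ← mul_assoc] at h1
    exact mul_right_cancel h1

theorem three_R (T : IsTri v x y z) {a b : G} (ha : a ∈ V x) (hb : b ∈ V y) :
    b * a * b⁻¹ * a⁻¹ ∈ vertexZ 2 v := by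
  have hBx := (adj_isA T.adjx).1 T.isA
  have hbx := h.three_V_stab hmin T.swap₁₂ hb
  have hay := h.three_V_stab hmin T ha
  have h1 : b * a * b⁻¹ * a⁻¹ ∈ V x := mul_mem (h.conj_mem_V_self hbx ha) (inv_mem ha)
  have h2 : b * a * b⁻¹ * a⁻¹ ∈ V y := by
    rw [show b * a * b⁻¹ * a⁻¹ = b * (a * b⁻¹ * a⁻¹) by group]
    exact mul_mem hb (h.conj_mem_V_self hay (inv_mem hb))
  refine h.three_I hmin hc T h1 h2 ?_
  by_cases hbQ : b ∈ vertexQ 2 x
  · exact Z_le_V T.adjz.symm (h.ZB_le T.isA T.adjx (h.comm_V_Q hBx hbQ ha))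
  obtain ⟨c, hcz, hcQ⟩ := SetLike.not_le_iff_exists.1 (h.three_not_le hmin hc T.rot.rot)
  have hbc : b * c ∈ vertexQ 2 x := h.mul_mem_Q T.adjx.symm (h.three_V_edge' hmin T.swap₁₂ hb)
    (h.three_V_edge' hmin T.rot.rot hcz) hbQ hcQ
  have h3 : b * c * a * (b * c)⁻¹ * a⁻¹ ∈ V z :=
    Z_le_V T.adjz.symm (h.ZB_le T.isA T.adjx (h.comm_V_Q hBx hbc ha))
  have haz : a ∈ MulAction.stabilizer G z := h.three_V_stab hmin T.swap₂₃ ha
  have h4 : c * a * c⁻¹ * a⁻¹ ∈ V z := by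
    rw [show c * a * c⁻¹ * a⁻¹ = c * (a * c⁻¹ * a⁻¹) by group]
    exact mul_mem hcz (h.conj_mem_V_self haz (inv_mem hcz))
  have hbz : b ∈ MulAction.stabilizer G z := h.three_V_stab hmin T.rot hb
  have h5 := mul_mem (inv_mem (h.conj_mem_V_self hbz h4)) h3
  rwa [show (b * (c * a * c⁻¹ * a⁻¹) * b⁻¹)⁻¹ * (b * c * a * (b * c)⁻¹ * a⁻¹) =
    b * a * b⁻¹ * a⁻¹ by group] at h5

/-- `V_n` is generated by the `Z` of two neighbours. -/
theorem three_V_sup {a a' : CosetVertex P₁ P₂} (hB : ¬ IsA n)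
    (ha : (cosetGraph P₁ P₂).Adj n a) (ha' : (cosetGraph P₁ P₂).Adj n a') (haa : a ≠ a') :
    V n ≤ vertexZ 2 a ⊔ vertexZ 2 a' := by
  obtain ⟨a'', ha'', h1, h2⟩ := h.third ha ha' haa
  obtain ⟨y, z, T⟩ := h.exists_tri (h.isA_of_adj hB ha) ha.symm
  obtain ⟨b, hb, hbQ⟩ := SetLike.not_le_iff_exists.1 (h.three_not_le hmin hc T.swap₁₂)
  refine V_le fun w hw => ?_
  rcases h.nbr_three ha ha' ha'' haa h1 h2 hw with e | e | e <;> subst e
  · exact le_sup_left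
  · exact le_sup_right
  intro u hu
  have hbn : b • a' = w :=
    h.swap_eq ha ha' hw haa h1 h2 (h.three_V_edge' hmin T.swap₁₂ hb) hbQ
  have hu' : b⁻¹ * u * b⁻¹⁻¹ ∈ vertexZ 2 a' := by
    have := h.conj_mem_Z b⁻¹ hu
    rwa [inv_smul_eq_iff.2 hbn.symm] at this
  have h3 := h.three_R hmin hc T (Z_le_V ha' hu') hb
  have h4 := mul_mem (Subgroup.mem_sup_left (T := vertexZ 2 a') h3) (Subgroup.mem_sup_right hu')
  rwa [inv_mul_cancel_right, show b * (b⁻¹ * u * b⁻¹⁻¹) * b⁻¹ = u by group] at h4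

theorem three_decomp {a : CosetVertex P₁ P₂} (T : IsTri v x y z)
    (ha : (cosetGraph P₁ P₂).Adj x a) (hav : a ≠ v) {u : G} (hu : u ∈ V x) :
    ∃ e ∈ vertexZ 2 a, ∃ ζ ∈ vertexZ 2 v, u = e * ζ := by
  have hBx := (adj_isA T.adjx).1 T.isA
  refine exists_mul_of_mem_sup (fun q hq => ?_) (h.three_V_sup hmin hc hBx ha T.adjx.symm hav hu)
  refine Subgroup.centralizer_le_normalizer _ (Subgroup.mem_centralizer_iff.2 fun e he => ?_)
  exact h.V_comm (le_refl 3) hmin hBx (Z_le_V ha he) (Z_le_V T.adjx.symm hq)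

theorem three_comm_V (T : IsTri v x y z) {u s : G} (hu : u ∈ V x) (hsv : s ∈ vertexQ 2 v)
    (hsx : s ∉ vertexQ 2 x) (hcomm : s * u = u * s) : u ∈ vertexZ 2 v := by
  obtain ⟨a, ha, hav⟩ := h.exists_other T.adjx.symm
  obtain ⟨e, he, ζ, hζ, rfl⟩ := h.three_decomp hmin hc T ha hav hu
  have hsζ := h.Q_comm_Z hsv hζ
  have hse : s * e = e * s := by
    rw [mul_assoc e, ← hsζ, ← mul_assoc, ← mul_assoc] at hcomm
    exact mul_right_cancel hcomm
  have hs : s ∈ edgeStabilizer x v := ⟨h.Q_fix hsv T.adjx, h.Q_le_stab v hsv⟩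
  have he' : e ∈ vertexZ 2 (s • a) := by
    have := h.conj_mem_Z s he
    rwa [hse, mul_inv_cancel_right] at this
  exact mul_mem (h.ZB_le T.isA T.adjx (h.Z_inter (le_refl 3) hmin ((adj_isA T.adjx).1 T.isA) ha
    (h.adj_smul_self hs.1 ha) (h.moves T.adjx.symm ha hav.symm hs hsx).symm he he')) hζ

theorem three_small : Small P₁ P₂ := by
  have h01 := hc.adj 0 (by omega)
  have h12 := hc.adj 1 (by omega)
  have h23 := hc.adj 2 (by omega)
  have hnb := h.crit_nb hmin hc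
  have hA2 : IsA (p 2) := (walk_isA hc.adj 2 (by omega)).2 (iff_of_true hc.isA even_two)
  have h13 : p 1 ≠ p 3 := hnb.nb 1 (le_refl 3)
  have h02 : p 0 ≠ p 2 := hnb.nb 0 (by omega)
  have hB1 : ¬ IsA (p 1) := (adj_isA h01).1 hc.isA
  obtain ⟨z, hz, hz1, hz3⟩ := h.third h12.symm h23 h13
  have T : IsTri (p 2) (p 1) (p 3) z := ⟨hA2, h12.symm, h23, hz, h13, hz1, hz3⟩
  obtain ⟨g, hg, hg1, hg3⟩ := h.two_transitive h12.symm h23 h13 h23 h12.symm h13.symm
  have key : ∀ w ∈ vertexZ 2 (p 0), w ∈ vertexQ 2 (p 3) → w ∈ vertexZ 2 (p 1) := by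
    intro w hw hw3
    set u := g * w * g⁻¹
    have hu3 : u ∈ V (p 3) := hg1 ▸ h.conj_mem_V g (Z_le_V h01.symm hw)
    have hu1 : u ∈ vertexQ 2 (p 1) := hg3 ▸ conj_mem_Q g hw3
    have hB3 : ¬ IsA (p 3) := (adj_isA h23).1 hA2
    have huw : u * w = w * u := by
      have e1 := h.comm_V_Q hB1 hu1 (Z_le_V h01.symm hw)
      have e2 : u * w * u⁻¹ * w⁻¹ ∈ vertexZ 2 (p 3) := by
        have := inv_mem (h.comm_V_Q hB3 hw3 hu3)
        rwa [show (w * u * w⁻¹ * u⁻¹)⁻¹ = u * w * u⁻¹ * w⁻¹ by group] at this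
      exact mul_inv_eq_iff_eq_mul.1 (mul_inv_eq_one.1 (h.ZB_inter hA2 h12.symm h23 h13 e1 e2))
    by_cases hu0 : u ∈ vertexQ 2 (p 0)
    · obtain ⟨a, ha, haQ⟩ := SetLike.not_le_iff_exists.1 (h.three_not_le hmin hc T)
      have hau : u * a = a * u := by
        have hu2 : u ∈ vertexQ 2 (p 2) := h.three_V_Q hmin T.swap₁₂ hu3
        have hle : V (p 1) ≤ Subgroup.centralizer ({u} : Set G) :=
          (h.three_V_sup hmin hc hB1 h01.symm h12 h02).trans (sup_le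
            (fun e he => Subgroup.mem_centralizer_singleton_iff.2 (h.Q_comm_Z hu0 he).symm)
            (fun e he => Subgroup.mem_centralizer_singleton_iff.2 (h.Q_comm_Z hu2 he).symm))
        exact (Subgroup.mem_centralizer_singleton_iff.1 (hle ha)).symm
      have := h.three_comm_V hmin hc T.swap₁₂ hu3 (h.three_V_Q hmin T ha) haQ hau.symm
      have hw2 := h.conj_mem_Z_self (inv_mem hg) this
      rw [show g⁻¹ * u * g⁻¹⁻¹ = w by simp only [u]; group] at hw2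
      exact h.Z_inter (le_refl 3) hmin hB1 h01.symm h12 h02 hw hw2
    · exact h.mem_ZB_of_comm_swap h01 hw ⟨h.Q_fix hu1 h01.symm, h.Q_le_stab _ hu1⟩ hu0 huw
  refine h.small_of_one hc.isA h01 fun w hw w' hw' hwn hwn' => key _ (mul_mem hw hw') ?_
  exact h.mul_mem_Q h23.symm (h.three_V_edge' hmin T (Z_le_V h01.symm hw))
    (h.three_V_edge' hmin T (Z_le_V h01.symm hw')) (fun e => hwn (key _ hw e))
    (fun e => hwn' (key _ hw' e))

theorem three_cosets (T : IsTri v x y z) {u u' : G} (hu : u ∈ V x) (hu' : u' ∈ V x)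
    (hn : u ∉ vertexZ 2 v) (hn' : u' ∉ vertexZ 2 v) : u * u' ∈ vertexZ 2 v := by
  have hBx := (adj_isA T.adjx).1 T.isA
  obtain ⟨a, ha, hav⟩ := h.exists_other T.adjx.symm
  obtain ⟨e, he, ζ, hζ, rfl⟩ := h.three_decomp hmin hc T ha hav hu
  obtain ⟨e', he', ζ', hζ', rfl⟩ := h.three_decomp hmin hc T ha hav hu'
  have h1 : e ∉ vertexZ 2 x := fun q => hn (mul_mem (h.ZB_le T.isA T.adjx q) hζ)
  have h2 : e' ∉ vertexZ 2 x := fun q => hn' (mul_mem (h.ZB_le T.isA T.adjx q) hζ')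
  have h3 := h.ZB_le T.isA T.adjx
    (h.three_small hmin hc a x (h.isA_of_adj hBx ha) ha.symm e he e' he' h1 h2)
  rw [show e * ζ * (e' * ζ') = e * (ζ * e') * ζ' by group,
    h.V_comm (le_refl 3) hmin hBx (Z_le_V T.adjx.symm hζ) (Z_le_V ha he'),
    show e * (e' * ζ) * ζ' = e * e' * (ζ * ζ') by group]
  exact mul_mem h3 (mul_mem hζ hζ')

theorem three_notMem_Q (T : IsTri v x y z) {u : G} (hu : u ∈ V x) (hn : u ∉ vertexZ 2 v) :
    u ∉ vertexQ 2 y := by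
  intro huQ
  obtain ⟨a, ha, haQ⟩ := SetLike.not_le_iff_exists.1 (h.three_not_le hmin hc T)
  have hZQ := h.three_Z_Q hmin T.swap₁₂
  have han : a ∉ vertexZ 2 v := fun e => haQ (hZQ e)
  have := mul_mem (inv_mem huQ) (hZQ (h.three_cosets hmin hc T hu ha hn han))
  rw [inv_mul_cancel_left] at this
  exact haQ this

theorem three_comm_notMem (T : IsTri v x y z) {a b : G} (ha : a ∈ V x) (han : a ∉ vertexZ 2 v)
    (hb : b ∈ V y) (hbn : b ∉ vertexZ 2 v) : b * a * b⁻¹ * a⁻¹ ∉ vertexZ 2 x := by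
  intro hh
  have hBx := (adj_isA T.adjx).1 T.isA
  obtain ⟨l, hl, hlv⟩ := h.exists_other T.adjx.symm
  obtain ⟨e, he, ζ, hζ, rfl⟩ := h.three_decomp hmin hc T hl hlv ha
  have hbv := h.three_V_Q hmin T.swap₁₂ hb
  have hbx : b ∉ vertexQ 2 x := h.three_notMem_Q hmin hc T.swap₁₂ hb hbn
  have hbe : b ∈ edgeStabilizer x v := h.three_V_edge' hmin T.swap₁₂ hb
  have e1 : b * (e * ζ) * b⁻¹ * (e * ζ)⁻¹ = b * e * b⁻¹ * e⁻¹ := by
    calc b * (e * ζ) * b⁻¹ * (e * ζ)⁻¹ = b * e * b⁻¹ * (b * ζ * b⁻¹) * (e * ζ)⁻¹ := by group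
      _ = b * e * b⁻¹ * e⁻¹ := by rw [h.Q_comm_Z hbv hζ, mul_inv_cancel_right]; group
  rw [e1] at hh
  have he' := h.conj_mem_Z b he
  have h2 : b * e * b⁻¹ ∈ vertexZ 2 l := by
    have := mul_mem (h.ZB_le (h.isA_of_adj hBx hl) hl.symm hh) he
    rwa [inv_mul_cancel_right] at this
  have h3 := h.Z_inter (le_refl 3) hmin hBx hl (h.adj_smul_self hbe.1 hl)
    (h.moves T.adjx.symm hl hlv.symm hbe hbx).symm h2 he'
  have h4 := h.conj_mem_Z_self (inv_mem hbe.1) h3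
  rw [show b⁻¹ * (b * e * b⁻¹) * b⁻¹⁻¹ = e by group] at h4
  exact han (mul_mem (h.ZB_le T.isA T.adjx h4) hζ)

omit hc in
theorem Z_cases (hs : Small P₁ P₂) (T : IsTri v x y z) {t : G} (ht : t ∈ vertexZ 2 v) :
    t ∈ vertexZ 2 x ∨ t ∈ vertexZ 2 y ∨ t ∈ vertexZ 2 z := by
  have dec : ∀ {t : G}, t ∈ vertexZ 2 v → ∃ α ∈ vertexZ 2 x, ∃ β ∈ vertexZ 2 y, t = α * β :=
    fun {t} ht => exists_mul_of_mem_sup (fun q hq => Subgroup.centralizer_le_normalizer _
      (Subgroup.mem_centralizer_iff.2 fun e he => h.Z_comm (h.ZB_le T.isA T.adjx he)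
        (h.ZB_le T.isA T.adjy hq))) (h.Z_le_sup T.isA T.adjx T.adjy T.nxy ht)
  obtain ⟨α, hα, β, hβ, rfl⟩ := dec ht
  by_cases hα1 : α = 1
  · exact Or.inr (Or.inl (by rwa [hα1, one_mul]))
  by_cases hβ1 : β = 1
  · exact Or.inl (by rwa [hβ1, mul_one])
  obtain ⟨γ, hγ, hγ1⟩ := h.exists_ZB z
  obtain ⟨α', hα', β', hβ', rfl⟩ := dec (h.ZB_le T.isA T.adjz hγ)
  have h1 : α' ≠ 1 := fun e => by
    subst e; rw [one_mul] at hγ hγ1
    exact hγ1 (h.ZB_inter T.isA T.adjy T.adjz T.nyz hβ' hγ)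
  have h2 : β' ≠ 1 := fun e => by
    subst e; rw [mul_one] at hγ hγ1
    exact hγ1 (h.ZB_inter T.isA T.adjx T.adjz T.nxz hα' hγ)
  rw [h.ZB_unique hs ((adj_isA T.adjx).1 T.isA) hα hα' hα1 h1,
    h.ZB_unique hs ((adj_isA T.adjy).1 T.isA) hβ hβ' hβ1 h2]
  exact Or.inr (Or.inr hγ)

theorem three_comm (T : IsTri v x y z) {a b r : G} (ha : a ∈ V x) (han : a ∉ vertexZ 2 v)
    (hb : b ∈ V y) (hbn : b ∉ vertexZ 2 v) (hr : r ∈ vertexZ 2 z) (hr1 : r ≠ 1) :
    b * a = r * (a * b) := by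
  set t := b * a * b⁻¹ * a⁻¹ with ht
  have ht2 : t ∉ vertexZ 2 y := fun e => by
    have := h.three_comm_notMem hmin hc T.swap₁₂ hb hbn ha han
    rw [show a * b * a⁻¹ * b⁻¹ = t⁻¹ by rw [ht]; group] at this
    exact this (inv_mem e)
  have ht1 := h.three_comm_notMem hmin hc T ha han hb hbn
  rcases h.Z_cases hmin (h.three_small hmin hc) T (h.three_R hmin hc T ha hb) with e | e | e
  · exact absurd e ht1
  · exact absurd e ht2
  have hne : t ≠ 1 := fun q => ht2 (q ▸ one_mem _)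
  have := h.ZB_unique (h.three_small hmin hc) ((adj_isA T.adjz).1 T.isA) e hr hne hr1
  rw [← this]; group

/-- Action of a product of two on `V_x`. -/
theorem three_pair_act (T : IsTri v x y z) {a b c r : G} (ha : a ∈ V x) (han : a ∉ vertexZ 2 v)
    (hb : b ∈ V y) (hbn : b ∉ vertexZ 2 v) (hcz : c ∈ V z) (hcn : c ∉ vertexZ 2 v)
    (hr : r ∈ vertexZ 2 x) (hr1 : r ≠ 1) : b * c * a = r * (a * (b * c)) := by
  obtain ⟨ry, hry, hry1⟩ := h.exists_ZB y
  obtain ⟨rz, hrz, hrz1⟩ := h.exists_ZB z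
  have hryv := h.ZB_le T.isA T.adjy hry
  have hrzv := h.ZB_le T.isA T.adjz hrz
  have e1 := h.three_comm hmin hc T.swap₂₃ ha han hcz hcn hry hry1
  have e2 := h.three_comm hmin hc T ha han hb hbn hrz hrz1
  have e3 : b * ry = ry * b := h.Q_comm_Z (h.three_V_Q hmin T.swap₁₂ hb) hryv
  have hp : ry * rz = r := by
    rcases h.Z_cases hmin (h.three_small hmin hc) T (mul_mem hryv hrzv) with e | e | e
    · refine h.ZB_unique (h.three_small hmin hc) ((adj_isA T.adjx).1 T.isA) e hr (fun q => ?_) hr1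
      have hrzy : rz ∈ vertexZ 2 y := by rw [eq_inv_of_mul_eq_one_right q]; exact inv_mem hry
      exact hrz1 (h.ZB_inter T.isA T.adjy T.adjz T.nyz hrzy hrz)
    · have := mul_mem (inv_mem hry) e
      rw [inv_mul_cancel_left] at this
      exact absurd (h.ZB_inter T.isA T.adjy T.adjz T.nyz this hrz) hrz1
    · have := mul_mem e (inv_mem hrz)
      rw [mul_inv_cancel_right] at this
      exact absurd (h.ZB_inter T.isA T.adjy T.adjz T.nyz hry this) hry1
  calc b * c * a = b * ry * (a * c) := by rw [mul_assoc, e1]; simp only [mul_assoc]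
    _ = ry * (b * a) * c := by rw [e3]; simp only [mul_assoc]
    _ = r * (a * (b * c)) := by rw [e2, ← hp]; simp only [mul_assoc]

theorem three_U_decomp (T : IsTri v x y z) {u : G} (hu : u ∈ U v) :
    ∃ v₁ ∈ V x, ∃ v₂ ∈ V y, ∃ v₃ ∈ V z, u = v₁ * v₂ * v₃ := by
  have hB : ∀ {w}, (cosetGraph P₁ P₂).Adj v w → ¬ IsA w := fun hw => (adj_isA hw).1 T.isA
  have hU : U v ≤ V x ⊔ (V y ⊔ V z) := iSup_le fun w => by
    rcases h.nbr_three T.adjx T.adjy T.adjz T.nxy T.nxz T.nyz w.2 with e | e | e <;> rw [e]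
    exacts [le_sup_left, le_sup_of_le_right le_sup_left, le_sup_of_le_right le_sup_right]
  obtain ⟨v₁, h1, w, hw, rfl⟩ := exists_mul_of_mem_sup
    (sup_le (fun q hq => h.V_normal (by omega) hmin (hB T.adjx) (h.three_V_stab hmin T.swap₁₂ hq))
      (fun q hq => h.V_normal (by omega) hmin (hB T.adjx) (h.three_V_stab hmin T.rot.rot hq)))
    (hU hu)
  obtain ⟨v₂, h2, v₃, h3, rfl⟩ := exists_mul_of_mem_sup
    (fun q hq => h.V_normal (by omega) hmin (hB T.adjy)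
      (h.three_V_stab hmin T.swap₂₃.rot hq)) hw
  exact ⟨v₁, h1, v₂, h2, v₃, h3, (mul_assoc _ _ _).symm⟩

/-- An element of `U_v` centralising `V_x` lies in `V_x`. -/
theorem three_U_inter (T : IsTri v x y z) {u : G} (hu : u ∈ U v)
    (hcomm : ∀ a ∈ V x, u * a = a * u) : u ∈ V x := by
  have hBx := (adj_isA T.adjx).1 T.isA
  obtain ⟨v₁, h1, v₂, h2, v₃, h3, rfl⟩ := h.three_U_decomp hmin hc T hu
  obtain ⟨a, ha, haQ⟩ := SetLike.not_le_iff_exists.1 (h.three_not_le hmin hc T)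
  have han : a ∉ vertexZ 2 v := fun e => haQ (h.three_Z_Q hmin T.swap₁₂ e)
  have e23 : v₂ * v₃ * a = a * (v₂ * v₃) := by
    have e := hcomm a ha
    rw [mul_assoc v₁ v₂, mul_assoc, ← mul_assoc a v₁,
      h.V_comm (le_refl 3) hmin hBx ha h1, mul_assoc v₁ a] at e
    exact mul_left_cancel e
  have hZ : ∀ {e : G}, e ∈ vertexZ 2 v → e * a = a * e := fun he =>
    (h.Q_comm_Z (h.three_V_Q hmin T ha) he).symm
  have hV : ∀ {e : G}, e ∈ vertexZ 2 v → e ∈ V x := fun he => Z_le_V T.adjx.symm he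
  by_cases k2 : v₂ ∈ vertexZ 2 v <;> by_cases k3 : v₃ ∈ vertexZ 2 v
  · exact mul_mem (mul_mem h1 (hV k2)) (hV k3)
  · exfalso
    obtain ⟨r, hr, hr1⟩ := h.exists_ZB y
    have e := h.three_comm hmin hc T.swap₂₃ ha han h3 k3 hr hr1
    rw [mul_assoc, e, ← mul_assoc a, ← hZ k2, mul_assoc v₂ a,
      ← mul_assoc v₂ r, h.Z_comm k2 (h.ZB_le T.isA T.adjy hr), mul_assoc r v₂] at e23
    exact hr1 (mul_eq_right.1 e23)
  · exfalso
    obtain ⟨r, hr, hr1⟩ := h.exists_ZB z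
    have e := h.three_comm hmin hc T ha han h2 k2 hr hr1
    rw [mul_assoc, hZ k3, ← mul_assoc, e,
      show r * (a * v₂) * v₃ = r * (a * (v₂ * v₃)) by group] at e23
    exact hr1 (mul_eq_right.1 e23)
  · exfalso
    obtain ⟨r, hr, hr1⟩ := h.exists_ZB x
    rw [h.three_pair_act hmin hc T ha han h2 k2 h3 k3 hr hr1] at e23
    exact hr1 (mul_eq_right.1 e23)

/-- Centraliser of `U_v` in `Q_v`. -/
theorem three_U_centre (T : IsTri v x y z) {u : G} (hu : u ∈ U v)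
    (hcomm : ∀ a ∈ U v, u * a = a * u) : u ∈ vertexZ 2 v := by
  have hx := h.three_U_inter hmin hc T hu fun a ha => hcomm a (V_le_U T.adjx ha)
  have hy := h.three_U_inter hmin hc T.swap₁₂ hu fun a ha => hcomm a (V_le_U T.adjy ha)
  by_contra hn
  exact h.three_notMem_Q hmin hc T hx hn (h.V_le_Q (by omega) hmin ((adj_isA T.adjy).1 T.isA) hy)

theorem three_comm_of (T : IsTri v x y z) {q a : G} (hqv : q ∈ vertexQ 2 v)
    (ha : a ∈ V x) (han : a ∉ vertexZ 2 v) (hqa : q * a = a * q) {w : G} (hw : w ∈ V x) :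
    q * w = w * q := by
  by_cases hwn : w ∈ vertexZ 2 v
  · exact h.Q_comm_Z hqv hwn
  have h1 := h.three_cosets hmin hc T ha hw han hwn
  have := (Commute.inv_right hqa).mul_right (h.Q_comm_Z hqv h1 : Commute q (a * w))
  rwa [inv_mul_cancel_left] at this

/-- `Q_v = K_x U_v`. -/
theorem three_Q_decomp (T : IsTri v x y z) {q : G} (hq : q ∈ vertexQ 2 v) :
    ∃ u ∈ U v, q * u ∈ Kc x := by
  have hBx := (adj_isA T.adjx).1 T.isA
  obtain ⟨a, ha, haQ⟩ := SetLike.not_le_iff_exists.1 (h.three_not_le hmin hc T)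
  obtain ⟨b, hb, hbQ⟩ := SetLike.not_le_iff_exists.1 (h.three_not_le hmin hc T.swap₁₂)
  obtain ⟨c, hcz, hcQ⟩ := SetLike.not_le_iff_exists.1 (h.three_not_le hmin hc T.rot.rot)
  have han : a ∉ vertexZ 2 v := fun e => haQ (h.three_Z_Q hmin T.swap₁₂ e)
  have hbn : b ∉ vertexZ 2 v := fun e => hbQ (h.three_Z_Q hmin T e)
  have hcn : c ∉ vertexZ 2 v := fun e => hcQ (h.three_Z_Q hmin T e)
  have hbv := h.three_V_Q hmin T.swap₁₂ hb
  have hcv := h.three_V_Q hmin T.rot.rot hcz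
  have inner : ∀ j ∈ vertexQ 2 v, j ∈ vertexQ 2 x → ∃ u ∈ U v, j * u ∈ Kc x := by
    intro j hjv hjx
    by_cases hja : j * a = a * j
    · exact ⟨1, one_mem _, by
        rw [mul_one]
        exact mem_Kc.2 ⟨hjx, fun w hw => h.three_comm_of hmin hc T hjv ha han hja hw⟩⟩
    have hbc : b * c ∈ vertexQ 2 x := h.mul_mem_Q T.adjx.symm (h.three_V_edge' hmin T.swap₁₂ hb)
      (h.three_V_edge' hmin T.rot.rot hcz) hbQ hcQ
    obtain ⟨r, hr, hr1⟩ := h.exists_ZB x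
    have e1 := h.three_pair_act hmin hc T ha han hb hbn hcz hcn hr hr1
    have e2 : j * a * j⁻¹ * a⁻¹ = r := h.ZB_unique (h.three_small hmin hc) hBx
      (h.comm_V_Q hBx hjx ha) hr (fun e => hja (mul_inv_eq_iff_eq_mul.1 (mul_inv_eq_one.1 e))) hr1
    refine ⟨b * c, mul_mem (V_le_U T.adjy hb) (V_le_U T.adjz hcz), mem_Kc.2
      ⟨mul_mem hjx hbc, fun w hw => h.three_comm_of hmin hc T (mul_mem hjv (mul_mem hbv hcv))
        ha han ?_ hw⟩⟩
    have e3 : j * a = r * a * j := by rw [← e2]; group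
    have e4 : j * r = r * j := h.central x hBx j (h.Q_le_stab x hjx) r hr
    calc j * (b * c) * a = j * r * (a * (b * c)) := by rw [mul_assoc, e1]; simp only [mul_assoc]
      _ = r * (j * a) * (b * c) := by rw [e4]; simp only [mul_assoc]
      _ = a * (j * (b * c)) := by
          rw [e3]; simp only [← mul_assoc]; rw [h.Z_sq hr, one_mul]
  by_cases hqx : q ∈ vertexQ 2 x
  · exact inner q hq hqx
  obtain ⟨u, hu, hqu⟩ := inner (q * b) (mul_mem hq hbv)
    (h.mul_mem_Q T.adjx.symm ((edge_comm v x).le (h.Q_le_edge T.adjx hq))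
      (h.three_V_edge' hmin T.swap₁₂ hb) hqx hbQ)
  exact ⟨b * u, mul_mem (V_le_U T.adjy hb) hu, by rwa [← mul_assoc]⟩

/-- An element outside `Q_v` centralising `Q_v` modulo `U_v`. -/
theorem three_exists_s (T : IsTri v x y z) :
    ∃ s ∈ edgeStabilizer v x, s ∉ vertexQ 2 v ∧
      ∀ q ∈ vertexQ 2 v, s * q * s⁻¹ * q⁻¹ ∈ U v := by
  have hBx := (adj_isA T.adjx).1 T.isA
  obtain ⟨l, hl, hlv⟩ := h.exists_other T.adjx.symm
  have hlA := h.isA_of_adj hBx hl
  obtain ⟨y', z', T'⟩ := h.exists_tri hlA hl.symm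
  obtain ⟨b, hb, hbQ⟩ := SetLike.not_le_iff_exists.1 (h.three_not_le hmin hc T'.swap₁₂)
  obtain ⟨c, hcz, hcQ⟩ := SetLike.not_le_iff_exists.1 (h.three_not_le hmin hc T'.rot.rot)
  have hbn : b ∉ vertexZ 2 l := fun e => hbQ (h.three_Z_Q hmin T' e)
  have hcn : c ∉ vertexZ 2 l := fun e => hcQ (h.three_Z_Q hmin T' e)
  set s := b * c with hs
  have hsx : s ∈ vertexQ 2 x := h.mul_mem_Q T'.adjx.symm (h.three_V_edge' hmin T'.swap₁₂ hb)
    (h.three_V_edge' hmin T'.rot.rot hcz) hbQ hcQ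
  have hse : s ∈ edgeStabilizer v x := (edge_comm x v).le (h.Q_le_edge T.adjx.symm hsx)
  obtain ⟨a, hav, hax⟩ := h.exists_ZA hBx T.adjx.symm
  have hal : a ∉ vertexZ 2 l := fun e => hax
    (h.Z_inter (le_refl 3) hmin hBx hl T.adjx.symm hlv e hav)
  obtain ⟨r, hr, hr1⟩ := h.exists_ZB x
  have hsv : s ∉ vertexQ 2 v := fun e => by
    have e1 := h.three_pair_act hmin hc T' (Z_le_V T.adjx.symm hav) hal hb hbn hcz hcn hr hr1
    rw [show b * c * a = a * (b * c) from h.Q_comm_Z e hav] at e1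
    exact hr1 (mul_eq_right.1 e1.symm)
  refine ⟨s, hse, hsv, fun q hq => ?_⟩
  obtain ⟨u, hu, hqu⟩ := h.three_Q_decomp hmin hc T hq
  set k := q * u
  have hkl : k ∈ vertexQ 2 l := h.cent l hlA k (h.Q_fix (mem_Kc.1 hqu).1 hl)
    fun e he => (mem_Kc.1 hqu).2 e (Z_le_V hl he)
  have hsU : s ∈ U l := mul_mem (V_le_U T'.adjy hb) (V_le_U T'.adjz hcz)
  have h1 : s * k * s⁻¹ * k⁻¹ ∈ U l := by
    rw [show s * k * s⁻¹ * k⁻¹ = s * (k * s⁻¹ * k⁻¹) by group]
    exact mul_mem hsU (conj_mem_of_mem_normalizer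
      (h.three_U_normal hmin hlA (h.Q_le_stab l hkl)) (inv_mem hsU))
  have h2 : s * k * s⁻¹ * k⁻¹ ∈ Kc x :=
    (Kc x).mul_mem (conj_mem_of_mem_normalizer (h.Kc_normal x (h.Q_le_stab x hsx)) hqu)
      ((Kc x).inv_mem hqu)
  have h3 : s * k * s⁻¹ * k⁻¹ ∈ U v :=
    V_le_U T.adjx (h.three_U_inter hmin hc T' h1 (mem_Kc.1 h2).2)
  have h4 := mul_mem h3 (conj_mem_of_mem_normalizer
    (h.three_U_normal hmin T.isA (h.Q_fix (mem_Kc.1 hqu).1 T.adjx.symm))
    (mul_mem (conj_mem_of_mem_normalizer (h.three_U_normal hmin T.isA hse.1) (inv_mem hu)) hu))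
  rwa [show s * k * s⁻¹ * k⁻¹ * (k * (s * u⁻¹ * s⁻¹ * u) * k⁻¹) =
    s * q * s⁻¹ * q⁻¹ by simp only [k]; group] at h4

/-- An element of `K_x ∩ Q_y ∩ Q_z` lies in `Z_v`. -/
theorem three_kernel (T : IsTri v x y z) {k : G} (hkx : k ∈ Kc x) (hky : k ∈ vertexQ 2 y)
    (hkz : k ∈ vertexQ 2 z) : k ∈ vertexZ 2 v := by
  have hA := T.isA
  have hkv : k ∈ vertexQ 2 v := h.cent v hA k (h.Q_fix (mem_Kc.1 hkx).1 T.adjx.symm)
    fun e he => (mem_Kc.1 hkx).2 e (Z_le_V T.adjx.symm he)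
  let N : Subgroup G :=
    { carrier := {g | g ∈ MulAction.stabilizer G v ∧ ∀ q ∈ vertexQ 2 v, g * q * g⁻¹ * q⁻¹ ∈ U v}
      one_mem' := ⟨one_mem _, fun q _ => by simp⟩
      mul_mem' := fun {g g'} hg hg' => ⟨mul_mem hg.1 hg'.1, fun q hq => by
        rw [show g * g' * q * (g * g')⁻¹ * q⁻¹ =
          g * (g' * q * g'⁻¹) * g⁻¹ * (g' * q * g'⁻¹)⁻¹ * (g' * q * g'⁻¹ * q⁻¹) by group]
        exact mul_mem (hg.2 _ (h.normalizer_Q v hg'.1 hq)) (hg'.2 q hq)⟩
      inv_mem' := fun {g} hg => ⟨inv_mem hg.1, fun q hq => by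
        have := inv_mem (hg.2 _ (h.normalizer_Q v (inv_mem hg.1) hq))
        rwa [show (g * (g⁻¹ * q * g⁻¹⁻¹) * g⁻¹ * (g⁻¹ * q * g⁻¹⁻¹)⁻¹)⁻¹ =
          g⁻¹ * q * g⁻¹⁻¹ * q⁻¹ by group] at this⟩ }
  have hNconj : ∀ {f g : G}, f ∈ MulAction.stabilizer G v → g ∈ N → f * g * f⁻¹ ∈ N := by
    intro f g hf hg
    refine ⟨mul_mem (mul_mem hf hg.1) (inv_mem hf), fun q hq => ?_⟩
    rw [show f * g * f⁻¹ * q * (f * g * f⁻¹)⁻¹ * q⁻¹ =
      f * (g * (f⁻¹ * q * f⁻¹⁻¹) * g⁻¹ * (f⁻¹ * q * f⁻¹⁻¹)⁻¹) * f⁻¹ by group]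
    exact conj_mem_of_mem_normalizer (h.three_U_normal hmin hA hf)
      (hg.2 _ (h.normalizer_Q v (inv_mem hf) hq))
  -- a three-cycle in `N`
  obtain ⟨s, hs, hsQ, hsN⟩ := h.three_exists_s hmin hc T
  obtain ⟨t, ht, htx⟩ := exists_smul_neighbour T.adjx T.adjy
  set s' := t * s * t⁻¹ with hs'
  have hs'e : s' ∈ edgeStabilizer v y := by
    have e1 := conj_mem_stab t hs.1
    have e2 := conj_mem_stab t hs.2
    rw [MulAction.mem_stabilizer_iff.1 ht] at e1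
    rw [htx] at e2
    exact ⟨e1, e2⟩
  have hs'Q : s' ∉ vertexQ 2 v := fun e => hsQ (by
    have := h.normalizer_Q v (inv_mem ht) e
    rwa [hs', show t⁻¹ * (t * s * t⁻¹) * t⁻¹⁻¹ = s by group] at this)
  set g := s * s' with hg
  have hgN : g ∈ N := mul_mem (show s ∈ N from ⟨hs.1, hsN⟩) (hNconj ht ⟨hs.1, hsN⟩)
  have c : IsCyc v x y z g := by
    refine ⟨hgN.1, T.adjx, T.adjy, T.adjz, T.nxy, T.nyz, T.nxz, ?_, ?_, ?_⟩
    · rw [hg, mul_smul, h.swap_eq T.adjy T.adjx T.adjz T.nxy.symm T.nyz T.nxz hs'e hs'Q,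
        h.swap_eq T.adjx T.adjz T.adjy T.nxz T.nxy T.nyz.symm hs hsQ]
    · rw [hg, mul_smul, MulAction.mem_stabilizer_iff.1 hs'e.2,
        h.swap_eq T.adjx T.adjy T.adjz T.nxy T.nxz T.nyz hs hsQ]
    · rw [hg, mul_smul, h.swap_eq T.adjy T.adjz T.adjx T.nyz T.nxy.symm T.nxz.symm hs'e hs'Q,
        MulAction.mem_stabilizer_iff.1 hs.2]
  -- the centraliser of `U` in `Q_v` is `Z`
  let C : Subgroup G := vertexQ 2 v ⊓ Subgroup.centralizer (U v : Set G)
  have hCm : ∀ {e : G}, e ∈ C ↔ e ∈ vertexQ 2 v ∧ ∀ u ∈ U v, e * u = u * e := fun {e} => by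
    simp only [C, Subgroup.mem_inf, Subgroup.mem_centralizer_iff]
    exact ⟨fun hh => ⟨hh.1, fun u hu => (hh.2 u hu).symm⟩,
      fun hh => ⟨hh.1, fun u hu => (hh.2 u hu).symm⟩⟩
  haveI : Finite C := h.finite_le_edge (inf_le_left.trans (h.Q_le_edge T.adjx) :
    C ≤ edgeStabilizer v x)
  have hCnorm : MulAction.stabilizer G v ≤ Subgroup.normalizer (C : Set G) := fun f hf => by
    refine mem_normalizer_of_conj fun e he => hCm.2 ⟨h.normalizer_Q v hf (hCm.1 he).1,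
      fun u hu => ?_⟩
    have e1 := (hCm.1 he).2 _
      (conj_mem_of_mem_normalizer (h.three_U_normal hmin hA (inv_mem hf)) hu)
    calc f * e * f⁻¹ * u = f * (e * (f⁻¹ * u * f⁻¹⁻¹)) * f⁻¹ := by group
      _ = f * (f⁻¹ * u * f⁻¹⁻¹ * e) * f⁻¹ := by rw [e1]
      _ = u * (f * e * f⁻¹) := by group
  have hUC : ∀ {e : G}, e ∈ U v → e ∈ C → e ∈ vertexZ 2 v := fun he he' =>
    h.three_U_centre hmin hc T he (hCm.1 he').2
  have hcomC : ∀ f ∈ N, ∀ e ∈ C, f * e * f⁻¹ * e⁻¹ ∈ vertexZ 2 v := fun f hf e he =>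
    hUC (hf.2 e (hCm.1 he).1) (mul_mem (conj_mem_of_mem_normalizer (hCnorm hf.1) he) (inv_mem he))
  -- a fixed element of `C` is trivial
  have hfix : ∀ {e : G}, e ∈ C → g * e = e * g → e = 1 := fun {e} he hge => by
    refine h.fixed_eq_one hA c C inf_le_left hCnorm (fun q hq e' he' hge' => ?_)
      (fun f hf hfQ e' he' hge' => ?_) he hge
    · have hδ := hgN.2 q hq
      set δ := g * q * g⁻¹ * q⁻¹ with hδd
      have h1 := conj_mem_of_mem_normalizer (hCnorm (h.Q_le_stab v hq)) he'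
      refine mul_inv_eq_iff_eq_mul.1 ?_
      calc g * (q * e' * q⁻¹) * g⁻¹ = g * q * g⁻¹ * (g * e' * g⁻¹) * (g * q * g⁻¹)⁻¹ := by group
        _ = δ * (q * e' * q⁻¹) * δ⁻¹ := by rw [hge', mul_inv_cancel_right, hδd]; group
        _ = q * e' * q⁻¹ := by rw [← (hCm.1 h1).2 δ hδ, mul_inv_cancel_right]
    · set f' := f * g * f⁻¹ * g with hf'
      have hf'Q : f' ∈ vertexQ 2 v := h.cyc_invert c hf hfQ
      have hf'N : f' ∈ N := mul_mem (hNconj hf.1 hgN) hgN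
      have hε := hcomC f' hf'N e' he'
      set ε := f' * e' * f'⁻¹ * e'⁻¹ with hεd
      have h1 := conj_mem_of_mem_normalizer (hCnorm (h.Q_le_stab v hf'Q)) he'
      have hε1 : ε = 1 := by
        refine h.fixed_eq_one' hA c _ (h.Z_le_Q v) (h.Z_normal v) (fun q hq w hw => h.Q_comm_Z hq hw)
          hε (mul_inv_eq_iff_eq_mul.1 ?_)
        have hδ := hgN.2 f' hf'Q
        set δ := g * f' * g⁻¹ * f'⁻¹ with hδd
        calc g * ε * g⁻¹ = g * f' * g⁻¹ * (g * e' * g⁻¹) * (g * f' * g⁻¹)⁻¹ * (g * e' * g⁻¹)⁻¹ := by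
              rw [hεd]; group
          _ = δ * (f' * e' * f'⁻¹) * δ⁻¹ * e'⁻¹ := by rw [hge', mul_inv_cancel_right, hδd]; group
          _ = ε := by rw [← (hCm.1 h1).2 δ hδ, mul_inv_cancel_right]
      exact mul_inv_eq_iff_eq_mul.1 (mul_inv_eq_one.1 hε1)
  have hCZ : ∀ e ∈ C, e ∈ vertexZ 2 v := by
    intro e he
    have hδ := hcomC g hgN e he
    have hcm : e * (g * e * g⁻¹ * e⁻¹) = g * e * g⁻¹ * e⁻¹ * e :=
      h.Q_comm_Z (hCm.1 he).1 hδ
    obtain ⟨ζ, hζ, hgζ⟩ := h.exists_fixed_mul hA c hδ (x := e) (by rw [hcm]; group)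
    have hζC : ζ ∈ C := hCm.2 ⟨h.Z_le_Q v hζ, fun u hu => by
      have huQ : u ∈ vertexQ 2 v := (iSup_le fun w => (by
        obtain ⟨y', z', T'⟩ := h.exists_tri hA w.2
        exact h.three_V_Q hmin T') : U v ≤ vertexQ 2 v) hu
      exact (h.Q_comm_Z huQ hζ).symm⟩
    rw [eq_inv_of_mul_eq_one_left (hfix (mul_mem he hζC) hgζ)]
    exact inv_mem hζ
  -- `k` centralises `U`
  have hBy := (adj_isA T.adjy).1 hA
  have hBz := (adj_isA T.adjz).1 hA
  have hδ := hgN.2 k hkv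
  set u := g * k * g⁻¹ * k⁻¹ with hud
  have hu_k : g * k * g⁻¹ = u * k := by rw [hud]; group
  have hgk : ∀ {w w' : CosetVertex P₁ P₂}, g • w = w' → k ∈ vertexQ 2 w → g * k * g⁻¹ ∈ vertexQ 2 w' :=
    fun e hw => e ▸ conj_mem_Q g hw
  have huQ : ∀ w, (cosetGraph P₁ P₂).Adj v w → u ∈ vertexQ 2 w := by
    intro w hw
    have hk' : ∀ w, (cosetGraph P₁ P₂).Adj v w → k ∈ vertexQ 2 w := fun w hw => by
      rcases h.nbr_three T.adjx T.adjy T.adjz T.nxy T.nxz T.nyz hw with e | e | e <;> subst e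
      exacts [(mem_Kc.1 hkx).1, hky, hkz]
    exact mul_mem (hgk (smul_inv_smul g w) (hk' _ (h.adj_smul_self (inv_mem hgN.1) hw)))
      (inv_mem (hk' w hw))
  obtain ⟨v₁, h1, v₂, h2, v₃, h3, hu⟩ := h.three_U_decomp hmin hc T hδ
  have hV : ∀ {w e}, (cosetGraph P₁ P₂).Adj v w → e ∈ vertexZ 2 v → e ∈ V w := fun hw he =>
    Z_le_V hw.symm he
  -- `u` is in `Z` or outside all `V`'s
  have iff1 : v₂ ∈ vertexZ 2 v ↔ v₃ ∈ vertexZ 2 v := by
    have h23 : v₂ * v₃ ∈ vertexQ 2 x := by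
      have := mul_mem (inv_mem (h.V_le_Q (by omega) hmin ((adj_isA T.adjx).1 hA) h1)) (huQ x T.adjx)
      rwa [hu, mul_assoc v₁, inv_mul_cancel_left] at this
    constructor <;> intro hh <;> by_contra hne
    · have := mul_mem (inv_mem (h.three_Z_Q hmin T hh)) h23
      rw [inv_mul_cancel_left] at this
      exact h.three_notMem_Q hmin hc T.rot.rot h3 hne this
    · have := mul_mem h23 (inv_mem (h.three_Z_Q hmin T hh))
      rw [mul_inv_cancel_right] at this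
      exact h.three_notMem_Q hmin hc T.swap₁₂ h2 hne this
  have iff2 : v₁ ∈ vertexZ 2 v ↔ v₃ ∈ vertexZ 2 v := by
    have hyQ := h.V_le_Q (k := 3) (by omega) hmin hBy
    have hst : v₃ ∈ MulAction.stabilizer G y := h.three_V_stab hmin T.swap₂₃.rot h3
    have hu' : u = v₁ * v₃ * (v₃⁻¹ * v₂ * v₃⁻¹⁻¹) := by rw [hu]; group
    have h13 : v₁ * v₃ ∈ vertexQ 2 y := by
      have := mul_mem (huQ y T.adjy)
        (inv_mem (h.normalizer_Q y (inv_mem hst) (hyQ h2)))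
      rwa [hu', mul_inv_cancel_right] at this
    constructor <;> intro hh <;> by_contra hne
    · have := mul_mem (inv_mem (h.three_Z_Q hmin T.swap₁₂ hh)) h13
      rw [inv_mul_cancel_left] at this
      exact h.three_notMem_Q hmin hc T.swap₂₃.rot h3 hne this
    · have := mul_mem h13 (inv_mem (h.three_Z_Q hmin T.swap₁₂ hh))
      rw [mul_inv_cancel_right] at this
      exact h.three_notMem_Q hmin hc T h1 hne this
  obtain ⟨a, ha, haQ⟩ := SetLike.not_le_iff_exists.1 (h.three_not_le hmin hc T)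
  have han : a ∉ vertexZ 2 v := fun e => haQ (h.three_Z_Q hmin T.swap₁₂ e)
  have hkv' : ∀ {w}, (cosetGraph P₁ P₂).Adj v w → k ∈ MulAction.stabilizer G w :=
    fun hw => h.Q_fix hkv hw
  refine hCZ k (hCm.2 ⟨hkv, fun e he => ?_⟩)
  suffices hall : ∀ w, (cosetGraph P₁ P₂).Adj v w → ∀ e ∈ V w, k * e = e * k by
    have hle : U v ≤ Subgroup.centralizer ({k} : Set G) := iSup_le fun w e he =>
      Subgroup.mem_centralizer_singleton_iff.2 (hall w w.2 e he).symm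
    exact (Subgroup.mem_centralizer_singleton_iff.1 (hle he)).symm
  -- conjugation by `g`
  have hconj : ∀ {w w' : CosetVertex P₁ P₂}, g • w = w' → ((∀ e ∈ V w, k * e = e * k) ↔
      ∀ e ∈ V w', u * k * e = e * (u * k)) := by
    intro w w' hgw
    rw [← hu_k]
    constructor
    · intro hh e he
      have := h.conj_mem_V g⁻¹ he
      rw [← hgw, inv_smul_smul] at this
      calc g * k * g⁻¹ * e = g * (k * (g⁻¹ * e * g⁻¹⁻¹)) * g⁻¹ := by group
        _ = g * (g⁻¹ * e * g⁻¹⁻¹ * k) * g⁻¹ := by rw [hh _ this]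
        _ = e * (g * k * g⁻¹) := by group
    · intro hh e he
      have := hh _ (hgw ▸ h.conj_mem_V g he)
      calc k * e = g⁻¹ * (g * k * g⁻¹ * (g * e * g⁻¹)) * g := by group
        _ = g⁻¹ * (g * e * g⁻¹ * (g * k * g⁻¹)) * g := by rw [this]
        _ = e * k := by group
  have hx : ∀ e ∈ V x, k * e = e * k := (mem_Kc.1 hkx).2
  by_cases k1 : v₁ ∈ vertexZ 2 v
  · -- `u ∈ Z_v`
    have huZ : u ∈ vertexZ 2 v :=
      hu ▸ mul_mem (mul_mem k1 (iff1.2 (iff2.1 k1))) (iff2.1 k1)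
    have hdrop : ∀ {w}, (cosetGraph P₁ P₂).Adj v w →
        ((∀ e ∈ V w, u * k * e = e * (u * k)) → ∀ e ∈ V w, k * e = e * k) := by
      intro w hw hh e he
      obtain ⟨y', z', T'⟩ := h.exists_tri hA hw
      have h5 : u * e = e * u := (h.Q_comm_Z (h.three_V_Q hmin T' he) huZ).symm
      have h6 := hh e he
      rw [mul_assoc u k e, ← mul_assoc e u k, ← h5, mul_assoc u e k] at h6
      exact mul_left_cancel h6
    have hy := hdrop T.adjy ((hconj c.map₁).1 hx)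
    have hz := hdrop T.adjz ((hconj c.map₂).1 hy)
    intro w hw
    rcases h.nbr_three T.adjx T.adjy T.adjz T.nxy T.nxz T.nyz hw with e | e | e <;> subst e
    exacts [hx, hy, hz]
  · -- `u` acts nontrivially on all three
    exfalso
    have k2 : v₂ ∉ vertexZ 2 v := fun e => k1 (iff2.2 (iff1.1 e))
    have k3 : v₃ ∉ vertexZ 2 v := fun e => k1 (iff2.2 e)
    have hsmall := h.three_small hmin hc
    have act : ∀ {w}, (cosetGraph P₁ P₂).Adj v w →
        ∀ {e : G}, e ∈ V w → u * e ≠ e * u → ∀ (j : G), j ∈ vertexQ 2 w → j ∈ vertexQ 2 v →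
          j * e ≠ e * j → u * j * e = e * (u * j) := by
      intro w hw e he hue j hj hjv hje
      have hB := (adj_isA hw).1 hA
      obtain ⟨r, hr, hr1⟩ := h.exists_ZB w
      have e1 : u * e = r * e * u := by
        rw [← h.ZB_unique hsmall hB (h.comm_V_Q hB (huQ w hw) he) hr
          (fun q => hue (mul_inv_eq_iff_eq_mul.1 (mul_inv_eq_one.1 q))) hr1]; group
      have e2 : j * e = r * e * j := by
        rw [← h.ZB_unique hsmall hB (h.comm_V_Q hB hj he) hr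
          (fun q => hje (mul_inv_eq_iff_eq_mul.1 (mul_inv_eq_one.1 q))) hr1]; group
      have e3 : u * r = r * u := h.central w hB u (h.Q_le_stab w (huQ w hw)) r hr
      calc u * j * e = u * r * (e * j) := by rw [mul_assoc, e2]; simp only [mul_assoc]
        _ = r * (u * e) * j := by rw [e3]; simp only [mul_assoc]
        _ = e * (u * j) := by rw [e1]; simp only [← mul_assoc]; rw [h.Z_sq hr, one_mul]
    -- noncommutation of `u` with each `V`
    have hux : u * a ≠ a * u := fun e => k2 (by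
      have hxV : u ∈ V x := h.three_U_inter hmin hc T hδ fun w hw =>
        h.three_comm_of hmin hc T (mul_mem (h.normalizer_Q v hgN.1 hkv) (inv_mem hkv)) ha han e hw
      have h23 : v₂ * v₃ ∈ V x := by
        have := mul_mem (inv_mem h1) hxV
        rwa [hu, mul_assoc v₁, inv_mul_cancel_left] at this
      obtain ⟨r, hr, hr1⟩ := h.exists_ZB x
      have e2 := h.three_pair_act hmin hc T ha han h2 k2 h3 k3 hr hr1
      rw [h.V_comm (le_refl 3) hmin ((adj_isA T.adjx).1 hA) h23 ha] at e2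
      exact absurd (mul_eq_right.1 e2.symm) hr1)
    have huy : ∃ b ∈ V y, u * b ≠ b * u := by
      by_contra hh
      push Not at hh
      have hyV : u ∈ V y := h.three_U_inter hmin hc T.swap₁₂ hδ hh
      -- `u ∈ V_y` forces the `x`-part into `Z`
      have hxy : u ∈ vertexZ 2 v := by
        by_contra hn
        exact h.three_notMem_Q hmin hc T.swap₁₂ hyV hn (huQ x T.adjx)
      exact hux (h.Q_comm_Z (h.three_V_Q hmin T ha) hxy).symm
    have huz : ∃ e ∈ V z, u * e ≠ e * u := by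
      by_contra hh
      push Not at hh
      have hzV : u ∈ V z := h.three_U_inter hmin hc T.rot.rot hδ hh
      have hxz : u ∈ vertexZ 2 v := by
        by_contra hn
        exact h.three_notMem_Q hmin hc T.rot.rot hzV hn (huQ x T.adjx)
      exact hux (h.Q_comm_Z (h.three_V_Q hmin T ha) hxz).symm
    -- at `y`: `k` does not commute, so `u k` does not at `z`, so `k` does at `z`
    have huky : ∀ e ∈ V y, u * k * e = e * (u * k) := (hconj c.map₁).1 hx
    have hky' : ¬ ∀ e ∈ V y, k * e = e * k := by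
      intro hh
      obtain ⟨b, hb, hub⟩ := huy
      have := huky b hb
      rw [mul_assoc, hh b hb, ← mul_assoc, ← mul_assoc b] at this
      exact hub (mul_right_cancel this)
    have hkz' : ∀ e ∈ V z, k * e = e * k := by
      by_contra hh
      push Not at hh
      obtain ⟨e0, he0, hne0⟩ := hh
      refine hky' ((hconj c.map₂).2 fun e he => ?_)
      refine h.three_comm_of hmin hc T.rot.rot (mul_mem (mul_mem (h.normalizer_Q v hgN.1 hkv)
        (inv_mem hkv)) hkv) he0 (fun q => hne0 (h.Q_comm_Z hkv q)) ?_ he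
      refine act T.adjz he0 ?_ k hkz hkv hne0
      intro hue
      obtain ⟨e, he, hue'⟩ := huz
      exact hue' (h.three_comm_of hmin hc T.rot.rot (mul_mem (h.normalizer_Q v hgN.1 hkv)
        (inv_mem hkv)) he0 (fun q => hne0 (h.Q_comm_Z hkv q)) hue he)
    have hukx : ∀ e ∈ V x, u * k * e = e * (u * k) := (hconj c.map₃).1 hkz'
    have := hukx a ha
    rw [mul_assoc, hx a ha, ← mul_assoc, ← mul_assoc a] at this
    exact hux (mul_right_cancel this)

theorem three_bound : Nat.card ↥(P₁ ⊓ P₂) ≤ 2 ^ 7 := by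
  have h01 := hc.adj 0 (by omega)
  have h12 := hc.adj 1 (by omega)
  have h02 : p 0 ≠ p 2 := (h.crit_nb hmin hc).nb 0 (by omega)
  have hA2 : IsA (p 2) := (walk_isA hc.adj 2 (by omega)).2 (iff_of_true hc.isA even_two)
  obtain ⟨y, z, T⟩ := h.exists_tri hA2 h12.symm
  set n := p 1
  set a := p 0
  set v := p 2
  have hB : ¬ IsA n := (adj_isA h01).1 hc.isA
  haveI := h.finite_Q n
  have fin : ∀ {H : Subgroup G}, H ≤ vertexQ 2 n → Finite H := fun hH =>
    Finite.of_injective _ (Subgroup.inclusion_injective hH)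
  have s1 : ∀ {w}, (cosetGraph P₁ P₂).Adj n w → ∀ (H : Subgroup G), H ≤ vertexQ 2 n →
      ∀ g ∈ H, ∀ g' ∈ H, g ∉ vertexQ 2 w → g' ∉ vertexQ 2 w → g * g' ∈ vertexQ 2 w :=
    fun {w} hw H hH g hg g' hg' e e' => h.mul_mem_Q hw.symm
      ⟨h.Q_fix (hH hg) hw, h.Q_le_stab n (hH hg)⟩
      ⟨h.Q_fix (hH hg') hw, h.Q_le_stab n (hH hg')⟩ e e'
  have a1 := card_le_two_mul (vertexQ 2 n) (vertexQ 2 a) (s1 h01.symm _ le_rfl)
  haveI := fin (inf_le_left : vertexQ 2 n ⊓ vertexQ 2 a ≤ _)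
  have a2 := card_le_two_mul (vertexQ 2 n ⊓ vertexQ 2 a) (vertexQ 2 v) (s1 h12 _ inf_le_left)
  haveI : Finite (Kc n) := fin inf_le_left
  have a3 : Nat.card ↥(vertexQ 2 n ⊓ vertexQ 2 a ⊓ vertexQ 2 v) ≤ Nat.card (Kc n) := by
    refine Subgroup.card_le_of_le ?_
    rintro g ⟨⟨hgn, hga⟩, hgv⟩
    refine mem_Kc.2 ⟨hgn, fun w hw => ?_⟩
    have hle : V n ≤ Subgroup.centralizer ({g} : Set G) :=
      (h.three_V_sup hmin hc hB h01.symm h12 h02).trans (sup_le
        (fun e he => Subgroup.mem_centralizer_singleton_iff.2 (h.Q_comm_Z hga he).symm)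
        (fun e he => Subgroup.mem_centralizer_singleton_iff.2 (h.Q_comm_Z hgv he).symm))
    exact (Subgroup.mem_centralizer_singleton_iff.1 (hle hw)).symm
  have s2 : ∀ {w}, (cosetGraph P₁ P₂).Adj v w → ∀ (H : Subgroup G), H ≤ Kc n →
      ∀ g ∈ H, ∀ g' ∈ H, g ∉ vertexQ 2 w → g' ∉ vertexQ 2 w → g * g' ∈ vertexQ 2 w := by
    intro w hw H hH g hg g' hg' e e'
    have hv : ∀ {g}, g ∈ H → g ∈ vertexQ 2 v := fun {g} hg => h.cent v hA2 g
      (h.Q_fix (mem_Kc.1 (hH hg)).1 h12) fun e he => (mem_Kc.1 (hH hg)).2 e (Z_le_V h12 he)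
    exact h.mul_mem_Q hw.symm ⟨h.Q_fix (hv hg) hw, h.Q_le_stab v (hv hg)⟩
      ⟨h.Q_fix (hv hg') hw, h.Q_le_stab v (hv hg')⟩ e e'
  have b1 := card_le_two_mul (Kc n) (vertexQ 2 y) (s2 T.adjy _ le_rfl)
  haveI := fin (inf_le_left.trans inf_le_left : Kc n ⊓ vertexQ 2 y ≤ vertexQ 2 n)
  have b2 := card_le_two_mul (Kc n ⊓ vertexQ 2 y) (vertexQ 2 z) (s2 T.adjz _ inf_le_left)
  haveI : Finite (vertexZ 2 v) :=
    h.finite_le_edge ((h.Z_le_Q v).trans (h.Q_le_edge T.adjy))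
  have b3 : Nat.card ↥(Kc n ⊓ vertexQ 2 y ⊓ vertexQ 2 z) ≤ Nat.card (vertexZ 2 v) :=
    Subgroup.card_le_of_le fun g hg => h.three_kernel hmin hc T hg.1.1 hg.1.2 hg.2
  have one : ∀ {w : CosetVertex P₁ P₂}, ¬ IsA w → Nat.card (vertexZ 2 w) ≤ 2 := by
    intro w hw
    classical
    refine le_of_le_of_eq (Nat.card_le_card_of_injective
      (fun e : vertexZ 2 w => decide ((e : G) = 1)) ?_)
      (by rw [Nat.card_eq_fintype_card, Fintype.card_bool])
    intro e e' he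
    simp only [decide_eq_decide] at he
    by_cases hz : (e : G) = 1
    · exact Subtype.ext (hz.trans (he.1 hz).symm)
    · exact Subtype.ext (h.ZB_unique (h.three_small hmin hc) hw e.2 e'.2 hz (fun q => hz (he.2 q)))
  have b4 : Nat.card (vertexZ 2 v) ≤ 2 * 2 := by
    have hy := one ((adj_isA T.adjy).1 hA2)
    have hz := one ((adj_isA T.adjz).1 hA2)
    haveI : Finite (vertexZ 2 y) := h.finite_le_edge
      ((h.Z_le_Q y).trans (h.Q_le_edge T.adjy.symm))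
    haveI : Finite (vertexZ 2 z) := h.finite_le_edge
      ((h.Z_le_Q z).trans (h.Q_le_edge T.adjz.symm))
    have dec : ∀ t : vertexZ 2 v, ∃ α : vertexZ 2 y × vertexZ 2 z, (t : G) = α.1 * α.2 := by
      intro t
      obtain ⟨α, hα, β, hβ, e⟩ := exists_mul_of_mem_sup (fun q hq =>
        Subgroup.centralizer_le_normalizer _ (Subgroup.mem_centralizer_iff.2 fun e he =>
          h.Z_comm (h.ZB_le hA2 T.adjy he) (h.ZB_le hA2 T.adjz hq)))
        (h.Z_le_sup hA2 T.adjy T.adjz T.nyz t.2)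
      exact ⟨(⟨α, hα⟩, ⟨β, hβ⟩), e⟩
    choose f hf using dec
    have := Nat.card_le_card_of_injective f fun t t' e => Subtype.ext (by rw [hf, hf, e])
    rw [Nat.card_prod] at this
    exact this.trans (Nat.mul_le_mul hy hz)
  rw [← h.card_edge_eq_base hc.isA h01, edge_comm, h.card_edge h01.symm]
  omega

end three

end Hyp

end CfsgLib.LocalEven49.Goldschmidt
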