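import Cfsg.Agent.LocalEven49.Goldschmidt.Three

/-!
Operations on critical walks, and the relation between the `Z`'s around a vertex of type B.
-/

set_option autoImplicit false
set_option linter.style.haveILetI false
set_option linter.unusedSectionVars false

namespace CfsgLib.LocalEven49.Goldschmidt

open Cfsg CfsgLib.LocalEven CfsgLib.LocalEven48.Amalgam
open CfsgLib.LocalEven48.S3Amalgam (conj_mem_stab conj_mem_Q)

variable {G : Type*} [Group G] {P₁ P₂ : Subgroup G}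

/-- Prepend a vertex. -/
def cons (x : CosetVertex P₁ P₂) (p : ℕ → CosetVertex P₁ P₂) : ℕ → CosetVertex P₁ P₂
  | 0 => x
  | i + 1 => p i

/-- The walk `p` read backwards from its `k`-th vertex. -/
def rev (k : ℕ) (p : ℕ → CosetVertex P₁ P₂) : ℕ → CosetVertex P₁ P₂ := fun i => p (k - i)

@[simp] theorem cons_zero (x : CosetVertex P₁ P₂) (p : ℕ → CosetVertex P₁ P₂) :
    cons x p 0 = x := rfl

@[simp] theorem cons_succ (x : CosetVertex P₁ P₂) (p : ℕ → CosetVertex P₁ P₂) (i : ℕ) :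
    cons x p (i + 1) = p i := rfl

theorem IsWalk.prefix {k j : ℕ} {p : ℕ → CosetVertex P₁ P₂} (hp : IsWalk k p) (hj : j ≤ k) :
    IsWalk j p :=
  ⟨fun i hi => hp.adj i (by omega), fun i hi => hp.nb i (by omega)⟩

theorem IsWalk.shift {k j s : ℕ} {p : ℕ → CosetVertex P₁ P₂} (hp : IsWalk k p) (hj : s + j ≤ k) :
    IsWalk j (fun i => p (s + i)) :=
  ⟨fun i hi => hp.adj (s + i) (by omega), fun i hi => hp.nb (s + i) (by omega)⟩

theorem IsWalk.rev {k : ℕ} {p : ℕ → CosetVertex P₁ P₂} (hp : IsWalk k p) :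
    IsWalk k (rev k p) := by
  refine ⟨fun i hi => ?_, fun i hi => ?_⟩
  · have := hp.adj (k - i - 1) (by omega)
    rw [show k - i - 1 + 1 = k - i by omega] at this
    show (cosetGraph P₁ P₂).Adj (p (k - i)) (p (k - (i + 1)))
    rw [show k - (i + 1) = k - i - 1 by omega]
    exact this.symm
  · have := hp.nb (k - (i + 2)) (by omega)
    rw [show k - (i + 2) + 2 = k - i by omega] at this
    exact this.symm

theorem IsWalk.cons {k : ℕ} {p : ℕ → CosetVertex P₁ P₂} {x : CosetVertex P₁ P₂}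
    (hp : IsWalk k p) (hx : (cosetGraph P₁ P₂).Adj x (p 0)) (hne : 1 ≤ k → x ≠ p 1) :
    IsWalk (k + 1) (cons x p) := by
  refine ⟨fun i hi => ?_, fun i hi => ?_⟩
  · cases i with
    | zero => exact hx
    | succ i => exact hp.adj i (by omega)
  · cases i with
    | zero => exact hne (by omega)
    | succ i => exact hp.nb i (by omega)

/-- Products over two neighbours of a vertex of type B lie in the `Z` of the third. -/
def Rel (P₁ P₂ : Subgroup G) : Prop :=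
  ∀ n a b c : CosetVertex P₁ P₂, ¬ IsA n → (cosetGraph P₁ P₂).Adj n a →
    (cosetGraph P₁ P₂).Adj n b → (cosetGraph P₁ P₂).Adj n c → a ≠ b → a ≠ c → b ≠ c →
      ∀ x ∈ vertexZ 2 a, ∀ y ∈ vertexZ 2 b, x ∉ vertexZ 2 n → y ∉ vertexZ 2 n →
        x * y ∈ vertexZ 2 c

/-- The product of three pairwise anticommuting involutions. -/
theorem triple_facts {ea eb ec r : G} (sa : ea * ea = 1) (sb : eb * eb = 1) (sc : ec * ec = 1)
    (sr : r * r = 1) (ra : ea * r = r * ea) (rb : eb * r = r * eb) (rc : ec * r = r * ec)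
    (cba : eb * ea = r * ea * eb) (cca : ec * ea = r * ea * ec) (ccb : ec * eb = r * eb * ec) :
    ea * eb * ec * (ea * eb * ec) = r ∧ ea * eb * ec * ea = ea * (ea * eb * ec) ∧
      ea * eb * ec * eb = eb * (ea * eb * ec) ∧ ea * eb * ec * ec = ec * (ea * eb * ec) := by
  have ta : ∀ t : G, ea * (r * t) = r * (ea * t) := fun t => by rw [← mul_assoc, ra, mul_assoc]
  have tb : ∀ t : G, eb * (r * t) = r * (eb * t) := fun t => by rw [← mul_assoc, rb, mul_assoc]
  have srt : ∀ t : G, r * (r * t) = t := fun t => by rw [← mul_assoc, sr, one_mul]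
  have sat : ∀ t : G, ea * (ea * t) = t := fun t => by rw [← mul_assoc, sa, one_mul]
  have sbt : ∀ t : G, eb * (eb * t) = t := fun t => by rw [← mul_assoc, sb, one_mul]
  have tba : ∀ t : G, eb * (ea * t) = r * (ea * (eb * t)) := fun t => by
    rw [← mul_assoc, cba]; simp only [mul_assoc]
  have tca : ∀ t : G, ec * (ea * t) = r * (ea * (ec * t)) := fun t => by
    rw [← mul_assoc, cca]; simp only [mul_assoc]
  have tcb : ∀ t : G, ec * (eb * t) = r * (eb * (ec * t)) := fun t => by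
    rw [← mul_assoc, ccb]; simp only [mul_assoc]
  refine ⟨?_, ?_, ?_, ?_⟩
  · have h1 : ea * eb * ec * (ea * eb * ec) = ea * eb * (ea * eb) := by
      simp only [mul_assoc, tca, tcb, ta, tb, srt, sc, mul_one]
    rw [h1]
    simp only [mul_assoc, tba, ta, sat, sa, sb, mul_one]
  · simp only [mul_assoc] at cca ⊢
    simp only [cca, ta, tb, tba, srt]
  · simp only [mul_assoc] at ccb ⊢
    simp only [ccb, ta, tb, tba, sbt]
  · simp only [mul_assoc, tca, tcb, ta, srt, sc, mul_one]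

namespace Hyp

variable (h : Hyp P₁ P₂) {p : ℕ → CosetVertex P₁ P₂} {a n : CosetVertex P₁ P₂} {k : ℕ}
include h

theorem crit_smul (hc : Crit k p) (g : G) : Crit k (fun i => g • p i) := by
  refine ⟨fun i hi => adj_smul g (hc.adj i hi), (smul_isA g _).2 hc.isA, fun hle => hc.ne_le ?_⟩
  intro z hz
  have := conj_mem_Q g⁻¹ (hle (h.conj_mem_Z g hz))
  rwa [inv_smul_smul, show g⁻¹ * (g * z * g⁻¹) * g⁻¹⁻¹ = z by group] at this

theorem crit_mover (hk : 1 ≤ k) (hmin : MinDist P₁ P₂ k) (hc : Crit k p) : HasMover k p := by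
  obtain ⟨t, ht, htQ⟩ := SetLike.not_le_iff_exists.1 hc.ne_le
  refine ⟨t, fun i hi => MulAction.mem_stabilizer_iff.1 (h.Z_le_stab_of_dist hk hmin hc.isA ?_ ht),
    htQ⟩
  have := h.dist_walk hc.adj (Nat.zero_le i) hi
  omega

theorem crit_cons (hmin : MinDist P₁ P₂ k) (hc : Crit k p) (hk : 2 ≤ k)
    {l l' : CosetVertex P₁ P₂} (hl : (cosetGraph P₁ P₂).Adj (p 0) l)
    (hl' : (cosetGraph P₁ P₂).Adj l l') (hno : ¬ vertexZ 2 l' ≤ vertexQ 2 (p (k - 2))) :
    Crit k (cons l' (cons l p)) := by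
  refine ⟨fun i hi => ?_, h.isA_of_adj ((adj_isA hl).1 hc.isA) hl', ?_⟩
  · match i with
    | 0 => exact hl'.symm
    | 1 => exact hl.symm
    | i + 2 => exact hc.adj i (by omega)
  · obtain ⟨j, rfl⟩ : ∃ j, k = j + 2 := ⟨k - 2, by omega⟩
    simpa using hno

theorem crit_rev (hc : Crit k p) (hA : IsA (p k)) (hno : ¬ vertexZ 2 (p k) ≤ vertexQ 2 (p 0)) :
    Crit k (rev k p) := by
  refine ⟨fun i hi => ?_, by simpa [rev] using hA, by simpa [rev] using hno⟩
  have := hc.adj (k - i - 1) (by omega)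
  rw [show k - i - 1 + 1 = k - i by omega] at this
  show (cosetGraph P₁ P₂).Adj (p (k - i)) (p (k - (i + 1)))
  rw [show k - (i + 1) = k - i - 1 by omega]
  exact this.symm

theorem Z_cases' (hs : Small P₁ P₂) {v x y z : CosetVertex P₁ P₂} (T : IsTri v x y z) {t : G}
    (ht : t ∈ vertexZ 2 v) : t ∈ vertexZ 2 x ∨ t ∈ vertexZ 2 y ∨ t ∈ vertexZ 2 z := by
  have dec : ∀ {t : G}, t ∈ vertexZ 2 v → ∃ α ∈ vertexZ 2 x, ∃ β ∈ vertexZ 2 y, t = α * β :=
    fun {t} ht => exists_mul_of_mem_sup (fun q hq => Subgroup.centralizer_le_normalizer _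
      (Subgroup.mem_centralizer_iff.2 fun e he => h.Z_comm (h.ZB_le T.isA T.adjx he)
        (h.ZB_le T.isA T.adjy hq))) (h.Z_le_sup T.isA T.adjx T.adjy T.nxy ht)
  obtain ⟨α, hα, β, hβ, rfl⟩ := dec ht
  by_cases hα1 : α = 1
  · exact Or.inr (Or.inl (by rwa [hα1, one_mul]))
  by_cases hβ1 : β = 1
  · exact Or.inl (by rwa [hβ1, mul_one])
  obtain ⟨γ, hγ, hγ1⟩ := h.exists_ZB z
  obtain ⟨α', hα', β', hβ', rfl⟩ := dec (h.ZB_le T.isA T.adjz hγ)
  have h1 : α' ≠ 1 := fun e => by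
    subst e; rw [one_mul] at hγ hγ1
    exact hγ1 (h.ZB_inter T.isA T.adjy T.adjz T.nyz hβ' hγ)
  have h2 : β' ≠ 1 := fun e => by
    subst e; rw [mul_one] at hγ hγ1
    exact hγ1 (h.ZB_inter T.isA T.adjx T.adjz T.nxz hα' hγ)
  rw [h.ZB_unique hs ((adj_isA T.adjx).1 T.isA) hα hα' hα1 h1,
    h.ZB_unique hs ((adj_isA T.adjy).1 T.isA) hβ hβ' hβ1 h2]
  exact Or.inr (Or.inr hγ)

theorem rel_of_one (hs : Small P₁ P₂) (hn : ¬ IsA n) {a b c : CosetVertex P₁ P₂}
    (ha : (cosetGraph P₁ P₂).Adj n a) (hb : (cosetGraph P₁ P₂).Adj n b)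
    (hcn : (cosetGraph P₁ P₂).Adj n c) (hab : a ≠ b) (hac : a ≠ c) (hbc : b ≠ c) {x y : G}
    (hx : x ∈ vertexZ 2 a) (hy : y ∈ vertexZ 2 b) (hxn : x ∉ vertexZ 2 n)
    (hyn : y ∉ vertexZ 2 n) (hxy : x * y ∈ vertexZ 2 c) : Rel P₁ P₂ := by
  intro n' a' b' c' hn' ha' hb' hc' hab' hac' hbc' x' hx' y' hy' hxn' hyn'
  obtain ⟨g, hgn, hga, hgb⟩ := h.pair_transitive hn ha hb hab hn' ha' hb' hab'
  have hgc : g • c = c' := by
    have h1 : (cosetGraph P₁ P₂).Adj n' (g • c) := hgn ▸ adj_smul g hcn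
    rcases h.nbr_three ha' hb' hc' hab' hac' hbc' h1 with e | e | e
    · exact absurd (MulAction.injective g (e.trans hga.symm)) hac.symm
    · exact absurd (MulAction.injective g (e.trans hgb.symm)) hbc.symm
    · exact e
  have out : ∀ {e : G}, e ∉ vertexZ 2 n → g * e * g⁻¹ ∉ vertexZ 2 n' := fun {e} he hh => he (by
    have := h.conj_mem_Z g⁻¹ hh
    rwa [← hgn, inv_smul_smul, show g⁻¹ * (g * e * g⁻¹) * g⁻¹⁻¹ = e by group] at this)
  have hsub : ∀ {w}, (cosetGraph P₁ P₂).Adj n' w → vertexZ 2 n' ≤ vertexZ 2 w := fun hw =>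
    h.ZB_le (h.isA_of_adj hn' hw) hw.symm
  have hX := hga ▸ h.conj_mem_Z g hx
  have hY := hgb ▸ h.conj_mem_Z g hy
  have hXY : g * x * g⁻¹ * (g * y * g⁻¹) ∈ vertexZ 2 c' := by
    rw [show g * x * g⁻¹ * (g * y * g⁻¹) = g * (x * y) * g⁻¹ by group, ← hgc]
    exact h.conj_mem_Z g hxy
  have e1 := hsub hc' (hs a' n' (h.isA_of_adj hn' ha') ha'.symm x' hx' _ hX hxn' (out hxn))
  have e2 := hsub hc' (hs b' n' (h.isA_of_adj hn' hb') hb'.symm _ hY y' hy' (out hyn) hyn')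
  have := mul_mem (mul_mem e1 hXY) e2
  rwa [show x' * (g * x * g⁻¹) * (g * x * g⁻¹ * (g * y * g⁻¹)) * (g * y * g⁻¹ * y') =
      x' * (g * x * g⁻¹ * (g * x * g⁻¹)) * (g * y * g⁻¹ * (g * y * g⁻¹)) * y' by
      simp only [mul_assoc], h.Z_sq hX, h.Z_sq hY, mul_one, mul_one] at this

theorem rel_V_sup (hrel : Rel P₁ P₂) (hn : ¬ IsA n) {a b : CosetVertex P₁ P₂}
    (ha : (cosetGraph P₁ P₂).Adj n a) (hb : (cosetGraph P₁ P₂).Adj n b) (hab : a ≠ b) :
    V n ≤ vertexZ 2 a ⊔ vertexZ 2 b := by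
  obtain ⟨c, hc, hac, hbc⟩ := h.third ha hb hab
  refine V_le fun w hw => ?_
  rcases h.nbr_three ha hb hc hab hac hbc hw with e | e | e <;> subst e
  · exact le_sup_left
  · exact le_sup_right
  intro u hu
  by_cases hun : u ∈ vertexZ 2 n
  · exact Subgroup.mem_sup_left (h.ZB_le (h.isA_of_adj hn ha) ha.symm hun)
  obtain ⟨e, he, hen⟩ := h.exists_ZA hn ha
  have := mul_mem (Subgroup.mem_sup_left (T := vertexZ 2 b) he)
    (Subgroup.mem_sup_right (hrel n a w b hn ha hw hb hac hab hbc.symm e he u hu hen hun))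
  rwa [← mul_assoc, h.Z_sq he, one_mul] at this

end Hyp

end CfsgLib.LocalEven49.Goldschmidt
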