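import Cfsg.Agent.LocalEven49.Goldschmidt.Common

/-!
Critical distance 2: the edge groups have order at most `2 ^ 7`.
-/

set_option autoImplicit false
set_option linter.style.haveILetI false
set_option linter.unusedSectionVars false

namespace CfsgLib.LocalEven49.Goldschmidt

open Cfsg CfsgLib.LocalEven CfsgLib.LocalEven48.Amalgam
open CfsgLib.LocalEven48.S3Amalgam (conj_mem_stab conj_mem_Q)

variable {G : Type*} [Group G] {P₁ P₂ : Subgroup G}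

/-- A product of three involutions generating `V_μ` modulo `Z_μ`, starting at `a`. -/
structure IsW (μ a b c : CosetVertex P₁ P₂) (ea eb ec : G) : Prop where
  adja : (cosetGraph P₁ P₂).Adj μ a
  adjb : (cosetGraph P₁ P₂).Adj μ b
  adjc : (cosetGraph P₁ P₂).Adj μ c
  nab : a ≠ b
  nac : a ≠ c
  nbc : b ≠ c
  mema : ea ∈ vertexZ 2 a ∧ ea ∉ vertexZ 2 μ
  memb : eb ∈ vertexZ 2 b ∧ eb ∉ vertexZ 2 μ
  memc : ec ∈ vertexZ 2 c ∧ ec ∉ vertexZ 2 μ

/-- `w` is such a product. -/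
def IsWElt (μ a : CosetVertex P₁ P₂) (w : G) : Prop :=
  ∃ b c ea eb ec, IsW μ a b c ea eb ec ∧ w = ea * eb * ec

namespace Hyp

variable (h : Hyp P₁ P₂) {p : ℕ → CosetVertex P₁ P₂} {μ a b c n : CosetVertex P₁ P₂}
  {ea eb ec w x : G}
include h

theorem exists_W (hμ : ¬ IsA μ) (ha : (cosetGraph P₁ P₂).Adj μ a) :
    ∃ w, IsWElt μ a w := by
  obtain ⟨b, hb, hba⟩ := h.exists_other ha
  obtain ⟨c, hc, hac, hbc⟩ := h.third ha hb hba.symm
  obtain ⟨ea, hea⟩ := h.exists_ZA hμ ha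
  obtain ⟨eb, heb⟩ := h.exists_ZA hμ hb
  obtain ⟨ec, hec⟩ := h.exists_ZA hμ hc
  exact ⟨_, b, c, ea, eb, ec, ⟨ha, hb, hc, hba.symm, hac, hbc, hea, heb, hec⟩, rfl⟩

theorem two_mutual (hmin : MinDist P₁ P₂ 2) (hc : Crit 2 p) :
    ¬ vertexZ 2 (p 2) ≤ vertexQ 2 (p 0) := by
  intro hle
  have hd := h.dist_walk hc.adj (Nat.zero_le 2) le_rfl
  have hA2 : IsA (p 2) := by
    have := walk_isA hc.adj 2 le_rfl
    exact this.2 (iff_of_true hc.isA even_two)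
  refine hc.ne_le fun z hz => h.cent _ hA2 z
    (h.Z_le_stab_of_dist (by omega) hmin hc.isA hd hz) fun u hu => ?_
  exact (h.Q_comm_Z (hle hu) hz).symm

theorem two_no_le (hmin : MinDist P₁ P₂ 2) (hc : Crit 2 p) (hn : ¬ IsA n)
    (ha : (cosetGraph P₁ P₂).Adj n a) (hb : (cosetGraph P₁ P₂).Adj n b) (hab : a ≠ b) :
    ¬ vertexZ 2 a ≤ vertexQ 2 b := by
  have hB : ¬ IsA (p 1) := (adj_isA (hc.adj 0 (by omega))).1 hc.isA
  obtain ⟨g, -, hga, hgb⟩ := h.pair_transitive hB (hc.adj 0 (by omega)).symm (hc.adj 1 (by omega))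
    ((h.crit_nb hmin hc).nb 0 le_rfl) hn ha hb hab
  intro hle
  refine hc.ne_le fun z hz => ?_
  have := conj_mem_Q g⁻¹ (hle (hga ▸ h.conj_mem_Z g hz))
  rwa [← hgb, inv_smul_smul, show g⁻¹ * (g * z * g⁻¹) * g⁻¹⁻¹ = z by group] at this

theorem two_dist (hn : (cosetGraph P₁ P₂).Adj n a) (hb : (cosetGraph P₁ P₂).Adj n b) :
    (cosetGraph P₁ P₂).dist a b ≤ 2 := by
  have := h.dist_step (u := a) hb
  rw [h.dist_adj hn.symm] at this
  exact this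

theorem two_edge (hmin : MinDist P₁ P₂ 2) (hn : ¬ IsA n)
    (ha : (cosetGraph P₁ P₂).Adj n a) (hb : (cosetGraph P₁ P₂).Adj n b) {z : G}
    (hz : z ∈ vertexZ 2 a) : z ∈ edgeStabilizer b n :=
  ⟨h.Z_le_stab_of_dist (by omega) hmin (h.isA_of_adj hn ha) (h.two_dist ha hb) hz,
    h.Q_fix (h.Z_le_Q a hz) ha.symm⟩

theorem two_small (hmin : MinDist P₁ P₂ 2) (hc : Crit 2 p) : Small P₁ P₂ := by
  have h01 := hc.adj 0 (by omega)
  have h12 := hc.adj 1 (by omega)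
  have hB : ¬ IsA (p 1) := (adj_isA h01).1 hc.isA
  obtain ⟨t, ht, htQ⟩ := SetLike.not_le_iff_exists.1 (h.two_mutual hmin hc)
  have hte : t ∈ edgeStabilizer (p 0) (p 1) := h.two_edge hmin hB h12 h01.symm ht
  have key : ∀ z ∈ vertexZ 2 (p 0), z ∈ vertexQ 2 (p 2) → z ∈ vertexZ 2 (p 1) := fun z hz hzQ =>
    h.mem_ZB_of_comm_swap h01 hz hte htQ (h.Q_comm_Z hzQ ht).symm
  refine h.small_of_one hc.isA h01 fun z hz z' hz' hzn hzn' => key _ (mul_mem hz hz') ?_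
  exact h.mul_mem_Q h12.symm (h.two_edge hmin hB h01.symm h12 hz)
    (h.two_edge hmin hB h01.symm h12 hz') (fun hh => hzn (key z hz hh))
    (fun hh => hzn' (key z' hz' hh))

theorem two_notMem_Q (hmin : MinDist P₁ P₂ 2) (hc : Crit 2 p) (hn : ¬ IsA n)
    (ha : (cosetGraph P₁ P₂).Adj n a) (hb : (cosetGraph P₁ P₂).Adj n b) (hab : a ≠ b)
    (hx : x ∈ vertexZ 2 a) (hxn : x ∉ vertexZ 2 n) : x ∉ vertexQ 2 b := by
  intro hxQ
  obtain ⟨t, ht, htQ⟩ := SetLike.not_le_iff_exists.1 (h.two_no_le hmin hc hn hb ha hab.symm)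
  exact hxn (h.mem_ZB_of_comm_swap ha.symm hx (h.two_edge hmin hn hb ha ht) htQ
    (h.Q_comm_Z hxQ ht).symm)

theorem two_comm (hmin : MinDist P₁ P₂ 2) (hc : Crit 2 p) (hn : ¬ IsA n)
    (ha : (cosetGraph P₁ P₂).Adj n a) (hb : (cosetGraph P₁ P₂).Adj n b) (hab : a ≠ b)
    {x y r : G} (hx : x ∈ vertexZ 2 a) (hxn : x ∉ vertexZ 2 n) (hy : y ∈ vertexZ 2 b)
    (hyn : y ∉ vertexZ 2 n) (hr : r ∈ vertexZ 2 n) (hr1 : r ≠ 1) :
    x * y = r * y * x := by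
  have hye : y ∈ edgeStabilizer a n := h.two_edge hmin hn hb ha hy
  have hyQ : y ∉ vertexQ 2 a := h.two_notMem_Q hmin hc hn hb ha hab.symm hy hyn
  have e := h.ZB_unique (h.two_small hmin hc) hn (h.comm_mem_ZB ha.symm hx hye) hr
    (h.comm_ne_one ha.symm hx hxn hye hyQ) hr1
  rw [← e, h.Z_inv hy]
  calc x * y = x * y * (x * (y * y) * x) := by rw [h.Z_sq hy, mul_one, h.Z_sq hx, mul_one]
    _ = x * (y * x * y) * y * x := by group

theorem W_mem_V (hW : IsW μ a b c ea eb ec) : ea * eb * ec ∈ V μ :=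
  mul_mem (mul_mem (Z_le_V hW.adja hW.mema.1) (Z_le_V hW.adjb hW.memb.1))
    (Z_le_V hW.adjc hW.memc.1)

theorem W_facts (hmin : MinDist P₁ P₂ 2) (hc : Crit 2 p) (hμ : ¬ IsA μ)
    (hW : IsW μ a b c ea eb ec) {r : G} (hr : r ∈ vertexZ 2 μ) (hr1 : r ≠ 1) :
    ea * eb * ec * (ea * eb * ec) = r ∧ ∀ y ∈ V μ, ea * eb * ec * y = y * (ea * eb * ec) := by
  have cab := h.two_comm hmin hc hμ hW.adja hW.adjb hW.nab hW.mema.1 hW.mema.2 hW.memb.1
    hW.memb.2 hr hr1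
  have cba := h.two_comm hmin hc hμ hW.adjb hW.adja hW.nab.symm hW.memb.1 hW.memb.2 hW.mema.1
    hW.mema.2 hr hr1
  have cca := h.two_comm hmin hc hμ hW.adjc hW.adja hW.nac.symm hW.memc.1 hW.memc.2 hW.mema.1
    hW.mema.2 hr hr1
  have ccb := h.two_comm hmin hc hμ hW.adjc hW.adjb hW.nbc.symm hW.memc.1 hW.memc.2 hW.memb.1
    hW.memb.2 hr hr1
  have sa := h.Z_sq hW.mema.1
  have sb := h.Z_sq hW.memb.1
  have sc := h.Z_sq hW.memc.1
  have sr := h.Z_sq hr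
  have rc : ∀ {g : G}, g ∈ MulAction.stabilizer G μ → ∀ t : G, g * (r * t) = r * (g * t) :=
    fun {g} hg t => by rw [← mul_assoc, h.central μ hμ g hg r hr, mul_assoc]
  have sta : ea ∈ MulAction.stabilizer G μ := h.Q_fix (h.Z_le_Q _ hW.mema.1) hW.adja.symm
  have stb : eb ∈ MulAction.stabilizer G μ := h.Q_fix (h.Z_le_Q _ hW.memb.1) hW.adjb.symm
  have stc : ec ∈ MulAction.stabilizer G μ := h.Q_fix (h.Z_le_Q _ hW.memc.1) hW.adjc.symm
  have srt : ∀ t : G, r * (r * t) = t := fun t => by rw [← mul_assoc, sr, one_mul]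
  have sat : ∀ t : G, ea * (ea * t) = t := fun t => by rw [← mul_assoc, sa, one_mul]
  have sbt : ∀ t : G, eb * (eb * t) = t := fun t => by rw [← mul_assoc, sb, one_mul]
  have sct : ∀ t : G, ec * (ec * t) = t := fun t => by rw [← mul_assoc, sc, one_mul]
  have tba : ∀ t : G, eb * (ea * t) = r * (ea * (eb * t)) := fun t => by
    rw [← mul_assoc, cba]; simp only [mul_assoc]
  have tca : ∀ t : G, ec * (ea * t) = r * (ea * (ec * t)) := fun t => by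
    rw [← mul_assoc, cca]; simp only [mul_assoc]
  have tcb : ∀ t : G, ec * (eb * t) = r * (eb * (ec * t)) := fun t => by
    rw [← mul_assoc, ccb]; simp only [mul_assoc]
  have wa : ea * eb * ec * ea = ea * (ea * eb * ec) := by
    have := tca 1
    rw [mul_one, mul_one] at this
    simp only [mul_assoc, this, rc sta, rc stb, tba, srt]
  have wb : ea * eb * ec * eb = eb * (ea * eb * ec) := by
    have := tcb 1
    rw [mul_one, mul_one] at this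
    simp only [mul_assoc, this, rc sta, rc stb, tba, sbt]
  have wc : ea * eb * ec * ec = ec * (ea * eb * ec) := by
    simp only [mul_assoc, tca, tcb, rc sta, srt, sc, mul_one]
  refine ⟨?_, fun y hy => ?_⟩
  · have h1 : ea * eb * ec * (ea * eb * ec) = ea * eb * (ea * eb) := by
      simp only [mul_assoc, tca, tcb, rc sta, rc stb, srt, sc, mul_one]
    rw [h1]
    simp only [mul_assoc, tba, rc sta, sat, sa, sb, mul_one]
  · refine h.comm_V (fun v hv z hz => ?_) hy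
    by_cases hzμ : z ∈ vertexZ 2 μ
    · exact h.central μ hμ _ (mul_mem (mul_mem sta stb) stc) z hzμ
    have key : ∀ {e : G}, e ∈ vertexZ 2 v → e ∉ vertexZ 2 μ →
        ea * eb * ec * e = e * (ea * eb * ec) →
        ea * eb * ec * z = z * (ea * eb * ec) := by
      intro e he heμ hce
      have hez := h.two_small hmin hc v μ (h.isA_of_adj hμ hv) hv.symm e he z hz heμ hzμ
      have hcz := h.central μ hμ _ (mul_mem (mul_mem sta stb) stc) _ hez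
      rw [← mul_assoc, hce, mul_assoc, mul_assoc e z] at hcz
      exact mul_left_cancel hcz
    rcases h.nbr_three hW.adja hW.adjb hW.adjc hW.nab hW.nac hW.nbc hv with e | e | e <;> subst e
    · exact key hW.mema.1 hW.mema.2 wa
    · exact key hW.memb.1 hW.memb.2 wb
    · exact key hW.memc.1 hW.memc.2 wc

theorem W_conj (hmin : MinDist P₁ P₂ 2) (hc : Crit 2 p) (hμ : ¬ IsA μ)
    (hW : IsW μ a b c ea eb ec) {g : G} (hg : g ∈ MulAction.stabilizer G μ) (hga : g • a = a) :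
    g * (ea * eb * ec) * g⁻¹ * (ea * eb * ec)⁻¹ ∈ vertexZ 2 μ := by
  obtain ⟨r, hr, hr1⟩ := h.exists_ZB μ
  have out : ∀ {e : G}, e ∉ vertexZ 2 μ → g * e * g⁻¹ ∉ vertexZ 2 μ := fun {e} he hh => he (by
    have := h.conj_mem_Z_self (inv_mem hg) hh
    rwa [show g⁻¹ * (g * e * g⁻¹) * g⁻¹⁻¹ = e by group] at this)
  have img : ∀ {u v : CosetVertex P₁ P₂} {e e' : G}, (cosetGraph P₁ P₂).Adj μ u →
      (cosetGraph P₁ P₂).Adj μ v → e ∈ vertexZ 2 u → e ∉ vertexZ 2 μ → g • u = v →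
      e' ∈ vertexZ 2 v → e' ∉ vertexZ 2 μ → ∃ ζ ∈ vertexZ 2 μ, g * e * g⁻¹ = ζ * e' := by
    intro u v e e' hu hv he he0 hgu he' he0'
    exact ⟨g * e * g⁻¹ * e', h.two_small hmin hc v μ (h.isA_of_adj hμ hv) hv.symm _
      (hgu ▸ h.conj_mem_Z g he) _ he' (out he0) he0', by
      rw [mul_assoc _ e', h.Z_sq he', mul_one]⟩
  have stu : ∀ {u : CosetVertex P₁ P₂} {e : G}, (cosetGraph P₁ P₂).Adj μ u → e ∈ vertexZ 2 u →
      e ∈ MulAction.stabilizer G μ := fun hu he => h.Q_fix (h.Z_le_Q _ he) hu.symm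
  have cen : ∀ {e ζ t : G}, e ∈ MulAction.stabilizer G μ → ζ ∈ vertexZ 2 μ →
      e * (ζ * t) = ζ * (e * t) := fun {e ζ t} he hζ => by
    rw [← mul_assoc, h.central μ hμ e he ζ hζ, mul_assoc]
  obtain ⟨ζa, hζa, eqa⟩ := img hW.adja hW.adja hW.mema.1 hW.mema.2 hga hW.mema.1 hW.mema.2
  have hgb' := h.adj_smul_self hg hW.adjb
  have hgc' := h.adj_smul_self hg hW.adjc
  have nb_a : g • b ≠ a := fun e => hW.nab (MulAction.injective g (hga.trans e.symm))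
  have nc_a : g • c ≠ a := fun e => hW.nac (MulAction.injective g (hga.trans e.symm))
  have nbc' : g • b ≠ g • c := fun e => hW.nbc (MulAction.injective g e)
  have e0 : g * (ea * eb * ec) * g⁻¹ = g * ea * g⁻¹ * (g * eb * g⁻¹) * (g * ec * g⁻¹) := by group
  rcases h.nbr_three hW.adja hW.adjb hW.adjc hW.nab hW.nac hW.nbc hgb' with e | e | e
  · exact absurd e nb_a
  · have e' : g • c = c := by
      rcases h.nbr_three hW.adja hW.adjb hW.adjc hW.nab hW.nac hW.nbc hgc' with e' | e' | e'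
      · exact absurd e' nc_a
      · exact absurd (e.trans e'.symm) nbc'
      · exact e'
    obtain ⟨ζb, hζb, eqb⟩ := img hW.adjb hW.adjb hW.memb.1 hW.memb.2 e hW.memb.1 hW.memb.2
    obtain ⟨ζc, hζc, eqc⟩ := img hW.adjc hW.adjc hW.memc.1 hW.memc.2 e' hW.memc.1 hW.memc.2
    have e1 : g * (ea * eb * ec) * g⁻¹ = ζa * ζb * ζc * (ea * eb * ec) := by
      rw [e0, eqa, eqb, eqc]
      simp only [mul_assoc, cen (stu hW.adja hW.mema.1) hζb, cen (stu hW.adjb hW.memb.1) hζc,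
        cen (stu hW.adja hW.mema.1) hζc]
    rw [e1, mul_inv_cancel_right]
    exact mul_mem (mul_mem hζa hζb) hζc
  · have e' : g • c = b := by
      rcases h.nbr_three hW.adja hW.adjb hW.adjc hW.nab hW.nac hW.nbc hgc' with e' | e' | e'
      · exact absurd e' nc_a
      · exact e'
      · exact absurd (e.trans e'.symm) nbc'
    obtain ⟨ζb, hζb, eqb⟩ := img hW.adjb hW.adjc hW.memb.1 hW.memb.2 e hW.memc.1 hW.memc.2
    obtain ⟨ζc, hζc, eqc⟩ := img hW.adjc hW.adjb hW.memc.1 hW.memc.2 e' hW.memb.1 hW.memb.2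
    have hcb := h.two_comm hmin hc hμ hW.adjc hW.adjb hW.nbc.symm hW.memc.1 hW.memc.2 hW.memb.1
      hW.memb.2 hr hr1
    have e1 : g * (ea * eb * ec) * g⁻¹ = ζa * ζb * ζc * r * (ea * eb * ec) := by
      rw [e0, eqa, eqb, eqc]
      simp only [mul_assoc, cen (stu hW.adja hW.mema.1) hζb, cen (stu hW.adjc hW.memc.1) hζc,
        cen (stu hW.adja hW.mema.1) hζc, hcb, cen (stu hW.adja hW.mema.1) hr]
    rw [e1, mul_inv_cancel_right]
    exact mul_mem (mul_mem (mul_mem hζa hζb) hζc) hr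

theorem IsWElt_conj {w : G} (hw : IsWElt μ a w) (g : G) :
    IsWElt (g • μ) (g • a) (g * w * g⁻¹) := by
  obtain ⟨b, c, ea, eb, ec, hW, rfl⟩ := hw
  have out : ∀ {e : G}, e ∉ vertexZ 2 μ → g * e * g⁻¹ ∉ vertexZ 2 (g • μ) := fun {e} he hh => he (by
    have := h.conj_mem_Z g⁻¹ hh
    rwa [inv_smul_smul, show g⁻¹ * (g * e * g⁻¹) * g⁻¹⁻¹ = e by group] at this)
  exact ⟨g • b, g • c, g * ea * g⁻¹, g * eb * g⁻¹, g * ec * g⁻¹,
    ⟨adj_smul g hW.adja, adj_smul g hW.adjb, adj_smul g hW.adjc,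
      fun e => hW.nab (MulAction.injective g e), fun e => hW.nac (MulAction.injective g e),
      fun e => hW.nbc (MulAction.injective g e),
      ⟨h.conj_mem_Z g hW.mema.1, out hW.mema.2⟩, ⟨h.conj_mem_Z g hW.memb.1, out hW.memb.2⟩,
      ⟨h.conj_mem_Z g hW.memc.1, out hW.memc.2⟩⟩, by group⟩

theorem sq_mem_Kc (hmin : MinDist P₁ P₂ 2) (hn : ¬ IsA n) {q : G} (hq : q ∈ vertexQ 2 n) :
    q * q ∈ Kc n := by
  refine mem_Kc.2 ⟨mul_mem hq hq, fun y hy => mul_inv_eq_iff_eq_mul.1 ?_⟩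
  have hζ := h.comm_V_Q hn hq hy
  set ζ := q * y * q⁻¹ * y⁻¹ with hζd
  have e1 : q * y * q⁻¹ = ζ * y := by rw [hζd]; group
  have e2 : q * ζ = ζ * q := h.central n hn q (h.Q_le_stab n hq) ζ hζ
  calc q * q * y * (q * q)⁻¹ = q * (q * y * q⁻¹) * q⁻¹ := by group
    _ = q * ζ * y * q⁻¹ := by rw [e1]; group
    _ = ζ * (q * y * q⁻¹) := by rw [e2]; group
    _ = y := by rw [e1, ← mul_assoc, h.Z_sq hζ, one_mul]

/-- `r_μ` does not centralise `V_n` for the two ends `μ`, `n` of a path `μ, a, n`. -/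
theorem two_ZB_notMem_Kc (hmin : MinDist P₁ P₂ 2) (hc : Crit 2 p) (hA : IsA a)
    (hn : (cosetGraph P₁ P₂).Adj a n) (hμ : (cosetGraph P₁ P₂).Adj a μ) (hμn : μ ≠ n)
    {r : G} (hr : r ∈ vertexZ 2 μ) (hr1 : r ≠ 1) : r ∉ Kc n := by
  intro hh
  have hB := (adj_isA hn).1 hA
  obtain ⟨b, hb, hba⟩ := h.exists_other hn.symm
  obtain ⟨z, hz, hzn⟩ := h.exists_ZA hB hb
  have hrn : r ∉ vertexZ 2 n := fun e => hr1 (h.ZB_inter hA hμ hn hμn hr e)
  exact hrn (h.mem_ZB_of_comm_swap hn (h.ZB_le hA hμ hr) (h.two_edge hmin hB hb hn.symm hz)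
    (h.two_notMem_Q hmin hc hB hb hn.symm hba hz hzn)
    (((mem_Kc.1 hh).2 z (Z_le_V hb hz))).symm)

theorem two_W_mem (hmin : MinDist P₁ P₂ 2) (hc : Crit 2 p) (hA : IsA a)
    (hn : (cosetGraph P₁ P₂).Adj a n) (hμ : (cosetGraph P₁ P₂).Adj a μ) (hμn : μ ≠ n) {w : G}
    (hw : IsWElt μ a w) :
    w ∈ edgeStabilizer a n ∧ w ∈ vertexQ 2 a ∧ w ∉ vertexQ 2 n ∧
      ∀ y ∈ Kc n, w * y = y * w := by
  have hB := (adj_isA hn).1 hA
  have hBμ := (adj_isA hμ).1 hA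
  obtain ⟨b, c, ea, eb, ec, hW, rfl⟩ := hw
  obtain ⟨r, hr, hr1⟩ := h.exists_ZB μ
  obtain ⟨hsq, hcent⟩ := h.W_facts hmin hc hBμ hW hr hr1
  set w := ea * eb * ec
  have hwQ : w ∈ vertexQ 2 a := h.cent a hA w
    (h.Q_fix (h.V_le_Q le_rfl hmin hBμ (h.W_mem_V hW)) hW.adja)
    fun z hz => hcent z (Z_le_V hW.adja hz)
  have hwe : w ∈ edgeStabilizer a n := h.Q_le_edge hn hwQ
  refine ⟨hwe, hwQ, fun hwn => ?_, fun y hy => ?_⟩
  · exact h.two_ZB_notMem_Kc hmin hc hA hn hμ hμn hr hr1 (hsq ▸ h.sq_mem_Kc hmin hB hwn)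
  have hyn := mem_Kc.1 hy
  have hyQ : y ∈ vertexQ 2 a := h.cent a hA y (h.Q_fix hyn.1 hn.symm)
    fun z hz => hyn.2 z (Z_le_V hn.symm hz)
  have hyμ := h.Q_fix hyQ hμ
  have hz := h.W_conj hmin hc hBμ hW hyμ (MulAction.mem_stabilizer_iff.1 (h.Q_le_stab a hyQ))
  have hK : y * w * y⁻¹ * w⁻¹ ∈ Kc n := by
    rw [show y * w * y⁻¹ * w⁻¹ = y * (w * y⁻¹ * w⁻¹) by group]
    exact mul_mem hy (conj_mem_of_mem_normalizer (h.Kc_normal n hwe.2) (inv_mem hy))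
  have h1 : y * w * y⁻¹ * w⁻¹ = 1 := by
    by_contra hne
    exact h.two_ZB_notMem_Kc hmin hc hA hn hμ hμn hz hne hK
  exact (mul_inv_eq_iff_eq_mul.1 (mul_inv_eq_one.1 h1)).symm

/-- A subgroup of `K_n` normalised by the edge group is normalised by `G_n`. -/
theorem two_normalizer (hmin : MinDist P₁ P₂ 2) (hc : Crit 2 p) (hA : IsA a)
    (hn : (cosetGraph P₁ P₂).Adj a n) {N : Subgroup G} (hN : N ≤ Kc n)
    (hedge : edgeStabilizer a n ≤ Subgroup.normalizer (N : Set G)) :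
    MulAction.stabilizer G n ≤ Subgroup.normalizer (N : Set G) := by
  have hB := (adj_isA hn).1 hA
  obtain ⟨μ, hμ, hμn⟩ := h.exists_other hn
  obtain ⟨w, hw⟩ := h.exists_W ((adj_isA hμ).1 hA) hμ.symm
  obtain ⟨hwe, -, hwn, hwc⟩ := h.two_W_mem hmin hc hA hn hμ hμn hw
  obtain ⟨b, hb, hba⟩ := h.exists_other hn.symm
  obtain ⟨x, hx, hxa⟩ := exists_smul_neighbour hn.symm hb
  set w' := x * w * x⁻¹ with hw'
  have hwe' : w' ∈ edgeStabilizer n b := by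
    have e1 := conj_mem_stab x hwe.2
    have e2 := conj_mem_stab x hwe.1
    rw [MulAction.mem_stabilizer_iff.1 hx] at e1
    rw [hxa] at e2
    exact ⟨e1, e2⟩
  have hwn' : w' ∉ vertexQ 2 n := fun hh => hwn (by
    have := h.normalizer_Q n (inv_mem hx) hh
    rwa [hw', show x⁻¹ * (x * w * x⁻¹) * x⁻¹⁻¹ = w by group] at this)
  refine h.stab_le_of hn.symm ((edge_comm n a).le.trans hedge) hwe'.1
    (h.moves hb hn.symm hba hwe' hwn') ?_
  refine Subgroup.centralizer_le_normalizer _ (Subgroup.mem_centralizer_iff.2 fun y hy => ?_)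
  have hy' := conj_mem_of_mem_normalizer (h.Kc_normal n (inv_mem hx)) (hN hy)
  have e := hwc _ hy'
  rw [hw']
  calc y * (x * w * x⁻¹) = x * (x⁻¹ * y * x⁻¹⁻¹ * w) * x⁻¹ := by group
    _ = x * (w * (x⁻¹ * y * x⁻¹⁻¹)) * x⁻¹ := by rw [e]
    _ = x * w * x⁻¹ * y := by group

/-- The elements of `Q_a` in all neighbouring cores centralising all `w`'s. -/
def F (_h : Hyp P₁ P₂) (a : CosetVertex P₁ P₂) : Subgroup G where
  carrier := {x | x ∈ vertexQ 2 a ∧ ∀ μ, (cosetGraph P₁ P₂).Adj a μ →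
    x ∈ vertexQ 2 μ ∧ ∀ w, IsWElt μ a w → x * w = w * x}
  one_mem' := ⟨one_mem _, fun μ _ => ⟨one_mem _, fun w _ => by rw [one_mul, mul_one]⟩⟩
  mul_mem' := fun {x y} hx hy => ⟨mul_mem hx.1 hy.1, fun μ hμ => ⟨mul_mem (hx.2 μ hμ).1 (hy.2 μ hμ).1,
    fun w hw => by rw [mul_assoc, (hy.2 μ hμ).2 w hw, ← mul_assoc, (hx.2 μ hμ).2 w hw, mul_assoc]⟩⟩
  inv_mem' := fun {x} hx => ⟨inv_mem hx.1, fun μ hμ => ⟨inv_mem (hx.2 μ hμ).1,
    fun w hw => (Commute.inv_left ((hx.2 μ hμ).2 w hw)).eq⟩⟩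

theorem F_normal (a : CosetVertex P₁ P₂) :
    MulAction.stabilizer G a ≤ Subgroup.normalizer (h.F a : Set G) := fun g hg => by
  haveI := h.finite_Q a
  haveI : Finite (h.F a) :=
    Finite.of_injective _ (Subgroup.inclusion_injective (fun x hx => hx.1 : h.F a ≤ vertexQ 2 a))
  refine mem_normalizer_of_conj fun x hx => ⟨h.normalizer_Q a hg hx.1, fun μ hμ => ?_⟩
  obtain ⟨h1, h2⟩ := hx.2 (g⁻¹ • μ) (h.adj_smul_self (inv_mem hg) hμ)
  refine ⟨by simpa using conj_mem_Q g h1, fun w hw => ?_⟩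
  have hw' := h.IsWElt_conj hw g⁻¹
  rw [MulAction.mem_stabilizer_iff.1 (inv_mem hg)] at hw'
  have e := h2 _ hw'
  calc g * x * g⁻¹ * w = g * (x * (g⁻¹ * w * g⁻¹⁻¹)) * g⁻¹ := by group
    _ = g * (g⁻¹ * w * g⁻¹⁻¹ * x) * g⁻¹ := by rw [e]
    _ = w * (g * x * g⁻¹) := by group

theorem F_bits (hmin : MinDist P₁ P₂ 2) (hc : Crit 2 p) (hA : IsA a)
    (hn : (cosetGraph P₁ P₂).Adj a n) (hμ : (cosetGraph P₁ P₂).Adj a μ) (hμn : μ ≠ n)
    {r : G} (hr : r ∈ vertexZ 2 n) (hr1 : r ≠ 1) (hx : x ∈ h.F a) :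
    x ∈ Kc μ ∨ x * r ∈ Kc μ := by
  have hBμ := (adj_isA hμ).1 hA
  obtain ⟨w, b, c, ea, eb, ec, hW, rfl⟩ := h.exists_W hBμ hμ.symm
  obtain ⟨hxμ, hxw⟩ := hx.2 μ hμ
  have hxw' := hxw _ ⟨b, c, ea, eb, ec, hW, rfl⟩
  have hrZ : r ∈ vertexZ 2 a := h.ZB_le hA hn hr
  have hrμ : r ∉ vertexZ 2 μ := fun e => hr1 (h.ZB_inter hA hn hμ hμn.symm hr e)
  obtain ⟨rμ, hrμ', hrμ1⟩ := h.exists_ZB μ
  have hrw := ((h.W_facts hmin hc hBμ hW hrμ' hrμ1).2 r (Z_le_V hμ.symm hrZ)).symm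
  -- an element of `Q_a ⊓ Q_μ` commuting with `w` and `eb` centralises `V_μ`
  have key : ∀ y, y ∈ vertexQ 2 a → y ∈ vertexQ 2 μ →
      y * (ea * eb * ec) = ea * eb * ec * y → y * eb = eb * y → y ∈ Kc μ := by
    intro y hya hyμ hyw hyb
    refine mem_Kc.2 ⟨hyμ, fun v hv => h.comm_V (fun u hu z hz => ?_) hv⟩
    have hye : Commute y eb := hyb
    have hyea : Commute y ea := h.Q_comm_Z hya hW.mema.1
    have hyec : Commute y ec := by
      have := ((hye.inv_right.mul_right hyea.inv_right).mul_right hyw)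
      rwa [show eb⁻¹ * ea⁻¹ * (ea * eb * ec) = ec by group] at this
    by_cases hzμ : z ∈ vertexZ 2 μ
    · exact h.central μ hBμ y (h.Q_le_stab μ hyμ) z hzμ
    have fin : ∀ {e : G}, e ∈ vertexZ 2 u → e ∉ vertexZ 2 μ → Commute y e → y * z = z * y := by
      intro e he heμ hce
      have hez := h.two_small hmin hc u μ (h.isA_of_adj hBμ hu) hu.symm e he z hz heμ hzμ
      have := hce.inv_right.mul_right
        (h.central μ hBμ y (h.Q_le_stab μ hyμ) _ hez : Commute y (e * z))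
      rwa [show e⁻¹ * (e * z) = z by group] at this
    rcases h.nbr_three hW.adja hW.adjb hW.adjc hW.nab hW.nac hW.nbc hu with e | e | e <;> subst e
    · exact fin hW.mema.1 hW.mema.2 hyea
    · exact fin hW.memb.1 hW.memb.2 hye
    · exact fin hW.memc.1 hW.memc.2 hyec
  have hebe : eb ∈ edgeStabilizer a μ := h.two_edge hmin hBμ hW.adjb hμ.symm hW.memb.1
  have hebQ : eb ∉ vertexQ 2 a :=
    h.two_notMem_Q hmin hc hBμ hW.adjb hμ.symm hW.nab.symm hW.memb.1 hW.memb.2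
  by_cases hxb : x * eb = eb * x
  · exact Or.inl (key x hx.1 hxμ hxw' hxb)
  right
  refine key (x * r) (mul_mem hx.1 (h.Z_le_Q a hrZ))
    (mul_mem hxμ (hmin a μ hA (by rw [h.dist_adj hμ]; omega) hrZ))
    (by rw [mul_assoc, hrw, ← mul_assoc, hxw', mul_assoc]) ?_
  -- both `x` and `r` conjugate `eb` to `r_μ eb`
  have hs := h.two_small hmin hc
  have e1 := h.ZB_unique hs hBμ (h.comm_mem_ZB hμ hrZ hebe) hrμ'
    (h.comm_ne_one hμ hrZ hrμ hebe hebQ) hrμ1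
  have e2 : x * eb * x⁻¹ * eb = rμ := by
    have := h.comm_V_Q hBμ hxμ (Z_le_V hW.adjb hW.memb.1)
    rw [h.Z_inv hW.memb.1] at this
    refine h.ZB_unique hs hBμ this hrμ' (fun e => hxb ?_) hrμ1
    exact mul_inv_eq_iff_eq_mul.1 (mul_eq_one_iff_eq_inv.1 e |>.trans (h.Z_inv hW.memb.1))
  have hrμc : x * rμ = rμ * x := h.central μ hBμ x (h.Q_le_stab μ hxμ) rμ hrμ'
  have e3 : r * eb * r = rμ * eb := by
    rw [← e1, h.Z_inv hW.memb.1]
    calc r * eb * r = r * eb * r * (eb * eb) := by rw [h.Z_sq hW.memb.1, mul_one]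
      _ = r * (eb * r * eb) * eb := by simp only [mul_assoc]
  have e4 : x * r * eb * (x * r)⁻¹ = eb := by
    calc x * r * eb * (x * r)⁻¹ = x * (r * eb * r) * x⁻¹ := by
          rw [mul_inv_rev, h.Z_inv hrZ]; simp only [mul_assoc]
      _ = rμ * (x * eb * x⁻¹) := by rw [e3, ← mul_assoc x rμ, hrμc]; simp only [mul_assoc]
      _ = rμ * (rμ * eb) := by
          nth_rewrite 3 [← e2]
          rw [mul_assoc (x * eb * x⁻¹) eb, h.Z_sq hW.memb.1, mul_one]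
      _ = eb := by rw [← mul_assoc, h.Z_sq hrμ', one_mul]
  exact mul_inv_eq_iff_eq_mul.1 e4

theorem two_F_le (hmin : MinDist P₁ P₂ 2) (hc : Crit 2 p) (hA : IsA a) :
    h.F a ≤ vertexZ 2 a := by
  obtain ⟨n, hn⟩ := exists_adj a
  -- the intersection of the `K`'s around `a` is trivial
  have hC : ∀ y ∈ vertexQ 2 a, (∀ μ, (cosetGraph P₁ P₂).Adj a μ → y ∈ Kc μ) → y = 1 := by
    intro y hya hy
    let N : Subgroup G := vertexQ 2 a ⊓
      ⨅ μ : {μ : CosetVertex P₁ P₂ // (cosetGraph P₁ P₂).Adj a μ}, Kc (μ : CosetVertex P₁ P₂)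
    have hN : ∀ {z : G}, z ∈ N ↔
        z ∈ vertexQ 2 a ∧ ∀ μ, (cosetGraph P₁ P₂).Adj a μ → z ∈ Kc μ := fun {z} => by
      simp only [N, Subgroup.mem_inf, Subgroup.mem_iInf]
      exact ⟨fun hh => ⟨hh.1, fun μ hμ => hh.2 ⟨μ, hμ⟩⟩, fun hh => ⟨hh.1, fun μ => hh.2 μ.1 μ.2⟩⟩
    have hNe : N ≤ edgeStabilizer a n := inf_le_left.trans (h.Q_le_edge hn)
    haveI := h.finite_le_edge hNe
    have hnorm : MulAction.stabilizer G a ≤ Subgroup.normalizer (N : Set G) := fun g hg => by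
      refine mem_normalizer_of_conj fun z hz => hN.2 ⟨h.normalizer_Q a hg (hN.1 hz).1,
        fun μ hμ => mem_Kc.2 ⟨?_, fun v hv => ?_⟩⟩
      · simpa using conj_mem_Q g
          (mem_Kc.1 ((hN.1 hz).2 (g⁻¹ • μ) (h.adj_smul_self (inv_mem hg) hμ))).1
      have e := (mem_Kc.1 ((hN.1 hz).2 (g⁻¹ • μ) (h.adj_smul_self (inv_mem hg) hμ))).2 _
        (h.conj_mem_V g⁻¹ hv)
      calc g * z * g⁻¹ * v = g * (z * (g⁻¹ * v * g⁻¹⁻¹)) * g⁻¹ := by group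
        _ = g * (g⁻¹ * v * g⁻¹⁻¹ * z) * g⁻¹ := by rw [e]
        _ = v * (g * z * g⁻¹) := by group
    exact Subgroup.mem_bot.1 ((h.eq_bot_of_norm hn hNe hnorm (h.two_normalizer hmin hc hA hn
      (fun z hz => (hN.1 hz).2 n hn) (fun e he => hnorm he.1))).le (hN.2 ⟨hya, hy⟩))
  have hF : ∀ {y : G}, y ∈ h.F a → y ∈ vertexQ 2 a := fun hy => hy.1
  have bits : ∀ {y z : G}, y ∈ h.F a → z ∈ h.F a → ∀ μ, (cosetGraph P₁ P₂).Adj a μ →
      (y ∈ Kc μ ↔ z ∈ Kc μ) → y * z ∈ Kc μ := by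
    intro y z hy hz μ hμ hiff
    obtain ⟨m, hm, hmμ⟩ := h.exists_other hμ
    obtain ⟨r, hr, hr1⟩ := h.exists_ZB m
    by_cases hyK : y ∈ Kc μ
    · exact mul_mem hyK (hiff.1 hyK)
    have h1 := (h.F_bits hmin hc hA hm hμ hmμ.symm hr hr1 hy).resolve_left hyK
    have h2 := (h.F_bits hmin hc hA hm hμ hmμ.symm hr hr1 hz).resolve_left (fun e => hyK (hiff.2 e))
    have := mul_mem h1 h2
    rwa [mul_assoc, ← mul_assoc r z, ← h.Q_comm_Z (hF hz) (h.ZB_le hA hm hr), mul_assoc z r,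
      h.Z_sq hr, mul_one] at this
  refine h.le_Z_of_centralized hA (h.F a) (fun y hy => hF hy) (h.F_normal a) (fun q hq y hy => ?_)
    (fun y hy => hC _ (mul_mem (hF hy) (hF hy)) fun μ hμ => bits hy hy μ hμ Iff.rfl)
  have hy' : q * y * q⁻¹ ∈ h.F a :=
    conj_mem_of_mem_normalizer (h.F_normal a (h.Q_le_stab a hq)) hy
  have h1 : q * y * q⁻¹ * y⁻¹ = 1 := by
    refine hC _ (mul_mem (hF hy') (inv_mem (hF hy))) fun μ hμ => bits hy' (inv_mem hy) μ hμ ?_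
    rw [inv_mem_iff]
    have hqμ := h.Q_fix hq hμ
    refine ⟨fun e => ?_, fun e => conj_mem_of_mem_normalizer (h.Kc_normal μ hqμ) e⟩
    have := conj_mem_of_mem_normalizer (h.Kc_normal μ (inv_mem hqμ)) e
    rwa [show q⁻¹ * (q * y * q⁻¹) * q⁻¹⁻¹ = y by group] at this
  exact mul_inv_eq_iff_eq_mul.1 (mul_inv_eq_one.1 h1)

theorem two_bound (hmin : MinDist P₁ P₂ 2) (hc : Crit 2 p) : Nat.card ↥(P₁ ⊓ P₂) ≤ 2 ^ 7 := by
  have h01 := hc.adj 0 (by omega)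
  set a := p 0
  set n := p 1
  have hA : IsA a := hc.isA
  have hB : ¬ IsA n := (adj_isA h01).1 hA
  obtain ⟨μ, hμ, hμn⟩ := h.exists_other h01
  obtain ⟨μ', hμ', hnμ', hμμ'⟩ := h.third h01 hμ hμn.symm
  obtain ⟨b, hb, hba⟩ := h.exists_other h01.symm
  obtain ⟨c, hcn, hac, hbc⟩ := h.third h01.symm hb hba.symm
  haveI := h.finite_Q n
  have fin : ∀ {H : Subgroup G}, H ≤ vertexQ 2 n → Finite H := fun hH =>
    Finite.of_injective _ (Subgroup.inclusion_injective hH)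
  -- `|Q_n| ≤ 8 |K_n|`
  have s1 : ∀ {v}, (cosetGraph P₁ P₂).Adj n v → ∀ (H : Subgroup G), H ≤ vertexQ 2 n →
      ∀ x ∈ H, ∀ y ∈ H, x ∉ vertexQ 2 v → y ∉ vertexQ 2 v → x * y ∈ vertexQ 2 v :=
    fun {v} hv H hH x hx y hy h1 h2 => h.mul_mem_Q hv.symm
      ⟨h.Q_fix (hH hx) hv, h.Q_le_stab n (hH hx)⟩ ⟨h.Q_fix (hH hy) hv, h.Q_le_stab n (hH hy)⟩ h1 h2
  have a1 := card_le_two_mul (vertexQ 2 n) (vertexQ 2 a) (s1 h01.symm _ le_rfl)
  haveI := fin (inf_le_left : vertexQ 2 n ⊓ vertexQ 2 a ≤ _)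
  have a2 := card_le_two_mul (vertexQ 2 n ⊓ vertexQ 2 a) (vertexQ 2 b) (s1 hb _ inf_le_left)
  haveI := fin (inf_le_left.trans inf_le_left :
    vertexQ 2 n ⊓ vertexQ 2 a ⊓ vertexQ 2 b ≤ vertexQ 2 n)
  have a3 := card_le_two_mul (vertexQ 2 n ⊓ vertexQ 2 a ⊓ vertexQ 2 b) (vertexQ 2 c)
    (s1 hcn _ (inf_le_left.trans inf_le_left))
  haveI : Finite (Kc n) := fin inf_le_left
  have a4 : Nat.card ↥(vertexQ 2 n ⊓ vertexQ 2 a ⊓ vertexQ 2 b ⊓ vertexQ 2 c) ≤ Nat.card (Kc n) :=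
    Subgroup.card_le_of_le (h.Q_inter_le_Kc h01.symm hb hcn hba.symm hac hbc)
  -- `|K_n| ≤ 8`
  have hKQ : Kc n ≤ vertexQ 2 a := fun y hy => h.cent a hA y (h.Q_fix (mem_Kc.1 hy).1 h01.symm)
    fun z hz => (mem_Kc.1 hy).2 z (Z_le_V h01.symm hz)
  have s2 : ∀ {v}, (cosetGraph P₁ P₂).Adj a v → ∀ (H : Subgroup G), H ≤ Kc n →
      ∀ x ∈ H, ∀ y ∈ H, x ∉ vertexQ 2 v → y ∉ vertexQ 2 v → x * y ∈ vertexQ 2 v :=
    fun {v} hv H hH x hx y hy h1 h2 => h.mul_mem_Q hv.symm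
      ⟨h.Q_fix (hKQ (hH hx)) hv, h.Q_le_stab a (hKQ (hH hx))⟩
      ⟨h.Q_fix (hKQ (hH hy)) hv, h.Q_le_stab a (hKQ (hH hy))⟩ h1 h2
  have b1 := card_le_two_mul (Kc n) (vertexQ 2 μ) (s2 hμ _ le_rfl)
  haveI := fin (inf_le_left.trans inf_le_left : Kc n ⊓ vertexQ 2 μ ≤ vertexQ 2 n)
  have b2 := card_le_two_mul (Kc n ⊓ vertexQ 2 μ) (vertexQ 2 μ') (s2 hμ' _ inf_le_left)
  have hle : ∀ y ∈ Kc n ⊓ vertexQ 2 μ ⊓ vertexQ 2 μ', y ∈ vertexZ 2 n := by
    rintro y ⟨⟨hyK, hyμ⟩, hyμ'⟩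
    have hyF : y ∈ h.F a := by
      refine ⟨hKQ hyK, fun v hv => ⟨?_, fun w hw => ?_⟩⟩
      · rcases h.nbr_three h01 hμ hμ' hμn.symm hnμ' hμμ' hv with e | e | e <;> subst e
        exacts [(mem_Kc.1 hyK).1, hyμ, hyμ']
      by_cases hvn : v = n
      · subst hvn
        obtain ⟨b', c', ea, eb, ec, hW, rfl⟩ := hw
        exact (mem_Kc.1 hyK).2 _ (h.W_mem_V hW)
      · exact ((h.two_W_mem hmin hc hA h01 hv hvn hw).2.2.2 y hyK).symm
    have hyZ := h.two_F_le hmin hc hA hyF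
    by_contra hyn
    obtain ⟨r, hr, hr1⟩ := h.exists_ZB μ
    have hrn : r ∉ vertexZ 2 n := fun e => hr1 (h.ZB_inter hA hμ h01 hμn hr e)
    have hyr := h.two_small hmin hc a n hA h01 y hyZ r (h.ZB_le hA hμ hr) hyn hrn
    have hnK : ∀ z ∈ vertexZ 2 n, z ∈ Kc n := fun z hz => mem_Kc.2
      ⟨h.Z_le_Q n hz, fun v hv => (h.central n hB v (h.Q_le_stab n
        (h.V_le_Q le_rfl hmin hB hv)) z hz).symm⟩
    have := (Kc n).mul_mem ((Kc n).inv_mem hyK) (hnK _ hyr)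
    rw [inv_mul_cancel_left] at this
    exact h.two_ZB_notMem_Kc hmin hc hA h01 hμ hμn hr hr1 this
  haveI : Finite (vertexZ 2 n) := fin (h.Z_le_Q n)
  have b3 := Subgroup.card_le_of_le (show Kc n ⊓ vertexQ 2 μ ⊓ vertexQ 2 μ' ≤ vertexZ 2 n from hle)
  have b4 : Nat.card (vertexZ 2 n) ≤ 2 := by
    classical
    refine le_of_le_of_eq (Nat.card_le_card_of_injective
      (fun z : vertexZ 2 n => decide ((z : G) = 1)) ?_) (by rw [Nat.card_eq_fintype_card, Fintype.card_bool])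
    intro z z' e
    simp only [decide_eq_decide] at e
    by_cases hz : (z : G) = 1
    · exact Subtype.ext (hz.trans (e.1 hz).symm)
    · exact Subtype.ext (h.ZB_unique (h.two_small hmin hc) hB z.2 z'.2 hz (fun q => hz (e.2 q)))
  rw [← h.card_edge_eq_base hA h01, edge_comm, h.card_edge h01.symm]
  omega

end Hyp

end CfsgLib.LocalEven49.Goldschmidt
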