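import Cfsg.Agent.LocalEven49.Goldschmidt.Fixed

/-!
Critical walks, the subgroups `V`, and transitivity on walks.
-/

set_option autoImplicit false
set_option linter.style.haveILetI false
set_option linter.unusedSectionVars false

namespace CfsgLib.LocalEven49.Goldschmidt

open Cfsg CfsgLib.LocalEven CfsgLib.LocalEven48.Amalgam
open CfsgLib.LocalEven48.S3Amalgam (conj_mem_stab conj_mem_Q)

variable {G : Type*} [Group G] {P₁ P₂ : Subgroup G}

/-- `V_n`: the subgroup generated by the `Z` of the neighbours. -/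
def V (n : CosetVertex P₁ P₂) : Subgroup G :=
  ⨆ a : {a : CosetVertex P₁ P₂ // (cosetGraph P₁ P₂).Adj n a}, vertexZ 2 (a : CosetVertex P₁ P₂)

theorem Z_le_V {n a : CosetVertex P₁ P₂} (hn : (cosetGraph P₁ P₂).Adj n a) :
    vertexZ 2 a ≤ V n :=
  le_iSup (fun a : {a : CosetVertex P₁ P₂ // (cosetGraph P₁ P₂).Adj n a} =>
    vertexZ 2 (a : CosetVertex P₁ P₂)) ⟨a, hn⟩

theorem V_le {n : CosetVertex P₁ P₂} {C : Subgroup G}
    (hC : ∀ a, (cosetGraph P₁ P₂).Adj n a → vertexZ 2 a ≤ C) : V n ≤ C :=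
  iSup_le fun a => hC a.1 a.2

/-- `k` is at most the least distance from a vertex of type A to a vertex whose core misses its `Z`. -/
def MinDist (P₁ P₂ : Subgroup G) (k : ℕ) : Prop :=
  ∀ u w : CosetVertex P₁ P₂, IsA u → (cosetGraph P₁ P₂).dist u w < k →
    vertexZ 2 u ≤ vertexQ 2 w

/-- A walk of length `k` without backtracking. -/
structure IsWalk (k : ℕ) (p : ℕ → CosetVertex P₁ P₂) : Prop where
  adj : ∀ i, i < k → (cosetGraph P₁ P₂).Adj (p i) (p (i + 1))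
  nb : ∀ i, i + 2 ≤ k → p i ≠ p (i + 2)

/-- A critical walk of length `k`. -/
structure Crit (k : ℕ) (p : ℕ → CosetVertex P₁ P₂) : Prop where
  adj : ∀ i, i < k → (cosetGraph P₁ P₂).Adj (p i) (p (i + 1))
  isA : IsA (p 0)
  ne_le : ¬ vertexZ 2 (p 0) ≤ vertexQ 2 (p k)

/-- Any two walks of length `k` from vertices of the same type are conjugate. -/
def Transitive (P₁ P₂ : Subgroup G) (k : ℕ) : Prop :=
  ∀ p q : ℕ → CosetVertex P₁ P₂, IsWalk k p → IsWalk k q → (IsA (p 0) ↔ IsA (q 0)) →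
    ∃ g : G, ∀ i ≤ k, g • p i = q i

/-- A walk of length `k` whose pointwise stabiliser moves beyond its end. -/
def HasMover (k : ℕ) (p : ℕ → CosetVertex P₁ P₂) : Prop :=
  ∃ m : G, (∀ i ≤ k, m • p i = p i) ∧ m ∉ vertexQ 2 (p k)

theorem walk_isA {k : ℕ} {p : ℕ → CosetVertex P₁ P₂}
    (hp : ∀ i, i < k → (cosetGraph P₁ P₂).Adj (p i) (p (i + 1))) :
    ∀ i ≤ k, (IsA (p i) ↔ (IsA (p 0) ↔ Even i)) := by
  intro i hi
  induction i with
  | zero => simp
  | succ i ih =>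
    have h1 := ih (by omega)
    have h2 := adj_isA (hp i (by omega))
    rw [Nat.even_add_one]
    tauto

namespace Hyp

variable (h : Hyp P₁ P₂) {u v w a n m : CosetVertex P₁ P₂} {k : ℕ}
include h

theorem connected : (cosetGraph P₁ P₂).Connected := cosetGraph_connected h.pair.1.1

theorem dist_adj (hn : (cosetGraph P₁ P₂).Adj u v) : (cosetGraph P₁ P₂).dist u v = 1 :=
  SimpleGraph.dist_eq_one_iff_adj.2 hn

theorem dist_step (hn : (cosetGraph P₁ P₂).Adj v w) :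
    (cosetGraph P₁ P₂).dist u w ≤ (cosetGraph P₁ P₂).dist u v + 1 := by
  have := h.connected.dist_triangle (u := u) (v := v) (w := w)
  rw [h.dist_adj hn] at this
  exact this

theorem dist_step' (hn : (cosetGraph P₁ P₂).Adj u v) :
    (cosetGraph P₁ P₂).dist u w ≤ (cosetGraph P₁ P₂).dist v w + 1 := by
  have := h.connected.dist_triangle (u := u) (v := v) (w := w)
  rw [h.dist_adj hn] at this
  omega

theorem dist_walk {p : ℕ → CosetVertex P₁ P₂}
    (hp : ∀ i, i < k → (cosetGraph P₁ P₂).Adj (p i) (p (i + 1))) {i j : ℕ} (hij : i ≤ j)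
    (hj : j ≤ k) : (cosetGraph P₁ P₂).dist (p i) (p j) ≤ j - i := by
  induction j, hij using Nat.le_induction with
  | base => simp
  | succ j hij ih =>
    have := h.dist_step (u := p i) (hp j (by omega))
    have := ih (by omega)
    omega

theorem dist_walk' {p : ℕ → CosetVertex P₁ P₂}
    (hp : ∀ i, i < k → (cosetGraph P₁ P₂).Adj (p i) (p (i + 1))) {i j : ℕ} (hij : i ≤ j)
    (hj : j ≤ k) : (cosetGraph P₁ P₂).dist (p j) (p i) ≤ j - i := by
  rw [SimpleGraph.dist_comm]; exact h.dist_walk hp hij hj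

theorem smul_fix_Z {x : G} (hx : x ∈ vertexZ 2 v) : x • v = v :=
  MulAction.mem_stabilizer_iff.1 (h.Z_le_stab v hx)

/-! ### The critical distance -/

theorem Z_le_stab_of_dist (hk : 1 ≤ k) (hmin : MinDist P₁ P₂ k) (hu : IsA u)
    (hd : (cosetGraph P₁ P₂).dist u w ≤ k) : vertexZ 2 u ≤ MulAction.stabilizer G w := by
  obtain ⟨q, hq⟩ := h.connected.exists_walk_length_eq_dist w u
  cases q with
  | nil => exact h.Z_le_stab _
  | @cons _ x _ hwx q =>
    have := SimpleGraph.dist_le q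
    rw [SimpleGraph.Walk.length_cons, SimpleGraph.dist_comm] at hq
    rw [SimpleGraph.dist_comm] at this
    exact fun z hz => h.Q_fix (hmin u x hu (by omega) hz) hwx.symm

theorem Z_comm_of_dist (hmin : MinDist P₁ P₂ k) (hu : IsA u)
    (hd : (cosetGraph P₁ P₂).dist u w < k) {x y : G} (hx : x ∈ vertexZ 2 u)
    (hy : y ∈ vertexZ 2 w) : x * y = y * x :=
  h.Q_comm_Z (hmin u w hu hd hx) hy

theorem exists_crit :
    ∃ k, MinDist P₁ P₂ k ∧ ∃ p : ℕ → CosetVertex P₁ P₂, Crit k p := by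
  classical
  have hex : ∃ d, ∃ u w : CosetVertex P₁ P₂, IsA u ∧ (cosetGraph P₁ P₂).dist u w = d ∧
      ¬ vertexZ 2 u ≤ vertexQ 2 w := by
    by_contra hcon
    push Not at hcon
    set a : CosetVertex P₁ P₂ := Sum.inl ((1 : G) : G ⧸ P₁) with ha
    refine h.Z_ne_bot a (eq_bot_of_le_all_stabilizers h.pair.1.2.2.2 fun w => ?_)
    exact (hcon _ a w rfl rfl).trans (h.Q_le_stab w)
  obtain ⟨u, w, hu, hd, hno⟩ := Nat.find_spec hex
  refine ⟨Nat.find hex, fun x y hx hxy => ?_, ?_⟩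
  · by_contra hcon
    exact Nat.find_min hex hxy ⟨x, y, hx, rfl, hcon⟩
  obtain ⟨q, hq⟩ := h.connected.exists_walk_length_eq_dist u w
  refine ⟨q.getVert, fun i hi => q.adj_getVert_succ (by omega), ?_, ?_⟩
  · rwa [SimpleGraph.Walk.getVert_zero]
  · rw [SimpleGraph.Walk.getVert_zero, ← hd, ← hq, SimpleGraph.Walk.getVert_length]
    exact hno

theorem crit_nb (hmin : MinDist P₁ P₂ k) {p : ℕ → CosetVertex P₁ P₂} (hc : Crit k p) :
    IsWalk k p := by
  refine ⟨hc.adj, fun i hi e => hc.ne_le (hmin _ _ hc.isA ?_)⟩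
  have h1 := h.dist_walk hc.adj (Nat.zero_le i) (by omega)
  have h2 := h.dist_walk hc.adj (show i + 2 ≤ k from hi) le_rfl
  have h3 := h.connected.dist_triangle (u := p 0) (v := p i) (w := p k)
  rw [← e] at h2
  omega

theorem swap_eq (hn : (cosetGraph P₁ P₂).Adj v n) {x y : CosetVertex P₁ P₂}
    (hx : (cosetGraph P₁ P₂).Adj v x) (hy : (cosetGraph P₁ P₂).Adj v y) (hnx : n ≠ x)
    (hny : n ≠ y) (hxy : x ≠ y) {s : G} (hs : s ∈ edgeStabilizer v n) (hsQ : s ∉ vertexQ 2 v) :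
    s • x = y := by
  rcases h.neighbour_cases hn hx hnx hs hsQ hy with e | e | e
  · exact absurd e.symm hny
  · exact absurd e.symm hxy
  · exact e.symm

theorem two_le (hmin : MinDist P₁ P₂ k) {p : ℕ → CosetVertex P₁ P₂} (hc : Crit k p) :
    2 ≤ k := by
  by_contra hk
  interval_cases k
  · exact hc.ne_le (h.Z_le_Q _)
  have hadj : (cosetGraph P₁ P₂).Adj (p 0) (p 1) := hc.adj 0 one_pos
  have hB := (adj_isA hadj).1 hc.isA
  set n := p 1
  obtain ⟨t, ht, htQ⟩ := SetLike.not_le_iff_exists.1 hc.ne_le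
  obtain ⟨a', ha', hne⟩ := h.exists_other hadj.symm
  obtain ⟨x, hx, hxa⟩ := exists_smul_neighbour hadj.symm ha'
  have hte : t ∈ edgeStabilizer n (p 0) :=
    ⟨h.Q_fix (h.Z_le_Q _ ht) hadj, h.Z_le_stab _ ht⟩
  set t' := x * t * x⁻¹ with ht'
  have hte' : t' ∈ edgeStabilizer n a' := by
    have e1 := conj_mem_stab x hte.1
    have e2 := conj_mem_stab x hte.2
    rw [MulAction.mem_stabilizer_iff.1 hx] at e1
    rw [hxa] at e2
    exact ⟨e1, e2⟩
  have htQ' : t' ∉ vertexQ 2 n := fun hh => htQ (by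
    have := h.normalizer_Q n (inv_mem hx) hh
    rwa [ht', show x⁻¹ * (x * t * x⁻¹) * x⁻¹⁻¹ = t by group] at this)
  have hC : ∀ q ∈ vertexQ 2 n, t * q * t⁻¹ * q⁻¹ ∈ vertexZ 2 n := by
    intro q hq
    have := h.comm_mem_ZB hadj ht ⟨h.Q_fix hq hadj.symm, h.Q_le_stab n hq⟩
    have e : t⁻¹ = t := h.Z_inv ht
    rwa [show t * (q * t * q⁻¹) = t * q * t⁻¹ * q⁻¹ by rw [e]; group] at this
  have hC' : ∀ q ∈ vertexQ 2 n, t' * q * t'⁻¹ * q⁻¹ ∈ vertexZ 2 n := by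
    intro q hq
    have h1 := h.conj_mem_Z_self hx (hC _ (h.normalizer_Q n (inv_mem hx) hq))
    rwa [ht', show x * t * x⁻¹ * q * (x * t * x⁻¹)⁻¹ * q⁻¹ =
      x * (t * (x⁻¹ * q * x⁻¹⁻¹) * t⁻¹ * (x⁻¹ * q * x⁻¹⁻¹)⁻¹) * x⁻¹ by group]
  set g := t * t'
  have hg : g ∈ MulAction.stabilizer G n := mul_mem hte.1 hte'.1
  have hCg : ∀ q ∈ vertexQ 2 n, g * q * g⁻¹ * q⁻¹ ∈ vertexZ 2 n := by
    intro q hq
    have h1 := hC' q hq
    have h2 := hC _ (h.normalizer_Q n hte'.1 hq)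
    rw [show g * q * g⁻¹ * q⁻¹ = t * (t' * q * t'⁻¹) * t⁻¹ * (t' * q * t'⁻¹)⁻¹ *
      (t' * q * t'⁻¹ * q⁻¹) by simp only [g]; group]
    exact mul_mem h2 h1
  have hgg : g * g ∈ vertexQ 2 n := by
    refine vertex_charP h.pair n ⟨mul_mem hg hg, Subgroup.mem_centralizer_iff.2 fun q hq => ?_⟩
    have hz := hCg q hq
    set ζ := g * q * g⁻¹ * q⁻¹ with hζ
    have e1 : g * q * g⁻¹ = ζ * q := by rw [hζ]; group
    have e2 : g * g * q * (g * g)⁻¹ = q := by
      calc g * g * q * (g * g)⁻¹ = g * (g * q * g⁻¹) * g⁻¹ := by group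
        _ = g * (ζ * q) * g⁻¹ := by rw [e1]
        _ = g * ζ * g⁻¹ * (g * q * g⁻¹) := by group
        _ = ζ * (ζ * q) := by rw [h.central n hB g hg ζ hz, mul_inv_cancel_right, e1]
        _ = q := by rw [← mul_assoc, h.Z_sq hz, one_mul]
    exact (mul_inv_eq_iff_eq_mul.1 e2).symm
  obtain ⟨k3, g3, c⟩ := h.exists_cyc hadj.symm ha' hne.symm
  have e1 : t' • p 0 = k3 :=
    h.swap_eq ha' hadj.symm c.adj₃ hne c.ne₂₃ c.ne₁₃ hte' htQ'
  have e2 : t • k3 = a' :=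
    h.swap_eq hadj.symm c.adj₃ ha' c.ne₁₃ hne.symm c.ne₂₃.symm hte htQ
  have e3 : t • a' = k3 :=
    h.swap_eq hadj.symm ha' c.adj₃ hne.symm c.ne₁₃ c.ne₂₃ hte htQ
  have e4 : (g * g) • p 0 = k3 := by
    simp only [g, mul_smul, e1, e2, MulAction.mem_stabilizer_iff.1 hte'.2, e3]
  rw [MulAction.mem_stabilizer_iff.1 (h.Q_fix hgg hadj.symm)] at e4
  exact c.ne₁₃ e4

/-! ### The subgroups `V` -/

theorem conj_mem_V (g : G) {x : G} (hx : x ∈ V v) : g * x * g⁻¹ ∈ V (g • v) := by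
  have hle : V v ≤ (V (g • v)).comap (MulAut.conj g).toMonoidHom :=
    V_le fun a ha z hz => Z_le_V (adj_smul g ha) (h.conj_mem_Z g hz)
  exact hle hx

theorem conj_mem_V_self {g : G} (hg : g ∈ MulAction.stabilizer G v) {x : G} (hx : x ∈ V v) :
    g * x * g⁻¹ ∈ V v := by
  have := h.conj_mem_V g hx
  rwa [MulAction.mem_stabilizer_iff.1 hg] at this

theorem ZB_le_V (hn : ¬ IsA n) : vertexZ 2 n ≤ V n := by
  obtain ⟨a, ha⟩ := exists_adj n
  have hA : IsA a := by have := adj_isA ha; tauto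
  exact (h.ZB_le hA ha.symm).trans (Z_le_V ha)

theorem isA_of_adj (hn : ¬ IsA n) (ha : (cosetGraph P₁ P₂).Adj n a) : IsA a := by
  have := adj_isA ha
  tauto

theorem V_le_Q (h2 : 2 ≤ k) (hmin : MinDist P₁ P₂ k) (hn : ¬ IsA n) : V n ≤ vertexQ 2 n :=
  V_le fun a ha => hmin a n (h.isA_of_adj hn ha) (by rw [h.dist_adj ha.symm]; omega)

theorem V_le_edge (h2 : 2 ≤ k) (hmin : MinDist P₁ P₂ k) (hn : ¬ IsA n)
    (ha : (cosetGraph P₁ P₂).Adj n a) : V n ≤ edgeStabilizer n a :=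
  (h.V_le_Q h2 hmin hn).trans (h.Q_le_edge ha)

theorem V_normal (h2 : 2 ≤ k) (hmin : MinDist P₁ P₂ k) (hn : ¬ IsA n) :
    MulAction.stabilizer G n ≤ Subgroup.normalizer (V n : Set G) := fun g hg => by
  obtain ⟨a, ha⟩ := exists_adj n
  haveI := h.finite_le_edge (h.V_le_edge h2 hmin hn ha)
  exact mem_normalizer_of_conj fun x hx => h.conj_mem_V_self hg hx

theorem V_le_Q_of (hmin : MinDist P₁ P₂ k) (hn : ¬ IsA n)
    (hd : ∀ a, (cosetGraph P₁ P₂).Adj n a → (cosetGraph P₁ P₂).dist a w < k) :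
    V n ≤ vertexQ 2 w :=
  V_le fun a ha => hmin a w (h.isA_of_adj hn ha) (hd a ha)

theorem V_le_Q_of_dist (hmin : MinDist P₁ P₂ k) (hn : ¬ IsA n)
    (hd : (cosetGraph P₁ P₂).dist n w + 1 < k) : V n ≤ vertexQ 2 w :=
  h.V_le_Q_of hmin hn fun a ha => by
    have := h.dist_step' (w := w) ha.symm
    omega

theorem V_le_stab_of_dist (hk : 1 ≤ k) (hmin : MinDist P₁ P₂ k) (hn : ¬ IsA n)
    (hd : (cosetGraph P₁ P₂).dist n w + 1 ≤ k) : V n ≤ MulAction.stabilizer G w :=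
  V_le fun a ha => h.Z_le_stab_of_dist hk hmin (h.isA_of_adj hn ha) (by
    have := h.dist_step' (w := w) ha.symm
    omega)

theorem comm_V {x : G} (hx : ∀ a, (cosetGraph P₁ P₂).Adj n a →
    ∀ z ∈ vertexZ 2 a, x * z = z * x) {y : G} (hy : y ∈ V n) : x * y = y * x := by
  have hle : V n ≤ Subgroup.centralizer ({x} : Set G) :=
    V_le fun a ha z hz => Subgroup.mem_centralizer_singleton_iff.2 (hx a ha z hz).symm
  exact (Subgroup.mem_centralizer_singleton_iff.1 (hle hy)).symm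

theorem V_comm_Z (hmin : MinDist P₁ P₂ k) (hu : IsA u)
    (hd : (cosetGraph P₁ P₂).dist u n + 1 < k) {x y : G} (hx : x ∈ vertexZ 2 u) (hy : y ∈ V n) :
    x * y = y * x :=
  h.comm_V (fun a ha z hz => h.Z_comm_of_dist hmin hu (by
    have := h.dist_step (u := u) ha
    omega) hx hz) hy

theorem V_comm_V (hmin : MinDist P₁ P₂ k) (hn : ¬ IsA n)
    (hd : (cosetGraph P₁ P₂).dist n m + 2 < k) {x y : G} (hx : x ∈ V n) (hy : y ∈ V m) :
    x * y = y * x := by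
  refine (h.comm_V (fun a ha z hz => ?_) hx).symm
  refine (h.V_comm_Z hmin (h.isA_of_adj hn ha) ?_ hz hy).symm
  have := h.dist_step' (w := m) ha.symm
  omega

theorem V_comm (h3 : 3 ≤ k) (hmin : MinDist P₁ P₂ k) (hn : ¬ IsA n) {x y : G} (hx : x ∈ V n)
    (hy : y ∈ V n) : x * y = y * x :=
  h.V_comm_V hmin hn (by rw [SimpleGraph.dist_self]; omega) hx hy

theorem V_sq (h3 : 3 ≤ k) (hmin : MinDist P₁ P₂ k) (hn : ¬ IsA n) {x : G} (hx : x ∈ V n) :
    x * x = 1 := by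
  have key : x ∈ V n ∧ x * x = 1 := by
    refine Subgroup.iSup_induction _ (C := fun y => y ∈ V n ∧ y * y = 1) hx
      (fun a y hy => ⟨Z_le_V a.2 hy, h.Z_sq hy⟩) ⟨one_mem _, one_mul 1⟩
      (fun y z hy hz => ⟨mul_mem hy.1 hz.1, ?_⟩)
    rw [mul_assoc, ← mul_assoc z, h.V_comm h3 hmin hn hz.1 hy.1, mul_assoc y z, hz.2, mul_one,
      hy.2]
  exact key.2

theorem V_inv (h3 : 3 ≤ k) (hmin : MinDist P₁ P₂ k) (hn : ¬ IsA n) {x : G} (hx : x ∈ V n) :
    x⁻¹ = x := inv_eq_of_mul_eq_one_right (h.V_sq h3 hmin hn hx)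

theorem comm_V_Q (hn : ¬ IsA n) {q x : G} (hq : q ∈ vertexQ 2 n) (hx : x ∈ V n) :
    q * x * q⁻¹ * x⁻¹ ∈ vertexZ 2 n := by
  let K : Subgroup G :=
    { carrier := {y | y ∈ MulAction.stabilizer G n ∧ q * y * q⁻¹ * y⁻¹ ∈ vertexZ 2 n}
      one_mem' := ⟨one_mem _, by simp⟩
      mul_mem' := fun {y z} hy hz => ⟨mul_mem hy.1 hz.1, by
        rw [show q * (y * z) * q⁻¹ * (y * z)⁻¹ =
          q * y * q⁻¹ * y⁻¹ * (y * (q * z * q⁻¹ * z⁻¹) * y⁻¹) by group]
        exact mul_mem hy.2 (h.conj_mem_Z_self hy.1 hz.2)⟩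
      inv_mem' := fun {y} hy => ⟨inv_mem hy.1, by
        rw [show q * y⁻¹ * q⁻¹ * y⁻¹⁻¹ = y⁻¹ * (q * y * q⁻¹ * y⁻¹)⁻¹ * y⁻¹⁻¹ by group]
        exact h.conj_mem_Z_self (inv_mem hy.1) (inv_mem hy.2)⟩ }
  refine (V_le (C := K) fun a ha z hz => ⟨h.Q_fix (h.Z_le_Q a hz) ha.symm, ?_⟩) hx |>.2
  have := h.comm_mem_ZB ha.symm hz ⟨h.Q_fix hq ha, h.Q_le_stab n hq⟩
  rw [h.Z_inv hz]
  have e : q * z * q⁻¹ * z = z * (q * z * q⁻¹) :=
    h.Z_comm (h.conj_mem_Z_self (h.Q_fix hq ha) hz) hz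
  rw [e]; exact this

theorem ZA_not_le (hn : ¬ IsA n) (ha : (cosetGraph P₁ P₂).Adj n a) :
    ¬ vertexZ 2 a ≤ vertexZ 2 n := by
  intro hle
  refine h.Z_ne_bot a (h.eq_bot_of_norm ha.symm ((h.Z_le_Q a).trans (h.Q_le_edge ha.symm))
    (h.Z_normal a) fun g hg => ?_)
  refine Subgroup.centralizer_le_normalizer _ (Subgroup.mem_centralizer_iff.2 fun z hz => ?_)
  exact (h.central n hn g hg z (hle hz)).symm

theorem exists_ZA (hn : ¬ IsA n) (ha : (cosetGraph P₁ P₂).Adj n a) :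
    ∃ z ∈ vertexZ 2 a, z ∉ vertexZ 2 n :=
  SetLike.not_le_iff_exists.1 (h.ZA_not_le hn ha)

theorem Z_not_normal (ha : (cosetGraph P₁ P₂).Adj n a) {g : G}
    (hg : g ∈ MulAction.stabilizer G n) (hga : g • a ≠ a)
    (hle : ∀ z ∈ vertexZ 2 a, g * z * g⁻¹ ∈ vertexZ 2 a) : False := by
  haveI := h.finite_Q a
  haveI : Finite (vertexZ 2 a) :=
    Finite.of_injective _ (Subgroup.inclusion_injective (h.Z_le_Q a))
  refine h.Z_ne_bot a (h.eq_bot_of_norm ha ((h.Z_le_Q a).trans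
    (edge_comm n a ▸ h.Q_le_edge ha.symm)) ?_ (h.Z_normal a))
  exact h.stab_le_of ha (fun e he => h.Z_normal a he.2) hg hga (mem_normalizer_of_conj hle)

theorem mem_Q_of_comm_V (ha : (cosetGraph P₁ P₂).Adj n a) {g : G}
    (hg : g ∈ MulAction.stabilizer G n) (hc : ∀ x ∈ V n, g * x = x * g) : g ∈ vertexQ 2 n := by
  obtain ⟨b, hb, hba⟩ := h.exists_other ha
  have fix : ∀ {w}, (cosetGraph P₁ P₂).Adj n w → g • w = w := fun {w} hw => by
    by_contra hne
    refine h.Z_not_normal hw hg hne fun z hz => ?_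
    rw [hc z (Z_le_V hw hz), mul_inv_cancel_right]; exact hz
  exact h.mem_Q_of_fix_two ha hb hba.symm hg (fix ha) (fix hb)

theorem V_not_le (h2 : 2 ≤ k) (hmin : MinDist P₁ P₂ k) (hA : IsA a)
    (hn : (cosetGraph P₁ P₂).Adj a n) {g : G}
    (hg : g ∈ MulAction.stabilizer G a) (hgn : g • n ≠ n)
    (hle : ∀ x ∈ V n, g * x * g⁻¹ ∈ V n) : False := by
  have hB := (adj_isA hn).1 hA
  have hle' := h.V_le_edge h2 hmin hB hn.symm
  haveI := h.finite_le_edge hle'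
  have hbot := h.eq_bot_of_norm hn (hle'.trans (edge_comm n a).le)
    (h.stab_le_of hn (fun e he => h.V_normal h2 hmin hB he.2) hg hgn (mem_normalizer_of_conj hle))
    (h.V_normal h2 hmin hB)
  exact h.Z_ne_bot a (le_bot_iff.1 (hbot ▸ Z_le_V hn.symm))

/-- The cores of two neighbours cut out different subgroups of the core. -/
theorem exists_Q_inter (h3 : 3 ≤ k) (hmin : MinDist P₁ P₂ k) (hB : ¬ IsA n)
    {a b : CosetVertex P₁ P₂} (ha : (cosetGraph P₁ P₂).Adj n a)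
    (hb : (cosetGraph P₁ P₂).Adj n b) (hab : a ≠ b) :
    ∃ q ∈ vertexQ 2 n, q ∈ vertexQ 2 a ∧ q ∉ vertexQ 2 b := by
  by_contra hcon
  push Not at hcon
  obtain ⟨k3, g, c⟩ := h.exists_cyc ha hb hab
  -- `Q_n ∩ Q_a` lies in the core of every neighbour
  have hall : ∀ q ∈ vertexQ 2 n, q ∈ vertexQ 2 a →
      ∀ w, (cosetGraph P₁ P₂).Adj n w → q ∈ vertexQ 2 w := by
    intro q hq hqa w hw
    obtain ⟨t, ht, htQ⟩ := h.exists_swap ha
    rcases h.neighbour_cases ha hb hab ht htQ hw with e | e | e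
    · rw [e]; exact hqa
    · rw [e]; exact hcon q hq hqa
    · have hh := conj_mem_Q t (hcon _ (h.normalizer_Q n (inv_mem ht.1) hq)
        (h.normalizer_Q a (inv_mem ht.2) hqa))
      rw [← e, show t * (t⁻¹ * q * t⁻¹⁻¹) * t⁻¹ = q by group] at hh
      exact hh
  have hKc : ∀ q ∈ vertexQ 2 n, q ∈ vertexQ 2 a → ∀ x ∈ V n, q * x = x * q :=
    fun q hq hqa x hx => h.comm_V (fun w hw z hz => h.Q_comm_Z (hall q hq hqa w hw) hz) hx
  have hedge : ∀ q ∈ vertexQ 2 n, q ∈ edgeStabilizer a n := fun q hq =>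
    ⟨h.Q_fix hq ha, h.Q_le_stab n hq⟩
  obtain ⟨c0, hc0, hc0a⟩ := h.exists_Q_diff ha
  refine h.Z_not_normal ha (mul_mem c.mem c.mem)
    (by rw [mul_smul, c.map₁, c.map₂]; exact c.ne₁₃.symm) fun x hx => ?_
  set y := g * x * g⁻¹ with hy
  set ζ := c0 * x * c0⁻¹ * x⁻¹ with hζ
  have hxV : x ∈ V n := Z_le_V ha hx
  have hyV : y ∈ V n := h.conj_mem_V_self c.mem hxV
  have hζZ : ζ ∈ vertexZ 2 n := h.comm_V_Q hB hc0 hxV
  have hc1 : g * c0 * g⁻¹ * c0 ∈ vertexQ 2 n := mul_mem (h.normalizer_Q n c.mem hc0) hc0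
  have hc1a : g * c0 * g⁻¹ * c0 ∈ vertexQ 2 a := by
    refine h.mul_mem_Q ha.symm (hedge _ (h.normalizer_Q n c.mem hc0)) (hedge _ hc0) (fun hh => ?_)
      hc0a
    have h1 := hall _ (h.normalizer_Q n c.mem hc0) hh b hb
    have h2 := conj_mem_Q g⁻¹ h1
    rw [inv_smul_eq_iff.2 c.map₁.symm, show g⁻¹ * (g * c0 * g⁻¹) * g⁻¹⁻¹ = c0 by group] at h2
    exact hc0a h2
  have hcy : c0 * y * c0⁻¹ = ζ * y := by
    have e2 : g * c0 * g⁻¹ * y * (g * c0 * g⁻¹)⁻¹ = ζ * y := by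
      calc g * c0 * g⁻¹ * y * (g * c0 * g⁻¹)⁻¹ = g * (c0 * x * c0⁻¹) * g⁻¹ := by rw [hy]; group
        _ = g * ζ * g⁻¹ * y := by rw [hy, hζ]; group
        _ = ζ * y := by rw [h.central n hB g c.mem ζ hζZ, mul_inv_cancel_right]
    have e3 : c0⁻¹ * y * c0 = ζ * y := by
      set d := g * c0 * g⁻¹ * c0 with hd
      have e4 := hKc d hc1 hc1a (ζ * y) (mul_mem (h.ZB_le_V hB hζZ) hyV)
      have e5 : d * (c0⁻¹ * y * c0) * d⁻¹ = ζ * y := by rw [← e2, hd]; group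
      calc c0⁻¹ * y * c0 = d⁻¹ * (d * (c0⁻¹ * y * c0) * d⁻¹) * d := by group
        _ = d⁻¹ * ((ζ * y) * d) := by rw [e5]; group
        _ = ζ * y := by rw [← e4]; group
    have e6 : c0 * ζ = ζ * c0 := h.central n hB c0 (h.Q_le_stab n hc0) ζ hζZ
    calc c0 * y * c0⁻¹ = c0 * (ζ * (ζ * y)) * c0⁻¹ := by rw [← mul_assoc ζ, h.Z_sq hζZ, one_mul]
      _ = ζ * (c0 * (ζ * y) * c0⁻¹) := by rw [← mul_assoc c0 ζ, e6]; group
      _ = ζ * (c0 * (c0⁻¹ * y * c0) * c0⁻¹) := by rw [e3]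
      _ = ζ * y := by group
  -- `x * y` is centralised by `Q_n`
  set w := x * y with hw
  have hwV : w ∈ V n := mul_mem hxV hyV
  have hwc : ∀ q ∈ vertexQ 2 n, q * w = w * q := by
    have h1 : c0 * w = w * c0 := by
      refine mul_inv_eq_iff_eq_mul.1 ?_
      calc c0 * w * c0⁻¹ = (c0 * x * c0⁻¹) * (c0 * y * c0⁻¹) := by rw [hw]; group
        _ = ζ * x * (ζ * y) := by rw [hcy, hζ]; group
        _ = ζ * (ζ * x) * y := by
            rw [show ζ * x * (ζ * y) = ζ * (x * ζ) * y by group,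
              ← h.V_comm h3 hmin hB (h.ZB_le_V hB hζZ) hxV]
        _ = ζ * ζ * w := by rw [hw]; simp only [mul_assoc]
        _ = w := by rw [h.Z_sq hζZ, one_mul]
    intro q hq
    by_cases hqa : q ∈ vertexQ 2 a
    · exact hKc q hq hqa w hwV
    have h2 := hKc _ (mul_mem hq hc0) (h.mul_mem_Q ha.symm (hedge q hq) (hedge c0 hc0) hqa hc0a)
      w hwV
    exact mul_right_cancel (show q * w * c0 = w * q * c0 by
      rw [mul_assoc q w, ← h1, mul_assoc w q, ← mul_assoc]; exact h2)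
  let K : Subgroup G :=
    { carrier := {p | p ∈ MulAction.stabilizer G n ∧ w * (p * w * p⁻¹) ∈ vertexZ 2 n}
      one_mem' := ⟨one_mem _, by rw [one_mul, inv_one, mul_one, h.V_sq h3 hmin hB hwV]; exact one_mem _⟩
      mul_mem' := fun {p₁ p₂} hp₁ hp₂ => ⟨mul_mem hp₁.1 hp₂.1, by
        have h1 := mul_mem hp₁.2 (h.conj_mem_Z_self hp₁.1 hp₂.2)
        have h2 := h.conj_mem_V_self hp₁.1 hwV
        rwa [show p₁ * (w * (p₂ * w * p₂⁻¹)) * p₁⁻¹ =
            p₁ * w * p₁⁻¹ * (p₁ * p₂ * w * (p₁ * p₂)⁻¹) by group, mul_assoc w,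
          ← mul_assoc (p₁ * w * p₁⁻¹) (p₁ * w * p₁⁻¹), h.V_sq h3 hmin hB h2, one_mul] at h1⟩
      inv_mem' := fun {p} hp => ⟨inv_mem hp.1, by
        have h1 := h.conj_mem_Z_self (inv_mem hp.1) hp.2
        rw [show p⁻¹ * (w * (p * w * p⁻¹)) * p⁻¹⁻¹ = p⁻¹ * w * p⁻¹⁻¹ * w by group,
          h.V_comm h3 hmin hB (h.conj_mem_V_self (inv_mem hp.1) hwV) hwV] at h1
        exact h1⟩ }
  have hswap : ∀ {v}, (cosetGraph P₁ P₂).Adj n v → ∀ s ∈ edgeStabilizer n v, s ∈ K := by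
    intro v hv s hs
    refine ⟨hs.1, ?_⟩
    by_cases hsQ : s ∈ vertexQ 2 n
    · rw [hwc s hsQ, mul_inv_cancel_right, h.V_sq h3 hmin hB hwV]; exact one_mem _
    have hp : w * (s * w * s⁻¹) ∈ V n := mul_mem hwV (h.conj_mem_V_self hs.1 hwV)
    refine h.mem_Z_of_comm hv (h.V_le_edge (by omega) hmin hB hv hp) (h.V_sq h3 hmin hB hp)
      fun e he => ?_
    refine Subgroup.mem_centralizer_singleton_iff.1
      (h.edge_le_of hv (C := Subgroup.centralizer ({w * (s * w * s⁻¹)} : Set G))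
        (fun q hq => Subgroup.mem_centralizer_singleton_iff.2 ?_) hs hsQ
        (Subgroup.mem_centralizer_singleton_iff.2 ?_) he)
    · have e1 := hwc q hq
      have e2 := hwc _ (h.normalizer_Q n (inv_mem hs.1) hq)
      have e3 : q * (s * w * s⁻¹) = s * w * s⁻¹ * q := by
        calc q * (s * w * s⁻¹) = s * (s⁻¹ * q * s⁻¹⁻¹ * w) * s⁻¹ := by group
          _ = s * (w * (s⁻¹ * q * s⁻¹⁻¹)) * s⁻¹ := by rw [e2]
          _ = s * w * s⁻¹ * q := by group
      rw [← mul_assoc, e1, mul_assoc, e3, ← mul_assoc]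
    · have e2 := hwc _ (h.sq_mem_Q hv hs)
      calc s * (w * (s * w * s⁻¹)) = s * w * s⁻¹ * (s * s * w * (s * s)⁻¹) * s := by group
        _ = s * w * s⁻¹ * w * s := by rw [e2, mul_inv_cancel_right]
        _ = w * (s * w * s⁻¹) * s := by
            rw [h.V_comm h3 hmin hB (h.conj_mem_V_self hs.1 hwV) hwV]
  obtain ⟨s, hs, hsQ⟩ := h.exists_swap ha
  obtain ⟨t, ht, htQ⟩ := h.exists_swap hb
  have hgK : g ∈ K := h.stab_le_of_two ha hb hab
    (fun q hq => hswap ha q (h.Q_le_edge ha hq)) hs hsQ (hswap ha s hs) ht htQ (hswap hb t ht) c.mem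
  have hfin := hgK.2
  rw [show w * (g * w * g⁻¹) = x * (g * x * g⁻¹ * y) * (g * g * x * (g * g)⁻¹) by
      rw [hw, hy]; group, ← hy, h.V_sq h3 hmin hB hyV, mul_one] at hfin
  have hA : IsA a := h.isA_of_adj hB ha
  have := mul_mem (inv_mem hx) (h.ZB_le hA ha.symm hfin)
  rwa [inv_mul_cancel_left] at this

/-- Two neighbours of a vertex of type B share only its `Z`. -/
theorem Z_inter (h3 : 3 ≤ k) (hmin : MinDist P₁ P₂ k) (hB : ¬ IsA n)
    {a b : CosetVertex P₁ P₂} (ha : (cosetGraph P₁ P₂).Adj n a)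
    (hb : (cosetGraph P₁ P₂).Adj n b) (hab : a ≠ b) {x : G} (hx : x ∈ vertexZ 2 a)
    (hx' : x ∈ vertexZ 2 b) : x ∈ vertexZ 2 n := by
  obtain ⟨q, hq, hqa, hqb⟩ := h.exists_Q_inter h3 hmin hB ha hb hab
  have hall : ∀ p ∈ vertexQ 2 n, p * x = x * p := by
    intro p hp
    by_cases hpb : p ∈ vertexQ 2 b
    · exact h.Q_comm_Z hpb hx'
    have h1 := h.Q_comm_Z (h.mul_mem_Q hb.symm ⟨h.Q_fix hp hb, h.Q_le_stab n hp⟩
      ⟨h.Q_fix hq hb, h.Q_le_stab n hq⟩ hpb hqb) hx'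
    rw [mul_assoc, h.Q_comm_Z hqa hx, ← mul_assoc, ← mul_assoc] at h1
    exact mul_right_cancel h1
  obtain ⟨c, hc, hca⟩ := h.exists_Q_diff ha
  exact h.mem_ZB_of_comm_swap ha.symm hx ⟨h.Q_fix hc ha, h.Q_le_stab n hc⟩ hca (hall c hc)

/-! ### Transitivity on walks -/

theorem transitive_of_movers {L : ℕ} {pA pB : ℕ → CosetVertex P₁ P₂}
    (hA : IsWalk L pA) (hA' : IsA (pA L)) (mA : HasMover L pA)
    (hB : IsWalk L pB) (hB' : ¬ IsA (pB L)) (mB : HasMover L pB) :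
    ∀ j ≤ L + 1, Transitive P₁ P₂ j := by
  intro j hj
  induction j with
  | zero =>
    intro p q _ _ hpq
    obtain ⟨g, hg⟩ := exists_smul_vertex hpq
    exact ⟨g, fun i hi => by rw [Nat.le_zero.1 hi]; exact hg⟩
  | succ j ih =>
    intro p q hp hq hpq
    have hp' : IsWalk j p := ⟨fun i hi => hp.adj i (by omega), fun i hi => hp.nb i (by omega)⟩
    have hq' : IsWalk j q := ⟨fun i hi => hq.adj i (by omega), fun i hi => hq.nb i (by omega)⟩
    obtain ⟨g, hg⟩ := ih (by omega) p q hp' hq' hpq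
    set x := g • p (j + 1)
    have hx : (cosetGraph P₁ P₂).Adj (q j) x := by
      rw [← hg j le_rfl]; exact adj_smul g (hp.adj j (by omega))
    have hy : (cosetGraph P₁ P₂).Adj (q j) (q (j + 1)) := hq.adj j (by omega)
    have finish : ∀ s : G, (∀ i ≤ j, s • q i = q i) → s • x = q (j + 1) →
        ∃ g : G, ∀ i ≤ j + 1, g • p i = q i := fun s hs hsx => ⟨s * g, fun i hi => by
      rcases Nat.of_le_succ hi with hi | rfl
      · rw [mul_smul, hg i hi, hs i hi]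
      · rw [mul_smul]; exact hsx⟩
    by_cases hxy : x = q (j + 1)
    · exact finish 1 (fun i _ => one_smul _ _) (by rw [one_smul, hxy])
    rcases Nat.eq_zero_or_pos j with rfl | hj0
    · obtain ⟨s, hs, hsx⟩ := exists_smul_neighbour hx hy
      exact finish s (fun i hi => by rw [Nat.le_zero.1 hi]; exact hs) hsx
    obtain ⟨r, hr, hrend, m, hm, hmQ⟩ : ∃ r : ℕ → CosetVertex P₁ P₂,
        IsWalk j r ∧ (IsA (r j) ↔ IsA (q j)) ∧ HasMover j r := by
      have suffix : ∀ (P : ℕ → CosetVertex P₁ P₂), IsWalk L P → HasMover L P →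
          IsWalk j (fun i => P (L - j + i)) ∧ HasMover j (fun i => P (L - j + i)) ∧
            L - j + j = L := by
        intro P hP ⟨m, hm, hmQ⟩
        have e : L - j + j = L := by omega
        refine ⟨⟨fun i hi => ?_, fun i hi => ?_⟩, ⟨m, fun i hi => hm _ (by omega), ?_⟩, e⟩
        · exact hP.adj (L - j + i) (by omega)
        · exact hP.nb (L - j + i) (by omega)
        · simpa only [e] using hmQ
      by_cases hqj : IsA (q j)
      · obtain ⟨h1, h2, e⟩ := suffix pA hA mA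
        exact ⟨_, h1, by simp only [e]; exact iff_of_true hA' hqj, h2⟩
      · obtain ⟨h1, h2, e⟩ := suffix pB hB mB
        exact ⟨_, h1, by simp only [e]; exact iff_of_false hB' hqj, h2⟩
    have hstart : IsA (r 0) ↔ IsA (q 0) := by
      have h1 := walk_isA hr.adj j le_rfl
      have h2 := walk_isA hq'.adj j le_rfl
      tauto
    obtain ⟨f, hf⟩ := ih (by omega) r q hr hq' hstart
    set s := f * m * f⁻¹
    have hs : ∀ i ≤ j, s • q i = q i := fun i hi => by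
      simp only [s, mul_smul]
      rw [inv_smul_eq_iff.2 (hf i hi).symm, hm i hi, hf i hi]
    have hsQ : s ∉ vertexQ 2 (q j) := fun hh => hmQ (by
      have := conj_mem_Q f⁻¹ hh
      rwa [inv_smul_eq_iff.2 (hf j le_rfl).symm,
        show f⁻¹ * (f * m * f⁻¹) * f⁻¹⁻¹ = m by group] at this)
    refine finish s hs ?_
    have hprev : (cosetGraph P₁ P₂).Adj (q j) (q (j - 1)) := by
      have := hq.adj (j - 1) (by omega)
      rw [show j - 1 + 1 = j by omega] at this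
      exact this.symm
    have h1 : q (j - 1) ≠ q (j + 1) := by
      have := hq.nb (j - 1) (by omega)
      rwa [show j - 1 + 2 = j + 1 by omega] at this
    have h2 : q (j - 1) ≠ x := by
      intro e
      rw [← hg (j - 1) (by omega)] at e
      have := hp.nb (j - 1) (by omega)
      rw [show j - 1 + 2 = j + 1 by omega] at this
      exact this (MulAction.injective g e)
    exact h.swap_eq hprev hx hy h2 h1 hxy ⟨hs j le_rfl, hs _ (by omega)⟩ hsQ

end Hyp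

end CfsgLib.LocalEven49.Goldschmidt
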